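import Mathlib.GroupTheory.GroupAction.Primitive
import Mathlib.GroupTheory.GroupAction.MultipleTransitivity
import Mathlib.GroupTheory.GroupAction.Quotient
import Mathlib.GroupTheory.Perm.Subgroup
import Mathlib.GroupTheory.PGroup
import Mathlib.GroupTheory.OrderOfElement
import Mathlib.GroupTheory.Perm.Cycle.Type
import Mathlib.Algebra.Group.Subgroup.Finite

/-!
Basic facts about permutation groups: semiregularity of centralisers, regular subgroups,
minimal normal subgroups.
-/

namespace CfsgLib.Perm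

open MulAction

section General

variable {G : Type*} [Group G] {α : Type*} [MulAction G α]

/-- Evaluation at a point is injective on a semiregular subgroup. -/
theorem smul_left_injective_of_stabilizer_eq_bot {N : Subgroup G} {a : α}
    (h : stabilizer N a = ⊥) : Function.Injective fun n : N => n • a := by
  intro m n hmn
  have : n⁻¹ * m ∈ stabilizer N a := by
    rw [mem_stabilizer_iff, mul_smul, show m • a = n • a from hmn, inv_smul_smul]
  rw [h, Subgroup.mem_bot, inv_mul_eq_one] at this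
  exact this.symm

/-- A regular subgroup is in bijection with the set. -/
noncomputable def regularEquiv (N : Subgroup G) (a : α) (ht : IsPretransitive N α)
    (hs : stabilizer N a = ⊥) : N ≃ α :=
  Equiv.ofBijective (fun n : N => n • a)
    ⟨smul_left_injective_of_stabilizer_eq_bot hs, fun b => exists_smul_eq N a b⟩

@[simp] theorem regularEquiv_apply (N : Subgroup G) (a : α) (ht : IsPretransitive N α)
    (hs : stabilizer N a = ⊥) (n : N) : regularEquiv N a ht hs n = n • a := rfl

theorem card_eq_of_regular (N : Subgroup G) (a : α) (ht : IsPretransitive N α)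
    (hs : stabilizer N a = ⊥) : Nat.card N = Nat.card α :=
  Nat.card_congr (regularEquiv N a ht hs)

/-- If `M` is transitive and commutes with `N`, then `N` is semiregular (faithful action). -/
theorem eq_one_of_commute_transitive [FaithfulSMul G α] (M : Subgroup G) [IsPretransitive M α]
    {c : G} (hc : ∀ m ∈ M, m * c = c * m) {a : α} (ha : c • a = a) : c = 1 := by
  refine FaithfulSMul.eq_of_smul_eq_smul (α := α) fun b => ?_
  obtain ⟨m, rfl⟩ := exists_smul_eq M a b
  rw [one_smul, Subgroup.smul_def, smul_smul, ← hc m m.2, mul_smul, ha]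

theorem stabilizer_eq_bot_of_commute [FaithfulSMul G α] (M N : Subgroup G) [IsPretransitive M α]
    (h : ∀ m ∈ M, ∀ n ∈ N, m * n = n * m) (a : α) : stabilizer N a = ⊥ := by
  rw [eq_bot_iff]
  intro n hn
  rw [Subgroup.mem_bot]
  ext
  exact eq_one_of_commute_transitive M (fun m hm => h m hm n n.2) (a := a) hn

/-- If `N` is transitive and both `N` and `c` centralise the transitive `M`, then `c ∈ N`. -/
theorem mem_of_commute_of_transitive [FaithfulSMul G α] [Nonempty α] (M N : Subgroup G)
    [IsPretransitive M α] [IsPretransitive N α] (h : ∀ m ∈ M, ∀ n ∈ N, m * n = n * m)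
    {c : G} (hc : ∀ m ∈ M, m * c = c * m) : c ∈ N := by
  obtain ⟨a⟩ := ‹Nonempty α›
  obtain ⟨n, hn⟩ := exists_smul_eq N a (c • a)
  have hn' : (n : G) • a = c • a := hn
  have key : (n : G)⁻¹ * c = 1 := by
    refine eq_one_of_commute_transitive M (a := a) (fun m hm => ?_) ?_
    · have h1 : m * (n : G)⁻¹ = (n : G)⁻¹ * m := h m hm _ (N.inv_mem n.2)
      rw [← mul_assoc, h1, mul_assoc, hc m hm, mul_assoc]
    · rw [mul_smul, ← hn', inv_smul_smul]
  rw [inv_mul_eq_one] at key
  exact key ▸ n.2

/-- The action of a point stabiliser on the points is conjugation on a regular normal subgroup. -/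
theorem smul_smul_of_fix {g n : G} {a : α} (hg : g • a = a) :
    g • (n • a) = (g * n * g⁻¹) • a := by
  have : g⁻¹ • a = a := by rw [inv_smul_eq_iff, hg]
  rw [mul_smul, this, mul_smul]

/-- Distinct minimal normal subgroups commute elementwise. -/
theorem commute_of_minimal_normal {M N : Subgroup G} [M.Normal] [N.Normal]
    (hMmin : ∀ L : Subgroup G, L.Normal → L ≤ M → L = ⊥ ∨ L = M) (hNM : ¬ M ≤ N) :
    ∀ m ∈ M, ∀ n ∈ N, m * n = n * m := by
  have h : M ⊓ N = ⊥ := by
    rcases hMmin (M ⊓ N) inferInstance inf_le_left with h | h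
    · exact h
    · exact absurd (inf_eq_left.mp h) hNM
  exact fun m hm n hn =>
    Subgroup.commute_of_normal_of_disjoint M N inferInstance inferInstance
      (disjoint_iff.mpr h) m n hm hn

/-- A nontrivial normal subgroup of a faithful primitive action is transitive. -/
theorem isPretransitive_of_normal [FaithfulSMul G α] [IsPreprimitive G α] (N : Subgroup G)
    [N.Normal] (hN : N ≠ ⊥) : IsPretransitive N α := by
  refine IsQuasiPreprimitive.isPretransitive_of_normal ?_
  intro h
  apply hN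
  rw [Subgroup.eq_bot_iff_forall]
  intro n hn
  refine FaithfulSMul.eq_of_smul_eq_smul (α := α) fun b => ?_
  have hb : b ∈ fixedPoints N α := by rw [h]; trivial
  rw [one_smul]
  exact hb ⟨n, hn⟩

/-- A finite group all of whose nontrivial elements have the same order has prime exponent. -/
theorem exists_prime_forall_pow_eq_one {H : Type*} [Group H] [Finite H] [Nontrivial H]
    (h : ∀ x y : H, x ≠ 1 → y ≠ 1 → orderOf x = orderOf y) :
    ∃ p : ℕ, p.Prime ∧ (∀ x : H, x ^ p = 1) ∧ IsPGroup p H := by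
  obtain ⟨x, hx⟩ := exists_ne (1 : H)
  have h1 : orderOf x ≠ 1 := by rwa [Ne, orderOf_eq_one_iff]
  obtain ⟨p, hp, hpd⟩ := Nat.exists_prime_and_dvd h1
  have hy : orderOf (x ^ (orderOf x / p)) = p :=
    orderOf_pow_orderOf_div (orderOf_pos x).ne' hpd
  have hyne : x ^ (orderOf x / p) ≠ 1 := fun e => hp.one_lt.ne' (by rw [← hy, e, orderOf_one])
  have hall : ∀ z : H, z ^ p = 1 := fun z => by
    by_cases hz : z = 1
    · rw [hz, one_pow]
    · rw [← hy, h _ z hyne hz, pow_orderOf_eq_one]
  exact ⟨p, hp, hall, fun z => ⟨1, by rw [pow_one, hall]⟩⟩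

/-- A finite normal subgroup on whose nontrivial elements `G` is transitive by conjugation is
elementary abelian. -/
theorem isMulCommutative_of_conj_transitive {N : Subgroup G} [N.Normal] [Finite N] (hN : N ≠ ⊥)
    (h : ∀ x ∈ N, ∀ y ∈ N, x ≠ 1 → y ≠ 1 → ∃ g : G, g * x * g⁻¹ = y) :
    IsMulCommutative N ∧ ∃ p : ℕ, p.Prime ∧ ∀ n ∈ N, n ^ p = 1 := by
  haveI : Nontrivial N := (Subgroup.nontrivial_iff_ne_bot N).mpr hN
  have horder : ∀ x y : N, x ≠ 1 → y ≠ 1 → orderOf x = orderOf y := by
    intro x y hx hy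
    obtain ⟨g, hg⟩ := h x x.2 y y.2 (fun e => hx (Subtype.ext e)) (fun e => hy (Subtype.ext e))
    rw [← Subgroup.orderOf_coe x, ← Subgroup.orderOf_coe y, ← hg]
    exact (orderOf_injective (MulAut.conj g).toMonoidHom (MulAut.conj g).injective _).symm
  obtain ⟨p, hp, hexp, hpg⟩ := exists_prime_forall_pow_eq_one horder
  refine ⟨⟨⟨fun a b => ?_⟩⟩, p, hp, fun n hn => by
    simpa using congrArg Subtype.val (hexp ⟨n, hn⟩)⟩
  haveI : Fact p.Prime := ⟨hp⟩
  haveI := hpg.center_nontrivial
  obtain ⟨⟨z, hzc⟩, hz⟩ := exists_ne (1 : Subgroup.center N)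
  have hz1 : z ≠ 1 := fun e => hz (Subtype.ext e)
  by_cases ha : a = 1
  · simp [ha]
  obtain ⟨g, hg⟩ := h z z.2 a a.2 (fun e => hz1 (Subtype.ext e)) (fun e => ha (Subtype.ext e))
  have hb : g⁻¹ * (b : G) * g ∈ N := by
    simpa using ‹N.Normal›.conj_mem _ b.2 g⁻¹
  have hcomm := congrArg Subtype.val (Subgroup.mem_center_iff.mp hzc ⟨_, hb⟩)
  simp only [Subgroup.coe_mul] at hcomm
  apply Subtype.ext
  simp only [Subgroup.coe_mul]
  rw [← hg]
  calc g * (z : G) * g⁻¹ * (b : G) = g * ((z : G) * (g⁻¹ * (b : G) * g)) * g⁻¹ := by group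
    _ = g * (g⁻¹ * (b : G) * g * (z : G)) * g⁻¹ := by rw [hcomm]
    _ = (b : G) * (g * (z : G) * g⁻¹) := by group

/-- For a regular normal subgroup of a group whose point stabiliser is transitive on the other
points, conjugation is transitive on the nontrivial elements. -/
theorem conj_transitive_of_regular [IsMultiplyPretransitive G α 2] (N : Subgroup G) [N.Normal]
    (hreg : ∀ a : α, stabilizer N a = ⊥) (a : α) :
    ∀ x ∈ N, ∀ y ∈ N, x ≠ 1 → y ≠ 1 → ∃ g : G, g • a = a ∧ g * x * g⁻¹ = y := by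
  intro x hx y hy hx1 hy1
  have hxa : a ≠ x • a := fun e => hx1 <| by
    have h : (⟨x, hx⟩ : N) ∈ stabilizer N a := e.symm
    rw [hreg a, Subgroup.mem_bot] at h
    exact congrArg Subtype.val h
  have hya : a ≠ y • a := fun e => hy1 <| by
    have h : (⟨y, hy⟩ : N) ∈ stabilizer N a := e.symm
    rw [hreg a, Subgroup.mem_bot] at h
    exact congrArg Subtype.val h
  obtain ⟨g, hga, hgb⟩ := (is_two_pretransitive_iff (G := G) (α := α)).mp ‹_› hxa hya
  refine ⟨g, hga, ?_⟩
  have h2 : (g * x * g⁻¹) • a = y • a := by rw [← smul_smul_of_fix hga, hgb]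
  exact congrArg Subtype.val
    (smul_left_injective_of_stabilizer_eq_bot (hreg a)
      (a₁ := ⟨_, ‹N.Normal›.conj_mem x hx g⟩) (a₂ := ⟨y, hy⟩) h2)

theorem regular_normal_elementary_abelian [Finite α] [Nonempty α] [IsMultiplyPretransitive G α 2]
    (N : Subgroup G) [N.Normal] (hN : N ≠ ⊥) (hreg : ∀ a : α, stabilizer N a = ⊥) :
    IsMulCommutative N ∧ ∃ p : ℕ, p.Prime ∧ ∀ n ∈ N, n ^ p = 1 := by
  obtain ⟨a⟩ := ‹Nonempty α›
  haveI : Finite N := Finite.of_injective _ (smul_left_injective_of_stabilizer_eq_bot (hreg a))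
  refine isMulCommutative_of_conj_transitive hN fun x hx y hy hx1 hy1 => ?_
  obtain ⟨g, -, hg⟩ := conj_transitive_of_regular N hreg a x hx y hy hx1 hy1
  exact ⟨g, hg⟩

end General

section Subgroups

variable {G : Type*} [Group G] {α : Type*} [MulAction G α]

theorem isPretransitive_map_subtype {H : Subgroup G} (M : Subgroup H)
    [IsPretransitive M α] : IsPretransitive (M.map H.subtype) α :=
  ⟨fun a b => by
    obtain ⟨m, hm⟩ := exists_smul_eq M a b
    exact ⟨⟨((m : H) : G), Subgroup.mem_map_of_mem H.subtype m.2⟩, hm⟩⟩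

/-- An abelian transitive subgroup of a faithful action is regular. -/
theorem stabilizer_eq_bot_of_commutative [FaithfulSMul G α] (M : Subgroup G) [IsPretransitive M α]
    (hab : IsMulCommutative M) (a : α) : stabilizer M a = ⊥ :=
  stabilizer_eq_bot_of_commute M M
    (fun m hm n hn => congrArg Subtype.val (hab.is_comm.comm ⟨m, hm⟩ ⟨n, hn⟩)) a

/-- An abelian minimal normal subgroup of a finite group has prime exponent. -/
theorem exists_prime_exponent_of_minimal {M : Subgroup G} [M.Normal] [Finite M] (hM : M ≠ ⊥)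
    (hmin : ∀ L : Subgroup G, L.Normal → L ≤ M → L = ⊥ ∨ L = M) (hab : IsMulCommutative M) :
    ∃ p : ℕ, p.Prime ∧ ∀ m ∈ M, m ^ p = 1 := by
  have hcard : Nat.card M ≠ 1 := by
    intro h
    exact hM (Subgroup.card_eq_one.mp h)
  obtain ⟨p, hp, hpd⟩ := Nat.exists_prime_and_dvd hcard
  haveI : Fact p.Prime := ⟨hp⟩
  obtain ⟨x, hx⟩ := exists_prime_orderOf_dvd_card' p hpd
  let L : Subgroup G :=
    { carrier := {m | m ∈ M ∧ m ^ p = 1}
      one_mem' := ⟨M.one_mem, one_pow p⟩
      mul_mem' := by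
        rintro u v ⟨hu, hu'⟩ ⟨hv, hv'⟩
        refine ⟨M.mul_mem hu hv, ?_⟩
        rw [Commute.mul_pow (congrArg Subtype.val (hab.is_comm.comm ⟨u, hu⟩ ⟨v, hv⟩)), hu', hv',
          one_mul]
      inv_mem' := by
        rintro u ⟨hu, hu'⟩
        exact ⟨M.inv_mem hu, by rw [inv_pow, hu', inv_one]⟩ }
  have hL : L.Normal := ⟨fun m hm g => ⟨‹M.Normal›.conj_mem m hm.1 g, by
    rw [conj_pow, hm.2, mul_one, mul_inv_cancel]⟩⟩
  refine ⟨p, hp, fun m hm => ?_⟩
  rcases hmin L hL (fun m hm => hm.1) with h | h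
  · exfalso
    have hxL : (x : G) ∈ L := ⟨x.2, by
      simpa [hx] using congrArg Subtype.val (pow_orderOf_eq_one x)⟩
    rw [h, Subgroup.mem_bot] at hxL
    have : x = 1 := Subtype.ext hxL
    rw [this, orderOf_one] at hx
    exact hp.one_lt.ne hx
  · rw [← h] at hm
    exact hm.2

end Subgroups

end CfsgLib.Perm
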