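import Cfsg.Agent.Lib.Perm.SharpTwo
import Mathlib.GroupTheory.GroupAction.MultiplePrimitivity
import Mathlib.GroupTheory.SpecificGroups.Alternating.Simple
import Mathlib.Data.Fintype.Perm

/-!
Normal subgroups of multiply transitive and multiply primitive groups.
-/

namespace CfsgLib.Perm

open MulAction
open scoped Pointwise

section Multiply

variable {G : Type*} [Group G] {α : Type*} [MulAction G α]

/-- A finite group which is transitive on `k`-tuples has order divisible by their number. -/
theorem descFactorial_dvd_card [Finite α] {k : ℕ} (hk : k ≤ Nat.card α)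
    [IsMultiplyPretransitive G α k] : (Nat.card α).descFactorial k ∣ Nat.card G := by
  classical
  haveI : Fintype α := Fintype.ofFinite α
  rw [Nat.card_eq_fintype_card (α := α)] at hk ⊢
  have hne : Nonempty (Fin k ↪ α) := Function.Embedding.nonempty_of_card_le (by simpa using hk)
  obtain ⟨x⟩ := hne
  have h := index_stabilizer_of_transitive G x
  rw [Nat.card_eq_fintype_card (α := Fin k ↪ α), Fintype.card_embedding_eq, Fintype.card_fin] at h
  rw [← h]
  exact Subgroup.index_dvd_card _

theorem descFactorial_of_le_succ {n k : ℕ} (hk : k ≤ n) (h : n ≤ k + 1) :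
    n.descFactorial k = n.factorial := by
  rcases Nat.eq_or_lt_of_le hk with rfl | h'
  · rw [Nat.descFactorial_self]
  · have hn : n = k + 1 := by omega
    have := Nat.factorial_mul_descFactorial hk
    subst hn
    rw [show k + 1 - k = 1 by omega, Nat.factorial_one, one_mul] at this
    exact this

/-- Faithful groups smaller than the symmetric group are not `(n-1)`-transitive. -/
theorem lt_of_card_lt_factorial [Finite α] [Finite G] {k : ℕ} (hk : k ≤ Nat.card α)
    [IsMultiplyPretransitive G α k] (hG : Nat.card G < (Nat.card α).factorial) :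
    k + 1 < Nat.card α := by
  by_contra h
  have := Nat.le_of_dvd Nat.card_pos (descFactorial_dvd_card (G := G) (α := α) hk)
  rw [descFactorial_of_le_succ hk (by omega)] at this
  omega

theorem card_lt_factorial_of_ne_top {β : Type*} [Finite β] {K : Subgroup (Equiv.Perm β)}
    (h : K ≠ ⊤) : Nat.card K < (Nat.card β).factorial := by
  rw [← Nat.card_perm]
  exact lt_of_le_of_ne (Nat.le_of_dvd Nat.card_pos (Subgroup.card_subgroup_dvd_card K))
    fun he => h (Subgroup.eq_top_of_card_eq K he)

/-- `k`-transitive groups are `(k-1)`-primitive. -/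
theorem isMultiplyPreprimitive_pred [Finite α] {k : ℕ} (hk : k + 1 ≤ Nat.card α)
    [IsMultiplyPretransitive G α (k + 1)] : IsMultiplyPreprimitive G α k := by
  haveI : IsMultiplyPretransitive G α k :=
    isMultiplyPretransitive_of_le (n := k + 1) (Nat.le_succ k) hk
  refine ⟨‹_›, fun {s} hs => ?_⟩
  have hs' : s.ncard + 1 = k := by
    rw [← Set.Finite.cast_ncard_eq (Set.toFinite s)] at hs
    exact_mod_cast hs
  refine isPreprimitive_of_is_two_pretransitive ?_
  exact SubMulAction.ofFixingSubgroup.isMultiplyPretransitive (n := k + 1) G s (by omega)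

/-- In a primitive action no pair stabilised by conjugation exists; regular normal subgroups of
groups with primitive stabilisers. -/
theorem smul_mem_eq_of_isPreprimitive_pair {Γ : Type*} [Group Γ] {β : Type*} [MulAction Γ β]
    [Finite β] [IsPreprimitive Γ β] {u v : β} (huv : u ≠ v)
    (h : ∀ g : Γ, u ∈ g • ({u, v} : Set β) → v ∈ g • ({u, v} : Set β)) :
    Nat.card β = 2 := by
  by_contra hne
  have hA : ({u, v} : Set β) ≠ Set.univ := fun e => hne (by
    rw [← Set.ncard_univ, ← e, Set.ncard_pair huv])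
  obtain ⟨g, h1, h2⟩ := IsPreprimitive.exists_mem_smul_and_notMem_smul (G := Γ)
    (A := ({u, v} : Set β)) (Set.toFinite _) (Set.insert_nonempty _ _) hA huv
  exact h2 (h g h1)

/-- Doubly primitive groups with a regular normal subgroup. -/
theorem two_primitive_regular_normal [Finite α] (hX : 2 ≤ Nat.card α)
    [IsMultiplyPreprimitive G α 2] (N : Subgroup G) [N.Normal] [IsPretransitive N α]
    (hreg : ∀ a : α, stabilizer N a = ⊥) :
    Nat.card α = 3 ∨
      (IsMulCommutative N ∧ (∀ n ∈ N, n ^ 2 = 1) ∧ ∃ m : ℕ, Nat.card α = 2 ^ m) := by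
  haveI : Nontrivial α := Finite.one_lt_card_iff_nontrivial.mp (by omega)
  obtain ⟨a, b, hab⟩ := exists_pair_ne α
  haveI : Finite N := Finite.of_equiv α (regularEquiv N a ‹_› (hreg a)).symm
  have hcard : Nat.card N = Nat.card α := card_eq_of_regular N a ‹_› (hreg a)
  have hN : N ≠ ⊥ := fun h => by
    subst h
    rw [Subgroup.card_bot] at hcard
    omega
  obtain ⟨hcomm, p, hp, hexp⟩ := regular_normal_elementary_abelian N hN hreg
  haveI : Fact p.Prime := ⟨hp⟩
  by_cases hp2 : p = 2
  · subst hp2
    obtain ⟨m, hm⟩ := IsPGroup.iff_card.mp (show IsPGroup 2 N from fun x =>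
      ⟨1, Subtype.ext (by simpa using hexp x x.2)⟩)
    exact Or.inr ⟨hcomm, hexp, m, by rw [← hcard, hm]⟩
  left
  obtain ⟨n, hn⟩ := exists_smul_eq N a b
  have hn1 : n ≠ 1 := fun h => hab (by rw [← hn, h, one_smul])
  have hinv : n⁻¹ ≠ n := fun h => by
    have h2 : n ^ 2 = 1 := by rw [pow_two]; nth_rewrite 1 [← h]; rw [inv_mul_cancel]
    have hp' : n ^ p = 1 := Subtype.ext (by simpa using hexp n n.2)
    have := Nat.dvd_gcd (orderOf_dvd_of_pow_eq_one h2) (orderOf_dvd_of_pow_eq_one hp')
    rw [(Nat.coprime_primes Nat.prime_two hp).mpr (Ne.symm hp2), Nat.dvd_one, orderOf_eq_one_iff] at this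
    exact hn1 this
  haveI := IsMultiplyPreprimitive.isPreprimitive_ofFixingSubgroup G 2 (α := α) (s := {a})
    (by norm_num)
  have hne : ∀ m : N, m ≠ 1 → m • a ∈ SubMulAction.ofFixingSubgroup G ({a} : Set α) := by
    intro m hm h
    apply hm
    have : m ∈ stabilizer N a := h
    rwa [hreg a, Subgroup.mem_bot] at this
  let u : SubMulAction.ofFixingSubgroup G ({a} : Set α) := ⟨n • a, hne n hn1⟩
  let v : SubMulAction.ofFixingSubgroup G ({a} : Set α) :=
    ⟨n⁻¹ • a, hne n⁻¹ (fun h => hn1 (inv_eq_one.mp h))⟩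
  have huv : u ≠ v := fun h => hinv
    (smul_left_injective_of_stabilizer_eq_bot (hreg a) (congrArg Subtype.val h).symm)
  have key := smul_mem_eq_of_isPreprimitive_pair (Γ := fixingSubgroup G ({a} : Set α)) huv ?_
  · have h2 : Nat.card (SubMulAction.ofFixingSubgroup G ({a} : Set α)) + 1 = Nat.card α := by
      rw [← Set.ncard_univ α, ← Set.union_compl_self ({a} : Set α),
        Set.ncard_union_eq disjoint_compl_right (Set.toFinite _) (Set.toFinite _),
        Set.ncard_singleton, add_comm]
      rfl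
    omega
  intro g hg
  have hga : (g : G) • a = a := g.2 ⟨a, rfl⟩
  have hgm : ∀ m : N, (g : G) • (m • a) =
      (⟨(g : G) * m * (g : G)⁻¹, ‹N.Normal›.conj_mem _ m.2 _⟩ : N) • a :=
    fun m => smul_smul_of_fix hga
  set gn : N := ⟨(g : G) * n * (g : G)⁻¹, ‹N.Normal›.conj_mem _ n.2 _⟩ with hgn
  have hgninv : (⟨(g : G) * (n⁻¹ : N) * (g : G)⁻¹, ‹N.Normal›.conj_mem _ (n⁻¹ : N).2 _⟩ : N) = gn⁻¹ :=
    Subtype.ext (by simp [hgn, mul_assoc])
  rcases Set.mem_smul_set.mp hg with ⟨y, hy, hyu⟩
  rcases hy with rfl | rfl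
  · have h1 : gn • a = n • a := (hgm n).symm.trans (congrArg Subtype.val hyu)
    have h2 := smul_left_injective_of_stabilizer_eq_bot (hreg a) h1
    refine Set.mem_smul_set.mpr ⟨v, Set.mem_insert_of_mem _ rfl, Subtype.ext ?_⟩
    show (g : G) • (n⁻¹ • a) = n⁻¹ • a
    rw [hgm, hgninv, h2]
  · have h1 : gn⁻¹ • a = n • a := by
      rw [← hgninv, ← hgm]; exact congrArg Subtype.val hyu
    have h2 := smul_left_injective_of_stabilizer_eq_bot (hreg a) h1
    refine Set.mem_smul_set.mpr ⟨u, Set.mem_insert _ _, Subtype.ext ?_⟩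
    show (g : G) • (n • a) = n⁻¹ • a
    rw [hgm, ← hgn, inv_eq_iff_eq_inv.mp h2]

/-- In a triply transitive group a regular normal subgroup is an elementary abelian 2-group,
unless the degree is 3. -/
theorem three_transitive_regular_normal [Finite α] (hX : 4 ≤ Nat.card α)
    [IsMultiplyPretransitive G α 3] (N : Subgroup G) [N.Normal] [IsPretransitive N α]
    (hreg : ∀ a : α, stabilizer N a = ⊥) :
    IsMulCommutative N ∧ (∀ n ∈ N, n ^ 2 = 1) ∧ ∃ m : ℕ, Nat.card α = 2 ^ m := by
  haveI : IsMultiplyPreprimitive G α 2 := isMultiplyPreprimitive_pred (k := 2) (by omega)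
  rcases two_primitive_regular_normal (G := G) (α := α) (by omega) N hreg with h | h
  · omega
  · exact h

/-- A triply primitive group with a regular normal subgroup has degree at most 4. -/
theorem three_primitive_regular_normal [Finite α] (hX : 3 ≤ Nat.card α)
    [IsMultiplyPreprimitive G α 3] (N : Subgroup G) [N.Normal] [IsPretransitive N α]
    (hreg : ∀ a : α, stabilizer N a = ⊥) : Nat.card α = 3 ∨ Nat.card α = 4 := by
  by_contra hcon
  obtain ⟨hcomm, hexp, -⟩ := three_transitive_regular_normal (G := G) (α := α) (by omega) N hreg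
  haveI : Nontrivial α := Finite.one_lt_card_iff_nontrivial.mp (by omega)
  obtain ⟨x, y, hxy⟩ := exists_pair_ne α
  obtain ⟨n, hn⟩ := exists_smul_eq N x y
  haveI := IsMultiplyPreprimitive.isPreprimitive_ofFixingSubgroup G 3 (α := α)
    (s := {x, y}) (by rw [Set.encard_pair hxy]; norm_num)
  obtain ⟨c, hc⟩ : ∃ c, c ∉ ({x, y} : Set α) := by
    by_contra h
    push Not at h
    have : Nat.card α = 2 := by
      rw [← Set.ncard_univ, ← Set.eq_univ_of_forall h, Set.ncard_pair hxy]
    omega
  have hn1 : n ≠ 1 := fun h => hxy (by rw [← hn, h, one_smul])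
  have hnn : n * n = 1 := Subtype.ext (by simpa [pow_two] using hexp n n.2)
  have hnc : n • c ≠ c := fun h => hn1 (by
    have : n ∈ stabilizer N c := h
    rwa [hreg c, Subgroup.mem_bot] at this)
  have hnc' : n • c ∉ ({x, y} : Set α) := by
    rintro (h | h)
    · exact hc (Or.inr (show c = y by rw [← hn, ← h, smul_smul, hnn, one_smul]))
    · exact hc (Or.inl (MulAction.injective n (show n • c = n • x by rw [hn]; exact h)))
  let u : SubMulAction.ofFixingSubgroup G ({x, y} : Set α) := ⟨c, hc⟩
  let v : SubMulAction.ofFixingSubgroup G ({x, y} : Set α) := ⟨n • c, hnc'⟩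
  have key := smul_mem_eq_of_isPreprimitive_pair (Γ := fixingSubgroup G ({x, y} : Set α))
    (u := u) (v := v) (fun h => hnc (congrArg Subtype.val h).symm) ?_
  · have h2 : Nat.card (SubMulAction.ofFixingSubgroup G ({x, y} : Set α)) + 2 = Nat.card α := by
      rw [← Set.ncard_univ α, ← Set.union_compl_self ({x, y} : Set α),
        Set.ncard_union_eq disjoint_compl_right (Set.toFinite _) (Set.toFinite _),
        Set.ncard_pair hxy, add_comm]
      rfl
    omega
  intro g hg
  have hgx : (g : G) • x = x := g.2 ⟨x, Or.inl rfl⟩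
  have hgy : (g : G) • y = y := g.2 ⟨y, Or.inr rfl⟩
  have hgn : (g : G) * n * (g : G)⁻¹ = n := congrArg Subtype.val
    (smul_left_injective_of_stabilizer_eq_bot (hreg x)
      (a₁ := ⟨_, ‹N.Normal›.conj_mem _ n.2 _⟩) (a₂ := n)
      (show ((g : G) * n * (g : G)⁻¹) • x = n • x by
        rw [← smul_smul_of_fix hgx]; exact (congrArg ((g : G) • ·) hn).trans (hgy.trans hn.symm)))
  have hcomm' : ∀ z : α, (g : G) • (n • z) = n • ((g : G) • z) := fun z => by
    show (g : G) • ((n : G) • z) = (n : G) • ((g : G) • z)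
    rw [smul_smul, smul_smul]
    congr 1
    nth_rewrite 2 [← hgn]
    group
  rcases Set.mem_smul_set.mp hg with ⟨w, hw, hwu⟩
  have hwu' : (g : G) • (w : α) = c := congrArg Subtype.val hwu
  rcases hw with rfl | rfl
  · refine Set.mem_smul_set.mpr ⟨v, Or.inr rfl, Subtype.ext ?_⟩
    show (g : G) • (n • c) = n • c
    rw [hcomm', hwu']
  · refine Set.mem_smul_set.mpr ⟨u, Or.inl rfl, Subtype.ext ?_⟩
    show (g : G) • c = n • c
    rw [hcomm'] at hwu'
    have h3 := congrArg (n • ·) hwu'
    simp only [smul_smul, hnn, one_smul] at h3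
    exact h3

end Multiply

end CfsgLib.Perm
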