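import Cfsg.Agent.Lib.Perm.Basic
import Mathlib.GroupTheory.Sylow
import Mathlib.Data.Fintype.CardEmbedding
import Mathlib.GroupTheory.Subgroup.Centralizer

/-!
Finite sharply two-transitive permutation groups have a regular normal elementary abelian subgroup
consisting of the identity and the fixed point free elements.
-/

namespace CfsgLib.Perm

open MulAction

section SharpTwo

variable {G : Type*} [Group G] {α : Type*} [MulAction G α]

/-- An ordered pair of distinct points as an embedding. -/
def pairEmbedding {a b : α} (hab : a ≠ b) : Fin 2 ↪ α where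
  toFun := ![a, b]
  inj' := fun i j h => by
    fin_cases i <;> fin_cases j
    · rfl
    · exact absurd h hab
    · exact absurd h.symm hab
    · rfl

theorem eq_one_of_sharp (hsharp : ∀ x : Fin 2 ↪ α, stabilizer G x = ⊥)
    {g : G} {a b : α} (hab : a ≠ b) (ha : g • a = a) (hb : g • b = b) : g = 1 := by
  let x : Fin 2 ↪ α := pairEmbedding hab
  have hx : g ∈ stabilizer G x := by
    rw [mem_stabilizer_iff]
    ext i
    fin_cases i
    · exact ha
    · exact hb
  rwa [hsharp x, Subgroup.mem_bot] at hx

theorem exists_regular_kernel [Finite G] [Fintype α] [DecidableEq α]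
    [IsMultiplyPretransitive G α 2]
    (hsharp : ∀ x : Fin 2 ↪ α, stabilizer G x = ⊥) (h2 : 2 ≤ Fintype.card α) :
    ∃ (K : Subgroup G) (p j : ℕ), K.Normal ∧ p.Prime ∧ 1 ≤ j ∧ Fintype.card α = p ^ j ∧
      Nat.card G = p ^ j * (p ^ j - 1) ∧ Nat.card K = p ^ j ∧
      IsMulCommutative K ∧ (∀ x ∈ K, x ^ p = 1) ∧ IsPretransitive K α ∧
      (∀ a : α, stabilizer K a = ⊥) ∧ ∀ g : G, g ∈ K ↔ g = 1 ∨ ∀ a : α, g • a ≠ a := by
  classical
  haveI : Nonempty α := Fintype.card_pos_iff.mp (by omega)
  haveI : Nontrivial α := Fintype.one_lt_card_iff_nontrivial.mp (by omega)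
  haveI : IsPretransitive G α := isPretransitive_of_is_two_pretransitive
  haveI : FaithfulSMul G α := ⟨fun {g h} hgh => by
    obtain ⟨a, b, hab⟩ := exists_pair_ne α
    have := eq_one_of_sharp hsharp (g := h⁻¹ * g) hab (by rw [mul_smul, hgh, inv_smul_smul])
      (by rw [mul_smul, hgh, inv_smul_smul])
    exact (inv_mul_eq_one.mp this).symm⟩
  letI := Fintype.ofFinite G
  set n := Fintype.card α with hn
  obtain ⟨a₀, b₀, hab₀⟩ := exists_pair_ne α
  have hG : Nat.card G = n * (n - 1) := by
    let x : Fin 2 ↪ α := pairEmbedding hab₀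
    have h := index_stabilizer_of_transitive G x
    rw [hsharp x, Subgroup.index_bot, Nat.card_eq_fintype_card (α := Fin 2 ↪ α),
      Fintype.card_embedding_eq, Fintype.card_fin] at h
    simp only [Nat.descFactorial_succ, Nat.descFactorial_zero, Nat.sub_zero, mul_one] at h
    rw [h, mul_comm]
  have hstab : ∀ a : α, Nat.card (stabilizer G a) = n - 1 := fun a => by
    have h := Subgroup.card_mul_index (stabilizer G a)
    rw [index_stabilizer_of_transitive, hG, Nat.card_eq_fintype_card (α := α), ← hn, mul_comm n]
      at h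
    exact Nat.eq_of_mul_eq_mul_right (by omega) h
  -- the fixed point free elements
  let F : Finset G := Finset.univ.filter fun g => ∀ a : α, g • a ≠ a
  have hF : F.card = n - 1 := by
    have hcover : (Finset.univ : Finset G) =
        insert 1 (F ∪ Finset.univ.biUnion fun a : α =>
          Finset.univ.filter fun g : G => g • a = a ∧ g ≠ 1) := by
      ext g
      simp only [Finset.mem_univ, true_iff, Finset.mem_insert, Finset.mem_union,
        Finset.mem_biUnion, Finset.mem_filter, true_and, F]
      by_cases hg : g = 1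
      · exact Or.inl hg
      · by_cases h : ∀ a : α, g • a ≠ a
        · exact Or.inr (Or.inl h)
        · push Not at h
          obtain ⟨a, ha⟩ := h
          exact Or.inr (Or.inr ⟨a, ha, hg⟩)
    have hdisj : ∀ a ∈ (Finset.univ : Finset α), ∀ b ∈ (Finset.univ : Finset α), a ≠ b →
        Disjoint (Finset.univ.filter fun g : G => g • a = a ∧ g ≠ 1)
          (Finset.univ.filter fun g : G => g • b = b ∧ g ≠ 1) := by
      intro a _ b _ hab
      rw [Finset.disjoint_left]
      simp only [Finset.mem_filter, Finset.mem_univ, true_and]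
      rintro g ⟨ha, hg⟩ ⟨hb, -⟩
      exact hg (eq_one_of_sharp hsharp hab ha hb)
    have hone : ∀ a : α, (Finset.univ.filter fun g : G => g • a = a ∧ g ≠ 1).card = n - 2 := by
      intro a
      have h1 : (Finset.univ.filter fun g : G => g • a = a ∧ g ≠ 1) =
          (Finset.univ.filter fun g : G => g • a = a).erase 1 := by
        ext g; simp [and_comm]
      rw [h1, Finset.card_erase_of_mem (by simp)]
      have h2' : (Finset.univ.filter fun g : G => g • a = a).card = n - 1 := by
        rw [← hstab a, Nat.card_eq_fintype_card]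
        exact (Fintype.card_subtype _).symm
      omega
    have hc := congrArg Finset.card hcover
    rw [Finset.card_univ, ← Nat.card_eq_fintype_card, hG,
      Finset.card_insert_of_notMem (by
        simp only [Finset.mem_union, Finset.mem_biUnion, Finset.mem_filter, Finset.mem_univ,
          true_and, F]
        rintro (h | ⟨a, -, h⟩)
        · exact h a₀ (one_smul G a₀)
        · exact h rfl),
      Finset.card_union_of_disjoint (by
        simp only [Finset.disjoint_left, Finset.mem_biUnion, Finset.mem_filter, Finset.mem_univ,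
          true_and, F]
        rintro g hg ⟨a, ha, -⟩
        exact hg a ha),
      Finset.card_biUnion hdisj, Finset.sum_congr rfl (fun a _ => hone a), Finset.sum_const,
      smul_eq_mul, Finset.card_univ, ← hn] at hc
    have : n * (n - 1) = n * (n - 2) + n := by
      rw [← Nat.mul_succ]; congr 1; omega
    omega
  have hF1 : (1 : G) ∉ F := by
    simp only [F, Finset.mem_filter, Finset.mem_univ, true_and]
    exact fun h => h a₀ (one_smul G a₀)
  have hFconj : ∀ g t : G, t ∈ F → g * t * g⁻¹ ∈ F := by
    intro g t ht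
    simp only [F, Finset.mem_filter, Finset.mem_univ, true_and] at ht ⊢
    intro a ha
    apply ht (g⁻¹ • a)
    rw [mul_smul, mul_smul] at ha
    rw [← smul_left_cancel_iff g, ha, smul_inv_smul]
  obtain ⟨t, ht⟩ := Finset.card_pos.mp (show 0 < F.card by omega)
  set C : Subgroup G := Subgroup.centralizer ({t} : Set G) with hC
  have hCsub : ∀ g ∈ C, g ∈ insert 1 F := by
    intro g hg
    rw [hC, Subgroup.mem_centralizer_singleton_iff] at hg
    by_contra h
    simp only [Finset.mem_insert, not_or, F, Finset.mem_filter, Finset.mem_univ, true_and,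
      not_forall, not_not] at h
    obtain ⟨hg1, a, ha⟩ := h
    simp only [F, Finset.mem_filter, Finset.mem_univ, true_and] at ht
    have hta : g • t • a = t • a := by rw [← mul_smul, hg, mul_smul, ha]
    exact hg1 (eq_one_of_sharp hsharp (Ne.symm (ht a)) ha hta)
  have hCfin : Nat.card C = (Finset.univ.filter fun g : G => g ∈ C).card := by
    rw [Nat.card_eq_fintype_card]
    exact Fintype.card_subtype _
  have hCle : Nat.card C ≤ n := by
    rw [hCfin]
    calc (Finset.univ.filter fun g : G => g ∈ C).card ≤ (insert 1 F).card :=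
          Finset.card_le_card fun g hg => hCsub g (Finset.mem_filter.mp hg).2
      _ = n := by rw [Finset.card_insert_of_notMem hF1, hF]; omega
  let O : Finset G := Finset.univ.image fun g : G => g * t * g⁻¹
  have hOF : O ⊆ F := by
    simp only [O, Finset.image_subset_iff]
    exact fun g _ => hFconj g t ht
  have hOcard : Nat.card G ≤ O.card * Nat.card C := by
    rw [Nat.card_eq_fintype_card, ← Finset.card_univ, mul_comm]
    refine Finset.card_le_mul_card_image_of_maps_to (f := fun g : G => g * t * g⁻¹)
      (fun g hg => Finset.mem_image_of_mem _ hg) (Nat.card C) fun b hb => ?_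
    obtain ⟨g, -, rfl⟩ := Finset.mem_image.mp hb
    rw [hCfin]
    refine Finset.card_le_card_of_injOn (fun x => g⁻¹ * x) (fun x hx => ?_)
      (mul_right_injective g⁻¹).injOn
    simp only [Finset.coe_filter, Finset.mem_univ, true_and, Set.mem_ofPred_eq] at hx ⊢
    rw [hC, Subgroup.mem_centralizer_singleton_iff]
    calc g⁻¹ * x * t = g⁻¹ * (x * t * x⁻¹) * x := by group
      _ = g⁻¹ * (g * t * g⁻¹) * x := by rw [hx]
      _ = t * (g⁻¹ * x) := by group
  have hO : O = F ∧ Nat.card C = n := by
    rw [hG] at hOcard
    have hle : O.card ≤ n - 1 := hF ▸ Finset.card_le_card hOF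
    have h1 : n - 1 ≤ O.card := by
      by_contra h
      have : O.card * Nat.card C < (n - 1) * n :=
        lt_of_le_of_lt (Nat.mul_le_mul_left _ hCle) (Nat.mul_lt_mul_of_pos_right (by omega) (by omega))
      rw [mul_comm n] at hOcard
      omega
    refine ⟨Finset.eq_of_subset_of_card_le hOF (by omega), le_antisymm hCle ?_⟩
    have h3 : (n - 1) * n ≤ (n - 1) * Nat.card C := by
      rw [mul_comm n] at hOcard
      exact hOcard.trans (Nat.mul_le_mul_right _ hle)
    exact Nat.le_of_mul_le_mul_left h3 (by omega)
  obtain ⟨hOF', hCn⟩ := hO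
  have hmem : ∀ g : G, g ∈ C ↔ g ∈ insert 1 F := by
    intro g
    refine ⟨hCsub g, fun hg => ?_⟩
    have he : (Finset.univ.filter fun g : G => g ∈ C) = insert 1 F :=
      Finset.eq_of_subset_of_card_le (fun g hg => hCsub g (Finset.mem_filter.mp hg).2)
        (by rw [← hCfin, hCn, Finset.card_insert_of_notMem hF1, hF]; omega)
    rw [← he, Finset.mem_filter] at hg
    exact hg.2
  haveI hnormal : C.Normal := ⟨fun x hx g => by
    rw [hmem, Finset.mem_insert] at hx ⊢
    rcases hx with rfl | hx
    · left; group
    · exact Or.inr (hFconj g x hx)⟩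
  have hCne : C ≠ ⊥ := fun h => by
    rw [h, Subgroup.card_bot] at hCn
    omega
  have hconj : ∀ x ∈ C, ∀ y ∈ C, x ≠ 1 → y ≠ 1 → ∃ g : G, g * x * g⁻¹ = y := by
    intro x hx y hy hx1 hy1
    rw [hmem, Finset.mem_insert, ← hOF'] at hx hy
    obtain ⟨g, -, rfl⟩ := Finset.mem_image.mp (hx.resolve_left hx1)
    obtain ⟨k, -, rfl⟩ := Finset.mem_image.mp (hy.resolve_left hy1)
    exact ⟨k * g⁻¹, by group⟩
  obtain ⟨hcomm, p, hp, hexp⟩ := isMulCommutative_of_conj_transitive hCne hconj
  haveI : Fact p.Prime := ⟨hp⟩
  obtain ⟨j, hj⟩ := IsPGroup.iff_card.mp (show IsPGroup p C from fun x =>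
    ⟨1, Subtype.ext (by simpa using hexp x x.2)⟩)
  have hchar : ∀ g : G, g ∈ C ↔ g = 1 ∨ ∀ a : α, g • a ≠ a := fun g => by
    rw [hmem, Finset.mem_insert]
    simp [F]
  have hsr : ∀ a : α, stabilizer C a = ⊥ := fun a => by
    rw [Subgroup.eq_bot_iff_forall]
    intro g hg
    rcases (hchar g).mp g.2 with h | h
    · exact Subtype.ext h
    · exact absurd hg (h a)
  have hj1 : 1 ≤ j := by
    rcases Nat.eq_zero_or_pos j with rfl | h
    · rw [pow_zero, hCn] at hj; omega
    · exact h
  refine ⟨C, p, j, hnormal, hp, hj1, hCn ▸ hj, by rw [hG, ← hCn, hj], hj, hcomm, hexp, ?_,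
    hsr, hchar⟩
  refine (isPretransitive_iff_base a₀).mpr fun b => ?_
  have hbij : Function.Bijective fun c : C => c • a₀ := by
    letI := Fintype.ofFinite C
    rw [Fintype.bijective_iff_injective_and_card]
    exact ⟨smul_left_injective_of_stabilizer_eq_bot (hsr a₀),
      by rw [← Nat.card_eq_fintype_card, hCn]⟩
  exact hbij.2 b

end SharpTwo

end CfsgLib.Perm
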