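import Cfsg.Agent.Lib.Perm.PrimeDegreeEven
import Mathlib.GroupTheory.Sylow
import Mathlib.GroupTheory.SpecificGroups.Cyclic

/-!
Sylow normalisers in transitive groups of prime degree, and conjugates of small cycles.
-/

set_option autoImplicit false
set_option linter.style.haveILetI false

namespace CfsgLib.Perm

open MulAction

variable {α : Type*} [Fintype α] {p : ℕ} [Fact p.Prime]

/-- A permutation commuting with a full cycle is one of its powers. -/
theorem mem_zpowers_of_commute_cycle {g : Equiv.Perm α} {e : ZMod p ≃ α}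
    (he : ∀ j, g (e j) = e (j + 1)) {c : Equiv.Perm α} (hc : Commute c g) :
    c ∈ Subgroup.zpowers g := by
  set m := e.symm (c (e 0)) with hm
  have h0 : c (e 0) = e m := by rw [hm, Equiv.apply_symm_apply]
  have hstep : ∀ n : ℕ, c (e (n : ZMod p)) = e ((n : ZMod p) + m) := by
    intro n
    induction n with
    | zero => rw [Nat.cast_zero, h0, zero_add]
    | succ n ih =>
      rw [Nat.cast_succ, ← he, show c (g (e (n : ZMod p))) = g (c (e (n : ZMod p))) from
        congrArg (fun h : Equiv.Perm α => h (e (n : ZMod p))) hc.eq, ih, he, add_right_comm]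
  have hpow : ∀ (n : ℕ) (j : ZMod p), (g ^ n) (e j) = e (j + n) := by
    intro n
    induction n with
    | zero => intro j; simp
    | succ n ih =>
      intro j
      rw [pow_succ, Equiv.Perm.mul_apply, he, ih, Nat.cast_succ, add_assoc, add_comm (1 : ZMod p)]
  refine ⟨(m.val : ℤ), Equiv.ext fun x => ?_⟩
  obtain ⟨j, rfl⟩ := e.surjective x
  show (g ^ (m.val : ℤ)) (e j) = _
  rw [zpow_natCast, hpow, ZMod.natCast_zmod_val]
  have := hstep j.val
  rw [ZMod.natCast_zmod_val] at this
  exact this.symm

/-- The Sylow normaliser has order dividing `p (p - 1)`. -/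
theorem card_normalizer_dvd (hα : Fintype.card α = p) (G : Subgroup (Equiv.Perm α))
    [IsPretransitive G α] (P : Sylow p G) :
    Nat.card (Subgroup.normalizer ((P : Subgroup G) : Set G)) ∣ p * (p - 1) := by
  classical
  have hp : p.Prime := Fact.out
  have hcard := card_sylow_eq hα G P
  obtain ⟨x, hx⟩ := exists_prime_orderOf_dvd_card' (G := (P : Subgroup G)) p (by rw [hcard])
  rw [← Subgroup.orderOf_coe, ← Subgroup.orderOf_coe] at hx
  obtain ⟨e, he⟩ := exists_coords hα (g := ((x : G) : Equiv.Perm α))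
    (orderOf_dvd_iff_pow_eq_one.1 (dvd_of_eq hx))
    (fun h => by rw [h, orderOf_one] at hx; exact hp.one_lt.ne hx)
  haveI : IsCyclic (P : Subgroup G) := isCyclic_of_prime_card hcard
  set f := (P : Subgroup G).normalizerMonoidHom with hf
  have hker : Nat.card f.ker ∣ p := by
    refine dvd_trans ?_ (dvd_of_eq hcard)
    refine (Subgroup.card_map_of_injective (K := f.ker) (Subgroup.subtype_injective _)) ▸
      Subgroup.card_dvd_of_le ?_
    rintro _ ⟨n, hn, rfl⟩
    have hcomm : Commute (((n : G)) : Equiv.Perm α) ((x : G) : Equiv.Perm α) := by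
      have h := congrArg (fun φ : MulAut (P : Subgroup G) => ((φ x : (P : Subgroup G)) : G)) (MonoidHom.mem_ker.1 hn)
      have h' : (n : G) * x * (n : G)⁻¹ = x := h
      exact congrArg Subtype.val (mul_inv_eq_iff_eq_mul.1 h')
    obtain ⟨i, hi⟩ := mem_zpowers_of_commute_cycle he hcomm
    show (n : G) ∈ (P : Subgroup G)
    rw [show (n : G) = (x : G) ^ i from Subtype.ext (by rw [Subgroup.coe_zpow]; exact hi.symm)]
    exact Subgroup.zpow_mem _ x.2 i
  rw [← f.ker.card_mul_index, Subgroup.index_ker]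
  refine mul_dvd_mul hker ((Subgroup.card_subgroup_dvd_card f.range).trans ?_)
  rw [IsCyclic.card_mulAut, hcard, Nat.totient_prime hp]

end CfsgLib.Perm

namespace CfsgLib.Perm

/-- If the order of `G` has the full `p`-part of the symmetric group, every element of `p`-power
order has a conjugate in `G`. -/
theorem exists_conj_mem_of_full_part {α : Type*} [Fintype α] {p : ℕ} [Fact p.Prime]
    (G : Subgroup (Equiv.Perm α)) {k : ℕ} (hk : p ^ k ∣ Nat.card G)
    (hfull : (Nat.card (Equiv.Perm α)).factorization p = k) {s : Equiv.Perm α} {j : ℕ}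
    (hs : s ^ p ^ j = 1) : ∃ g : Equiv.Perm α, g * s * g⁻¹ ∈ G := by
  classical
  obtain ⟨Q, hQ⟩ := Sylow.exists_subgroup_card_pow_prime (G := G) p hk
  obtain ⟨P, hP⟩ := ((IsPGroup.of_card hQ).map G.subtype).exists_le_sylow
  have hQP : Q.map G.subtype = (P : Subgroup (Equiv.Perm α)) := by
    refine Subgroup.eq_of_le_of_card_ge hP ?_
    rw [P.card_eq_multiplicity, hfull, Subgroup.card_map_of_injective G.subtype_injective, hQ]
  have hsP : IsPGroup p (Subgroup.zpowers s) := by
    rintro ⟨x, hx⟩
    obtain ⟨i, rfl⟩ := Subgroup.mem_zpowers_iff.1 hx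
    refine ⟨j, Subtype.ext ?_⟩
    show (s ^ i) ^ p ^ j = 1
    rw [← zpow_natCast, zpow_comm, zpow_natCast, hs, one_zpow]
  obtain ⟨S, hS⟩ := hsP.exists_le_sylow
  obtain ⟨g, hg⟩ := MulAction.exists_smul_eq (Equiv.Perm α) S P
  refine ⟨g, ?_⟩
  have hmem : g * s * g⁻¹ ∈ (P : Subgroup (Equiv.Perm α)) := by
    rw [← hg, Sylow.coe_subgroup_smul]
    exact Subgroup.smul_mem_pointwise_smul s (MulAut.conj g) _ (hS (Subgroup.mem_zpowers s))
  rw [← hQP] at hmem
  exact Subgroup.map_subtype_le _ hmem

end CfsgLib.Perm
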