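import Cfsg.Prelude.Def_Perm
import Mathlib.RingTheory.Polynomial.Basic
import Mathlib.Algebra.Polynomial.Roots
import Mathlib.Algebra.Polynomial.Degree.Lemmas
import Mathlib.Algebra.CharP.Basic
import Mathlib.Algebra.Algebra.ZMod
import Mathlib.FieldTheory.Finite.Basic
import Mathlib.LinearAlgebra.FiniteDimensional.Lemmas
import Mathlib.LinearAlgebra.Dimension.RankNullity
import Mathlib.GroupTheory.Solvable
import Mathlib.RingTheory.Polynomial.DegreeLT

/-!
Functions on `ZMod p` as polynomials in characteristic `p`: translation invariant subspaces and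
the permutations preserving one of them.
-/

namespace CfsgLib.Perm

open Polynomial

section PolyFun

variable {p : ℕ} [Fact p.Prime] (K : Type*) [Field K] [CharP K p]

/-- The embedding of the prime field. -/
def primeCast : ZMod p →+* K := ZMod.castHom dvd_rfl K

theorem primeCast_injective : Function.Injective (primeCast (p := p) K) :=
  RingHom.injective _

variable (p)

/-- Evaluation of a polynomial on the prime field. -/
noncomputable def evalFun : K[X] →ₗ[K] (ZMod p → K) where
  toFun P := fun j => P.eval (primeCast K j)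
  map_add' P Q := funext fun j => eval_add
  map_smul' c P := funext fun j => by simp

/-- The functions given by polynomials of degree less than `r`. -/
noncomputable def polyFun (r : ℕ) : Submodule K (ZMod p → K) :=
  (degreeLT K r).map (evalFun p K)

variable {p K}

theorem mem_polyFun {r : ℕ} {f : ZMod p → K} :
    f ∈ polyFun p K r ↔ ∃ P : K[X], P.degree < r ∧ ∀ j : ZMod p, f j = P.eval (primeCast K j) := by
  constructor
  · rintro ⟨P, hP, rfl⟩
    exact ⟨P, mem_degreeLT.mp hP, fun j => rfl⟩
  · rintro ⟨P, hP, hf⟩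
    exact ⟨P, mem_degreeLT.mpr hP, funext fun j => (hf j).symm⟩

theorem eq_zero_of_evalFun {P : K[X]} (hd : P.degree < (p : ℕ)) (h : evalFun p K P = 0) : P = 0 := by
  by_cases hP : P = 0
  · exact hP
  refine eq_zero_of_natDegree_lt_card_of_eval_eq_zero P (primeCast_injective (p := p) K)
    (fun j => congrFun h j) ?_
  rw [ZMod.card]
  exact (natDegree_lt_iff_degree_lt hP).mpr hd

theorem finrank_polyFun {r : ℕ} (hr : r ≤ p) : Module.finrank K (polyFun p K r) = r := by
  let φ : degreeLT K r →ₗ[K] polyFun p K r :=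
    { toFun := fun P => ⟨evalFun p K P, P, P.2, rfl⟩
      map_add' := fun P Q => Subtype.ext (map_add _ _ _)
      map_smul' := fun c P => Subtype.ext (map_smul _ _ _) }
  have hinj : Function.Injective φ := by
    rw [← LinearMap.ker_eq_bot, LinearMap.ker_eq_bot']
    intro P hP
    refine Subtype.ext (eq_zero_of_evalFun ?_ (congrArg Subtype.val hP))
    exact lt_of_lt_of_le (mem_degreeLT.mp P.2) (by exact_mod_cast hr)
  have hsurj : Function.Surjective φ := fun ⟨f, P, hP, hf⟩ => ⟨⟨P, hP⟩, Subtype.ext hf⟩
  rw [← (LinearEquiv.ofBijective φ ⟨hinj, hsurj⟩).finrank_eq, (degreeLTEquiv K r).finrank_eq,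
    Module.finrank_fintype_fun_eq_card, Fintype.card_fin]

theorem polyFun_top : polyFun p K p = ⊤ :=
  Submodule.eq_top_of_finrank_eq (by
    rw [finrank_polyFun le_rfl, Module.finrank_fintype_fun_eq_card, ZMod.card])

theorem polyFun_mono {r s : ℕ} (h : r ≤ s) : polyFun p K r ≤ polyFun p K s :=
  Submodule.map_mono (degreeLT_mono h)

variable (p K) in
/-- The difference operator. -/
def diff : Module.End K (ZMod p → K) where
  toFun f := fun j => f (j + 1) - f j
  map_add' f g := funext fun j => by simp; ring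
  map_smul' c f := funext fun j => by simp [mul_sub]

theorem diff_apply (f : ZMod p → K) (j : ZMod p) : diff p K f j = f (j + 1) - f j := rfl

theorem diff_mem {r : ℕ} {f : ZMod p → K} (hf : f ∈ polyFun p K (r + 1)) :
    diff p K f ∈ polyFun p K r := by
  obtain ⟨P, hP, hPf⟩ := mem_polyFun.mp hf
  refine mem_polyFun.mpr ⟨P.comp (X + C 1) - P, ?_, fun j => by
    rw [diff_apply, hPf, hPf, eval_sub, eval_comp, eval_add, eval_X, eval_C, map_add, map_one]⟩
  by_cases hP0 : P = 0
  · simp [hP0, WithBot.bot_lt_coe]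
  have hdeg : (P.comp (X + C 1)).natDegree = P.natDegree := by
    rw [natDegree_comp, natDegree_X_add_C, mul_one]
  have hlead : (P.comp (X + C 1)).leadingCoeff = P.leadingCoeff := by
    rw [leadingCoeff_comp (by rw [natDegree_X_add_C]; exact one_ne_zero), leadingCoeff_X_add_C,
      one_pow, mul_one]
  have hne : P.comp (X + C 1) ≠ 0 := fun h => by
    rw [h, leadingCoeff_zero] at hlead
    exact hP0 (leadingCoeff_eq_zero.mp hlead.symm)
  have hnat : P.natDegree ≤ r := Nat.lt_succ_iff.mp ((natDegree_lt_iff_degree_lt hP0).mpr hP)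
  refine lt_of_lt_of_le (degree_sub_lt_left
    (by rw [degree_eq_natDegree hne, degree_eq_natDegree hP0, hdeg]) hne hlead) ?_
  rw [degree_eq_natDegree hne, hdeg]
  exact_mod_cast hnat

theorem diff_pow_eq_zero {r : ℕ} {f : ZMod p → K} (hf : f ∈ polyFun p K r) :
    (diff p K ^ r) f = 0 := by
  induction r generalizing f with
  | zero =>
    obtain ⟨P, hP, hPf⟩ := mem_polyFun.mp hf
    have : P = 0 := by
      by_contra h
      rw [degree_eq_natDegree h] at hP
      exact absurd (Nat.cast_lt.mp hP) (Nat.not_lt_zero _)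
    funext j
    simp [hPf, this]
  | succ r ih =>
    rw [pow_succ, Module.End.mul_apply]
    exact ih (diff_mem hf)

theorem eq_const_of_diff_eq_zero {f : ZMod p → K} (hf : diff p K f = 0) (j : ZMod p) : f j = f 0 := by
  have hn : ∀ n : ℕ, f (n : ZMod p) = f 0 := fun n => by
    induction n with
    | zero => simp
    | succ n ih =>
      have := congrFun hf (n : ZMod p)
      rw [diff_apply, Pi.zero_apply, sub_eq_zero] at this
      rw [Nat.cast_succ, this, ih]
  simpa using hn j.val

theorem finrank_ker_diff_le : Module.finrank K (LinearMap.ker (diff p K)) ≤ 1 := by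
  have hle : LinearMap.ker (diff p K) ≤ Submodule.span K {fun _ => (1 : K)} := by
    intro f hf
    rw [Submodule.mem_span_singleton]
    exact ⟨f 0, funext fun j => by simp [eq_const_of_diff_eq_zero hf j]⟩
  refine (Submodule.finrank_mono hle).trans (le_of_eq (finrank_span_singleton fun h => ?_))
  exact one_ne_zero (congrFun h 0)

theorem finrank_ker_pow_le (r : ℕ) : Module.finrank K (LinearMap.ker (diff p K ^ r)) ≤ r := by
  induction r with
  | zero => simp [Module.End.one_eq_id]
  | succ r ih =>
    let φ : LinearMap.ker (diff p K ^ (r + 1)) →ₗ[K] LinearMap.ker (diff p K ^ r) :=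
      ((diff p K).comp (Submodule.subtype _)).codRestrict _ fun f => by
        rw [LinearMap.mem_ker]
        exact (congrArg (fun T : Module.End K (ZMod p → K) => T (f : ZMod p → K))
          (pow_succ (diff p K) r)).symm.trans f.2
    have hk : Module.finrank K (LinearMap.ker φ) ≤ 1 := by
      refine le_trans (le_of_eq ?_) (finrank_ker_diff_le (p := p) (K := K))
      refine LinearEquiv.finrank_eq
        { toFun := fun f => ⟨(f : LinearMap.ker (diff p K ^ (r + 1))), congrArg Subtype.val f.2⟩
          invFun := fun f => ⟨⟨f, ?_⟩, Subtype.ext f.2⟩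
          map_add' := fun _ _ => rfl
          map_smul' := fun _ _ => rfl
          left_inv := fun _ => rfl
          right_inv := fun _ => rfl }
      rw [LinearMap.mem_ker]
      exact (congrArg (fun T : Module.End K (ZMod p → K) => T (f : ZMod p → K)) (pow_succ (diff p K) r)).trans
        ((congrArg (diff p K ^ r) f.2).trans (map_zero _))
    have := LinearMap.finrank_range_add_finrank_ker φ
    have := Submodule.finrank_le (LinearMap.range φ)
    omega

theorem ker_pow_eq {r : ℕ} (hr : r ≤ p) : LinearMap.ker (diff p K ^ r) = polyFun p K r :=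
  (Submodule.eq_of_le_of_finrank_le (fun _ hf => diff_pow_eq_zero hf)
    (by rw [finrank_polyFun hr]; exact finrank_ker_pow_le r)).symm

theorem pow_eq_zero_of_finrank_le (n : ℕ) : ∀ W : Submodule K (ZMod p → K),
    (∀ f ∈ W, diff p K f ∈ W) → Module.finrank K W ≤ n → ∀ f ∈ W, (diff p K ^ n) f = 0 := by
  induction n with
  | zero =>
    intro W _ hW f hf
    rw [Submodule.finrank_eq_zero.mp (Nat.le_zero.mp hW), Submodule.mem_bot] at hf
    simp [hf]
  | succ n ih =>
    intro W hinv hW f hf
    rw [pow_succ, Module.End.mul_apply]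
    refine ih (W.map (diff p K)) ?_ ?_ _ (Submodule.mem_map_of_mem hf)
    · rintro _ ⟨g, hg, rfl⟩
      exact Submodule.mem_map_of_mem (hinv g hg)
    · by_cases h0 : W = ⊥
      · rw [h0, Submodule.map_bot, finrank_bot]; exact Nat.zero_le _
      have hlt : W.map (diff p K) < W := by
        refine lt_of_le_of_ne (by rintro _ ⟨g, hg, rfl⟩; exact hinv g hg) fun he => h0 ?_
        have hpow : ∀ m, W.map (diff p K ^ m) = W := fun m => by
          induction m with
          | zero => simp [Module.End.one_eq_id]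
          | succ m ihm =>
            rw [pow_succ, Module.End.mul_eq_comp, Submodule.map_comp, he, ihm]
        rw [← hpow p, Submodule.eq_bot_iff]
        rintro _ ⟨g, -, rfl⟩
        exact diff_pow_eq_zero (polyFun_top (p := p) (K := K) ▸ Submodule.mem_top)
      have := Submodule.finrank_lt_finrank_of_lt hlt
      omega

theorem finrank_le_prime (W : Submodule K (ZMod p → K)) : Module.finrank K W ≤ p := by
  have h := Submodule.finrank_le W
  rwa [Module.finrank_fintype_fun_eq_card, ZMod.card] at h

/-- Translation invariant subspaces are the polynomial ones. -/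
theorem eq_polyFun_of_invariant (W : Submodule K (ZMod p → K))
    (hW : ∀ f ∈ W, (fun j => f (j - 1)) ∈ W) : W = polyFun p K (Module.finrank K W) := by
  have hn : ∀ (n : ℕ), ∀ f ∈ W, (fun j => f (j - (n : ZMod p))) ∈ W := fun n => by
    induction n with
    | zero => intro f hf; simpa using hf
    | succ n ih =>
      intro f hf
      have := hW _ (ih f hf)
      convert this using 2 with j
      congr 1
      push_cast
      ring
  have hd : ∀ f ∈ W, diff p K f ∈ W := fun f hf => by
    have := W.sub_mem (hn (p - 1) f hf) hf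
    convert this using 1
    funext j
    rw [diff_apply, Pi.sub_apply, Nat.cast_sub (Fact.out : p.Prime).one_le]
    simp
  refine Submodule.eq_of_le_of_finrank_le (fun f hf => ?_)
    (le_of_eq (finrank_polyFun (finrank_le_prime W)))
  rw [← ker_pow_eq (finrank_le_prime W)]
  exact pow_eq_zero_of_finrank_le _ W hd le_rfl f hf

theorem sum_primeCast_pow {i : ℕ} (hi : i < p - 1) : ∑ j : ZMod p, primeCast K j ^ i = 0 := by
  simp only [← map_pow, ← map_sum]
  rw [FiniteField.sum_pow_lt_card_sub_one (ZMod p) i (by rwa [ZMod.card]), map_zero]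

theorem sum_primeCast_pow_pred : ∑ j : ZMod p, primeCast K j ^ (p - 1) = -1 := by
  simp only [← map_pow, ← map_sum]
  have hp := (Fact.out : p.Prime)
  have h : ∀ j : ZMod p, j ^ (p - 1) = 1 - if j = 0 then (1 : ZMod p) else 0 := fun j => by
    split_ifs with hj
    · rw [hj, sub_self, zero_pow (by have := hp.two_le; omega)]
    · rw [sub_zero, ZMod.pow_card_sub_one_eq_one hj]
  simp only [h, Finset.sum_sub_distrib, Finset.sum_const, Finset.card_univ, ZMod.card,
    Finset.sum_ite_eq', Finset.mem_univ, if_true, nsmul_eq_mul, ZMod.natCast_self, zero_mul,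
    zero_sub, map_neg, map_one]

theorem sum_polyFun_eq_zero {r : ℕ} (hr : r + 1 ≤ p) {f : ZMod p → K} (hf : f ∈ polyFun p K r) :
    ∑ j, f j = 0 := by
  obtain ⟨P, hP, hPf⟩ := mem_polyFun.mp hf
  simp only [hPf, eval_eq_sum, sum_def]
  rw [Finset.sum_comm]
  refine Finset.sum_eq_zero fun i hi => ?_
  have hi' : i < r := by
    have h1 := le_degree_of_mem_supp i hi
    exact_mod_cast lt_of_le_of_lt h1 hP
  rw [← Finset.mul_sum, sum_primeCast_pow (by omega), mul_zero]

variable (p K) in
/-- The functions orthogonal to a subspace. -/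
def perp (W : Submodule K (ZMod p → K)) : Submodule K (ZMod p → K) where
  carrier := {u | ∀ w ∈ W, ∑ j, u j * w j = 0}
  zero_mem' := by simp
  add_mem' := fun {u v} hu hv w hw => by
    simp only [Pi.add_apply, add_mul, Finset.sum_add_distrib, hu w hw, hv w hw, add_zero]
  smul_mem' := fun c u hu w hw => by
    simp only [Pi.smul_apply, smul_eq_mul, mul_assoc, ← Finset.mul_sum, hu w hw, mul_zero]

theorem pow_mem_polyFun {r i : ℕ} (hi : i < r) :
    (fun j : ZMod p => primeCast K j ^ i) ∈ polyFun p K r :=
  mem_polyFun.mpr ⟨X ^ i, by rw [degree_X_pow]; exact_mod_cast hi, fun j => by simp⟩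

theorem perp_polyFun {r : ℕ} (h1 : 1 ≤ r) (hr : r ≤ p) :
    perp p K (polyFun p K r) = polyFun p K (p - r) := by
  have hle : polyFun p K (p - r) ≤ perp p K (polyFun p K r) := by
    intro u hu w hw
    obtain ⟨P, hP, hPu⟩ := mem_polyFun.mp hu
    obtain ⟨Q, hQ, hQw⟩ := mem_polyFun.mp hw
    refine sum_polyFun_eq_zero (r := p - 1) (by have := (Fact.out : p.Prime).one_le; omega)
      (mem_polyFun.mpr ⟨P * Q, ?_, fun j => by rw [hPu, hQw, eval_mul]⟩)
    by_cases hP0 : P = 0
    · simp [hP0, WithBot.bot_lt_coe]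
    by_cases hQ0 : Q = 0
    · simp [hQ0, WithBot.bot_lt_coe]
    rw [← natDegree_lt_iff_degree_lt (mul_ne_zero hP0 hQ0), natDegree_mul hP0 hQ0]
    have := (natDegree_lt_iff_degree_lt hP0).mpr hP
    have := (natDegree_lt_iff_degree_lt hQ0).mpr hQ
    omega
  have hinv : ∀ u ∈ perp p K (polyFun p K r), (fun j => u (j - 1)) ∈ perp p K (polyFun p K r) := by
    intro u hu w hw
    obtain ⟨Q, hQ, hQw⟩ := mem_polyFun.mp hw
    have h := hu (fun j => w (j + 1)) (mem_polyFun.mpr ⟨Q.comp (X + C 1), ?_, fun j => by
      rw [hQw, eval_comp, eval_add, eval_X, eval_C, map_add, map_one]⟩)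
    · rw [← h]
      exact Fintype.sum_equiv (Equiv.subRight (1 : ZMod p)) _ _ fun j => by simp
    · by_cases hQ0 : Q = 0
      · simp [hQ0, WithBot.bot_lt_coe]
      exact lt_of_le_of_lt (degree_le_natDegree.trans_eq (by
        rw [natDegree_comp, natDegree_X_add_C, mul_one, ← degree_eq_natDegree hQ0])) hQ
  have hm := eq_polyFun_of_invariant _ hinv
  refine le_antisymm ?_ hle
  rw [hm]
  by_contra hcon
  have hlt : p - r < Module.finrank K (perp p K (polyFun p K r)) := by
    by_contra h
    exact hcon (polyFun_mono (not_lt.mp h))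
  have hmem : (fun j : ZMod p => primeCast K j ^ (p - r)) ∈ perp p K (polyFun p K r) :=
    hm.ge (pow_mem_polyFun hlt)
  have h := hmem _ (pow_mem_polyFun (i := r - 1) (by omega))
  simp only [← pow_add] at h
  rw [show p - r + (r - 1) = p - 1 by omega, sum_primeCast_pow_pred, neg_eq_zero] at h
  exact one_ne_zero h

/-- A permutation preserving a polynomial subspace of dimension between `2` and `p - 2` is
affine. -/
theorem affine_of_preserves (π : Equiv.Perm (ZMod p)) {r : ℕ} (h2 : 2 ≤ r) (hr : r + 2 ≤ p)
    (h : ∀ f ∈ polyFun p K r, (fun j => f (π j)) ∈ polyFun p K r) :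
    ∃ a b : ZMod p, ∀ j, π j = a * j + b := by
  wlog hhalf : 2 * r ≤ p generalizing r with hw
  · refine hw (r := p - r) (by omega) (by omega) ?_ (by omega)
    intro f hf
    rw [← perp_polyFun (by omega) (by omega)] at hf ⊢
    have hpow : ∀ (m : ℕ), ∀ w ∈ polyFun p K r, (fun j => w ((π ^ m) j)) ∈ polyFun p K r := by
      intro m
      induction m with
      | zero => intro w hw'; simpa using hw'
      | succ m ih => intro w hw'; simpa [pow_succ] using h _ (ih w hw')
    intro w hw'
    have hinv : (fun j => w (π.symm j)) ∈ polyFun p K r := by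
      have h1 := hpow (orderOf π - 1) w hw'
      convert h1 using 3 with j
      rw [← Equiv.Perm.inv_def]
      congr 1
      rw [inv_eq_of_mul_eq_one_left]
      rw [← pow_succ, Nat.sub_add_cancel (orderOf_pos π), pow_orderOf_eq_one]
    rw [← hf _ hinv]
    exact Fintype.sum_equiv π _ _ fun j => by simp
  have hid : (fun j : ZMod p => primeCast K j) ∈ polyFun p K r := by
    simpa using pow_mem_polyFun (p := p) (K := K) (r := r) (i := 1) (by omega)
  obtain ⟨P, hP, hPπ⟩ := mem_polyFun.mp (h _ hid)
  by_cases hd : P.natDegree ≤ 1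
  · obtain ⟨a, b, rfl⟩ := exists_eq_X_add_C_of_natDegree_le_one hd
    refine ⟨π 1 - π 0, π 0, fun j => primeCast_injective (p := p) K ?_⟩
    have h0 := hPπ 0
    have h1 := hPπ 1
    have hj := hPπ j
    simp only [eval_add, eval_mul, eval_C, eval_X, map_zero, map_one, mul_zero, zero_add, mul_one] at h0 h1 hj
    rw [map_add, map_mul, map_sub, hj, h1, h0]
    ring
  exfalso
  push Not at hd
  have hP0 : P ≠ 0 := fun e => by simp [e] at hd
  obtain ⟨e, he⟩ : ∃ e, P.natDegree = e := ⟨_, rfl⟩
  rw [he] at hd
  have her : e < r := he ▸ (natDegree_lt_iff_degree_lt hP0).mpr hP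
  have hk : ∃ i, r ≤ i * e ∧ i * e < 2 * r ∧ i < r := by
    refine ⟨(r + e - 1) / e, ?_, ?_, ?_⟩
    · have := Nat.lt_div_mul_add (a := r + e - 1) (b := e) (by omega)
      omega
    · have := Nat.div_mul_le_self (r + e - 1) e
      omega
    · have h3 := Nat.div_mul_le_self (r + e - 1) e
      by_contra h4
      have : r * e ≤ (r + e - 1) / e * e := Nat.mul_le_mul_right e (not_lt.mp h4)
      have : r * 2 ≤ r * e := Nat.mul_le_mul_left r hd
      omega
  obtain ⟨i, hi1, hi2, hi3⟩ := hk
  obtain ⟨Q, hQ, hQπ⟩ := mem_polyFun.mp (h _ (pow_mem_polyFun hi3))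
  have hQd : Q.degree < (p : ℕ) := lt_of_lt_of_le hQ (by exact_mod_cast (by omega : r ≤ p))
  have hPd : (P ^ i).degree < (p : ℕ) := by
    rw [← natDegree_lt_iff_degree_lt (pow_ne_zero _ hP0), natDegree_pow, he]
    omega
  have heq : P ^ i - Q = 0 := by
    refine eq_zero_of_evalFun (lt_of_le_of_lt (degree_sub_le _ _) (max_lt hPd hQd)) ?_
    funext j
    show (P ^ i - Q).eval _ = 0
    rw [eval_sub, eval_pow, ← hPπ, ← hQπ, sub_self]
  rw [sub_eq_zero] at heq
  have hQ0 : Q ≠ 0 := heq ▸ pow_ne_zero _ hP0
  have := (natDegree_lt_iff_degree_lt hQ0).mpr hQ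
  rw [← heq, natDegree_pow, he] at this
  omega

/-- A group of permutations of `ZMod p` all of which are affine is solvable. -/
theorem isSolvable_of_affine (H : Subgroup (Equiv.Perm (ZMod p)))
    (h : ∀ σ ∈ H, ∃ a b : ZMod p, ∀ j, σ j = a * j + b) : Group.IsSolvable H := by
  let lin : Equiv.Perm (ZMod p) → ZMod p := fun σ => σ 1 - σ 0
  have hlin : ∀ σ ∈ H, ∀ j, σ j = lin σ * j + σ 0 := fun σ hσ j => by
    obtain ⟨a, b, hab⟩ := h σ hσ
    simp only [lin, hab]
    ring
  let f : H →* ZMod p :=
    { toFun := fun σ => lin σ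
      map_one' := by simp [lin]
      map_mul' := fun σ τ => by
        show (σ : Equiv.Perm (ZMod p)) ((τ : Equiv.Perm (ZMod p)) 1) -
          (σ : Equiv.Perm (ZMod p)) ((τ : Equiv.Perm (ZMod p)) 0) = lin σ * lin τ
        rw [hlin σ σ.2 ((τ : Equiv.Perm (ZMod p)) 1), hlin σ σ.2 ((τ : Equiv.Perm (ZMod p)) 0)]
        simp only [lin]
        ring }
  haveI : IsMulCommutative f.toHomUnits.ker := ⟨⟨fun σ τ => by
    have h1 : ∀ x : f.toHomUnits.ker, ∀ j, ((x : H) : Equiv.Perm (ZMod p)) j = j + ((x : H) : Equiv.Perm (ZMod p)) 0 :=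
      fun x j => by
        have e : lin ((x : H) : Equiv.Perm (ZMod p)) = 1 := congrArg Units.val x.2
        rw [hlin _ (x : H).2 j, e, one_mul]
    apply Subtype.ext; apply Subtype.ext
    ext j
    show ((σ : H) : Equiv.Perm (ZMod p)) (((τ : H) : Equiv.Perm (ZMod p)) j) =
      ((τ : H) : Equiv.Perm (ZMod p)) (((σ : H) : Equiv.Perm (ZMod p)) j)
    rw [h1 τ j, h1 σ, h1 σ j, h1 τ (j + _)]
    ring⟩⟩
  haveI : Group.IsSolvable f.toHomUnits.ker := Group.isSolvable_of_comm fun a b => mul_comm' a b
  exact Group.isSolvable_of_ker_le_range (f.toHomUnits.ker.subtype) f.toHomUnits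
    (by rw [Subgroup.range_subtype])

end PolyFun

end CfsgLib.Perm
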