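import Cfsg.Agent.Lib.Perm.PermModule
import Cfsg.Agent.Lib.Perm.PolyFun
import Mathlib.GroupTheory.Perm.Cycle.Type

/-!
Transitive groups of prime degree: coordinates, irreducibility of the heart, Burnside's theorem.
-/

namespace CfsgLib.Perm

open MulAction

theorem affine_two : ∀ (τ : Equiv.Perm (ZMod 2)) (j : ZMod 2), τ j = (τ 1 - τ 0) * j + τ 0 := by
  decide

theorem affine_three : ∀ (τ : Equiv.Perm (ZMod 3)) (j : ZMod 3), τ j = (τ 1 - τ 0) * j + τ 0 := by
  decide

section PrimeDegree

variable {α : Type*} [Fintype α] {p : ℕ} [Fact p.Prime]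

theorem exists_coords (hα : Fintype.card α = p) {g : Equiv.Perm α} (hgp : g ^ p = 1) (hne : g ≠ 1) :
    ∃ e : ZMod p ≃ α, ∀ j, g (e j) = e (j + 1) := by
  classical
  have hp : p.Prime := Fact.out
  obtain ⟨b, hb⟩ : ∃ b : α, g b ≠ b := by
    by_contra h
    push Not at h
    exact hne (Equiv.ext h)
  let f : ZMod p → α := fun j => (g ^ j.val) b
  have hmod : ∀ n : ℕ, (g ^ n) b = (g ^ (n % p)) b := fun n => by
    conv_lhs => rw [← Nat.mod_add_div n p, pow_add, pow_mul, hgp, one_pow, mul_one]
  have hinj : Function.Injective f := by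
    -- the stabiliser of `b` in the group generated by `g` is trivial
    intro i j hij
    by_contra hne
    wlog hlt : i.val < j.val generalizing i j with hw
    · exact hw hij.symm (Ne.symm hne) (lt_of_le_of_ne (not_lt.mp hlt) fun h => hne (ZMod.val_injective p h).symm)
    have hfix : (g ^ (j.val - i.val)) b = b := by
      apply (g ^ i.val).injective
      rw [← Equiv.Perm.mul_apply, ← pow_add, Nat.add_sub_cancel' hlt.le]
      exact hij.symm
    have hcop : (j.val - i.val).Coprime p := by
      refine ((hp.coprime_iff_not_dvd).mpr fun hd => ?_).symm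
      have := Nat.le_of_dvd (by omega) hd
      have := ZMod.val_lt j
      omega
    obtain ⟨m, hm⟩ := Nat.exists_mul_mod_eq_one_of_coprime hcop hp.one_lt
    apply hb
    have h1 : ((g ^ (j.val - i.val)) ^ m) b = b := Equiv.Perm.pow_apply_eq_self_of_apply_eq_self hfix m
    rw [← pow_mul, hmod, hm.2, pow_one] at h1
    exact h1
  have hbij : Function.Bijective f :=
    (Fintype.bijective_iff_injective_and_card f).mpr ⟨hinj, by rw [ZMod.card, hα]⟩
  refine ⟨Equiv.ofBijective f hbij, fun j => ?_⟩
  show g ((g ^ j.val) b) = (g ^ (j + 1).val) b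
  rw [← Equiv.Perm.mul_apply, ← pow_succ', hmod (j.val + 1), ZMod.val_add, ZMod.val_one]

theorem exists_transitive_element (hα : Fintype.card α = p) (G : Subgroup (Equiv.Perm α))
    [IsPretransitive G α] :
    ∃ x ∈ G, ∃ e : ZMod p ≃ α, ∀ j, x (e j) = e (j + 1) := by
  have hp : p.Prime := Fact.out
  obtain ⟨a⟩ : Nonempty α := Fintype.card_pos_iff.mp (hα ▸ hp.pos)
  have hdvd : p ∣ Nat.card G := by
    rw [← hα, ← Nat.card_eq_fintype_card (α := α), ← index_stabilizer_of_transitive G a]
    exact Subgroup.index_dvd_card _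
  obtain ⟨x, hx⟩ := exists_prime_orderOf_dvd_card' p hdvd
  refine ⟨x, x.2, exists_coords hα ?_ ?_⟩
  · rw [← Subgroup.coe_pow, ← hx, pow_orderOf_eq_one]
    rfl
  · intro h
    rw [show x = 1 from Subtype.ext h, orderOf_one] at hx
    exact hp.one_lt.ne hx

variable {K : Type*} [Field K] [CharP K p]

/-- Pulling back along a coordinate bijection. -/
noncomputable def pullback (e : ZMod p ≃ α) : (α → K) ≃ₗ[K] (ZMod p → K) :=
  LinearEquiv.funCongrLeft K K e

omit [CharP K p] in
theorem pullback_apply (e : ZMod p ≃ α) (f : α → K) (j : ZMod p) : pullback e f j = f (e j) := rfl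

theorem invariant_pullback_eq_polyFun (G : Subgroup (Equiv.Perm α)) {x : Equiv.Perm α} (hx : x ∈ G)
    {e : ZMod p ≃ α} (he : ∀ j, x (e j) = e (j + 1)) (W : Submodule K (α → K))
    (hW : ∀ g : G, ∀ v ∈ W, Cfsg.permRep K G α g v ∈ W) :
    W.map (pullback (K := K) e : (α → K) →ₗ[K] (ZMod p → K)) = polyFun p K (Module.finrank K W) := by
  rw [← LinearEquiv.finrank_map_eq (pullback e) W]
  refine eq_polyFun_of_invariant _ ?_
  rintro _ ⟨v, hv, rfl⟩
  refine ⟨_, hW ⟨x, hx⟩ v hv, ?_⟩
  funext j
  show v (x⁻¹ (e j)) = v (e (j - 1))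
  congr 1
  rw [Equiv.Perm.inv_def, Equiv.symm_apply_eq, he, sub_add_cancel]

omit [Fact p.Prime] [Fintype α] in
theorem isSolvable_of_conj_solvable (G : Subgroup (Equiv.Perm α)) (e : ZMod p ≃ α)
    (h : Group.IsSolvable (G.map e.symm.permCongrHom.toMonoidHom)) : Group.IsSolvable G :=
  Group.isSolvable_of_isSolvable_injective
    (f := (G.equivMapOfInjective e.symm.permCongrHom.toMonoidHom
      e.symm.permCongrHom.injective).toMonoidHom)
    (G.equivMapOfInjective _ _).injective

theorem isSolvable_of_invariant (G : Subgroup (Equiv.Perm α)) {x : Equiv.Perm α} (hx : x ∈ G)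
    {e : ZMod p ≃ α} (he : ∀ j, x (e j) = e (j + 1)) (W : Submodule K (α → K))
    (hW : ∀ g : G, ∀ v ∈ W, Cfsg.permRep K G α g v ∈ W) (h2 : 2 ≤ Module.finrank K W)
    (hr : Module.finrank K W + 2 ≤ p) : Group.IsSolvable G := by
  refine isSolvable_of_conj_solvable G e (isSolvable_of_affine _ ?_)
  rintro _ ⟨g, hg, rfl⟩
  refine affine_of_preserves (K := K) _ h2 hr ?_
  rw [← invariant_pullback_eq_polyFun G hx he W hW]
  rintro _ ⟨v, hv, rfl⟩
  refine ⟨_, hW ⟨g, hg⟩⁻¹ v hv, ?_⟩
  funext j
  show v (((⟨g, hg⟩ : G)⁻¹⁻¹ : G) • e j) = v (e (e.symm (g (e j))))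
  rw [inv_inv, Equiv.apply_symm_apply]
  rfl

/-- The heart of the permutation module of an insoluble group of prime degree is irreducible. -/
theorem heart_irreducible (hα : Fintype.card α = p) (G : Subgroup (Equiv.Perm α))
    [IsPretransitive G α] (hG : ¬ Group.IsSolvable G) (W : Submodule K (α → K))
    (hW : ∀ g : G, ∀ v ∈ W, Cfsg.permRep K G α g v ∈ W)
    (h₁ : (Cfsg.permConstants K G α).toSubmodule ≤ W)
    (h₂ : W ≤ (Cfsg.permSumZero K G α).toSubmodule) :
    W = (Cfsg.permConstants K G α).toSubmodule ∨ W = (Cfsg.permSumZero K G α).toSubmodule := by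
  classical
  obtain ⟨x, hx, e, he⟩ := exists_transitive_element hα G
  have hne : Nonempty α := ⟨e 0⟩
  have hcst : Module.finrank K (Cfsg.permConstants K G α).toSubmodule = 1 :=
    finrank_span_singleton fun h => one_ne_zero (congrFun h (e 0))
  have hS : (Cfsg.permSumZero K G α).toSubmodule ≠ ⊤ := fun h => by
    have h1 : (Pi.single (e 0) (1 : K) : α → K) ∈ (Cfsg.permSumZero K G α).toSubmodule :=
      h ▸ Submodule.mem_top
    rw [mem_permSumZero_iff] at h1
    simp at h1
  have hSr : Module.finrank K (Cfsg.permSumZero K G α).toSubmodule < p := by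
    have := Submodule.finrank_lt hS
    rwa [Module.finrank_fintype_fun_eq_card, hα] at this
  have h1W : 1 ≤ Module.finrank K W := hcst ▸ Submodule.finrank_mono h₁
  have h2W := Submodule.finrank_mono h₂
  by_cases h1 : Module.finrank K W = 1
  · exact Or.inl (Submodule.eq_of_le_of_finrank_le h₁ (by omega)).symm
  by_cases h2 : Module.finrank K W + 1 = p
  · exact Or.inr (Submodule.eq_of_le_of_finrank_le h₂ (by omega))
  exact absurd (isSolvable_of_invariant G hx he W hW (by omega) (by omega)) hG

omit [Fintype α] in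
theorem five_le_of_not_isSolvable [Finite α] (hα : Nat.card α = p) (G : Subgroup (Equiv.Perm α))
    (hG : ¬ Group.IsSolvable G) : 5 ≤ p := by
  by_contra hlt
  have hp : p.Prime := Fact.out
  obtain ⟨e⟩ : Nonempty (ZMod p ≃ α) := ⟨(Finite.equivFinOfCardEq hα |>.trans
    ((ZMod.finEquiv p).toEquiv)).symm⟩
  refine hG (isSolvable_of_conj_solvable G e (isSolvable_of_affine _ fun σ _ => ?_))
  have h : ∀ τ : Equiv.Perm (ZMod p), ∃ a b : ZMod p, ∀ j, τ j = a * j + b := by
    intro τ
    refine ⟨τ 1 - τ 0, τ 0, ?_⟩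
    have := hp.two_le
    interval_cases p
    · exact affine_two τ
    · exact affine_three τ
    · exact absurd hp (by decide)
  exact h σ

/-- Burnside: an insoluble transitive group of prime degree is doubly transitive. -/
theorem two_transitive_of_not_isSolvable (hα : Fintype.card α = p) (G : Subgroup (Equiv.Perm α))
    [IsPretransitive G α] (hG : ¬ Group.IsSolvable G) : IsMultiplyPretransitive G α 2 := by
  refine two_transitive_of_heart (K := ZMod p) (p := p) (f := 1) le_rfl (by rw [pow_one]; exact hα)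
    fun W W' h1 hlt h2 => ?_
  obtain ⟨x, hx, e, he⟩ := exists_transitive_element hα G
  have h5 := five_le_of_not_isSolvable (p := p) (by rw [Nat.card_eq_fintype_card]; exact hα) G hG
  have hirr := fun (V : Subrepresentation (Cfsg.permRep (ZMod p) G α)) a b =>
    heart_irreducible hα G hG V.toSubmodule (fun g v hv => V.apply_mem_toSubmodule g hv) a b
  have hW : W.toSubmodule = (Cfsg.permConstants (ZMod p) G α).toSubmodule :=
    (hirr W h1 (hlt.le.trans h2)).resolve_right fun h => absurd h2 (not_le_of_gt (h ▸ hlt))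
  have hW' : W'.toSubmodule = (Cfsg.permSumZero (ZMod p) G α).toSubmodule :=
    (hirr W' (h1.trans hlt.le) h2).resolve_left fun h => absurd h1 (not_le_of_gt (h ▸ hlt))
  refine ⟨⟨x, hx⟩, fun z => e.symm z ^ 2, ?_, ?_⟩
  · rw [hW', mem_permSumZero_iff, ← Fintype.sum_equiv e (fun j : ZMod p => j ^ 2)
      (fun z => e.symm z ^ 2) (fun j => by simp)]
    exact FiniteField.sum_pow_lt_card_sub_one (ZMod p) 2 (by rw [ZMod.card]; omega)
  · rw [hW, mem_permConstants_iff]
    rintro ⟨c, hc⟩
    have hval : ∀ j : ZMod p, (j - 1) ^ 2 - j ^ 2 = c := fun j => by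
      have := congrFun hc (e j)
      simp only [Pi.sub_apply, permRep_apply] at this
      rw [← this]
      show _ = e.symm (x⁻¹ (e j)) ^ 2 - e.symm (e j) ^ 2
      rw [show x⁻¹ (e j) = e (j - 1) by rw [Equiv.Perm.inv_def, Equiv.symm_apply_eq, he, sub_add_cancel]]
      simp
    have h01 := (hval 0).trans (hval 1).symm
    have h20 : ((2 : ℕ) : ZMod p) = 0 := by push_cast; linear_combination h01
    rw [ZMod.natCast_eq_zero_iff] at h20
    have := Nat.le_of_dvd two_pos h20
    omega

end PrimeDegree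

end CfsgLib.Perm
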