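import Cfsg.Agent.Lib.Perm.DegreeElevenData
import Cfsg.Agent.Lib.Perm.SylowPrimeDegree
import Cfsg.Agent.Lib.Perm.Basic
import Cfsg.Agent.S0713
import Mathlib.GroupTheory.Transfer
import Mathlib.GroupTheory.SpecificGroups.ZGroup
import Mathlib.GroupTheory.SpecificGroups.Alternating
import Mathlib.Data.Nat.Squarefree
import Mathlib.Data.List.GetD

/-!
Insoluble groups of permutations of `ZMod 11` containing the translation.
-/

set_option autoImplicit false
set_option linter.style.haveILetI false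

namespace CfsgLib.Perm.DegreeEleven

open MulAction

local instance fact_eleven : Fact (Nat.Prime 11) := ⟨by norm_num⟩

theorem mk_apply (f : ZMod 11 → ZMod 11) (h : mk f ≠ 1) (i : ZMod 11) : mk f i = f i := by
  simp only [mk] at h ⊢
  split_ifs with hc
  · rfl
  · exact absurd (by rw [dif_neg hc]) h

theorem mk_eq {f : ZMod 11 → ZMod 11} {c : Equiv.Perm (ZMod 11)} (h : ∀ i, c i = f i) : mk f = c := by
  have hinv : ∀ i, (∑ k, if f k = f i then k else 0) = i := fun i => by
    rw [Finset.sum_eq_single i (fun k _ hk => if_neg fun e => hk (c.injective (by rw [h, h, e])))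
      (fun hn => absurd (Finset.mem_univ i) hn), if_pos rfl]
  unfold mk
  rw [dif_pos ⟨hinv, fun j => by
    obtain ⟨i, rfl⟩ := c.surjective j
    show f (∑ k, if f k = c i then k else 0) = c i
    rw [h, hinv]⟩]
  exact Equiv.ext fun i => (h i).symm

theorem getD_tbl (z : Equiv.Perm (ZMod 11)) {i : ℕ} (hi : i < 11) :
    (tbl z).getD i 0 = (z (i : ZMod 11)).val := by
  rw [tbl, List.getD_eq_getElem _ _ (by simpa using hi)]
  simp

theorem tbl_mul (z y : Equiv.Perm (ZMod 11)) : tbl (z * y) = compT (tbl z) (tbl y) := by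
  simp only [compT]
  conv_rhs => arg 2; rw [tbl]
  rw [List.map_map, tbl]
  refine List.map_congr_left fun i _ => ?_
  rw [Function.comp_apply, getD_tbl z (ZMod.val_lt _), ZMod.natCast_zmod_val, Equiv.Perm.mul_apply]

theorem tbl_one : tbl 1 = idT := by decide +kernel

theorem tbl_pow (z : Equiv.Perm (ZMod 11)) : ∀ m, tbl (z ^ m) = powT (tbl z) m
  | 0 => tbl_one
  | m + 1 => by rw [pow_succ, tbl_mul, tbl_pow z m]; rfl

theorem tbl_injective : Function.Injective tbl := fun z y h => Equiv.ext fun x => by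
  have := congrArg (fun L => L.getD x.val 0) h
  simp only [getD_tbl _ (ZMod.val_lt x), ZMod.natCast_zmod_val] at this
  exact ZMod.val_injective _ this

theorem trn_pow_apply (k : ℕ) (x : ZMod 11) : (trn ^ k) x = x + k := by
  induction k with
  | zero => simp
  | succ k ih => rw [pow_succ', Equiv.Perm.mul_apply, ih, Nat.cast_succ, ← add_assoc]; rfl

theorem tbl_trn_pow (k : ℕ) : tbl (trn ^ k) = trnT k := by
  rw [tbl, trnT]
  refine List.map_congr_left fun i _ => ?_
  rw [trn_pow_apply, ← Nat.cast_add, ZMod.val_natCast]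

theorem trn_pow_inv {k : ℕ} (hk : k ≤ 11) : (trn ^ k)⁻¹ = trn ^ (11 - k) := by
  refine inv_eq_of_mul_eq_one_right (Equiv.ext fun x => ?_)
  rw [← pow_add, trn_pow_apply, Nat.add_sub_cancel' hk, ZMod.natCast_self, add_zero]
  rfl

theorem tbl_trn : tbl trn = trnT 1 := by rw [← tbl_trn_pow, pow_one]

theorem tbl_dil : tbl dil = dilT := by decide +kernel

theorem tbl_flip : tbl flip = flipT := by decide +kernel

theorem dil_apply : ∀ x : ZMod 11, dil x = 4 * x := by decide +kernel

theorem sign_trn : Equiv.Perm.sign trn = 1 := by decide +kernel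

theorem sign_flip : Equiv.Perm.sign flip = -1 := by decide +kernel

theorem tbl_cand {a : ℕ} {v w : ZMod 11} (h : cand a v w ≠ 1) : tbl (cand a v w) = candT a v w := by
  rw [tbl, candT]
  refine List.map_congr_left fun i _ => ?_
  rw [show cand a v w (i : ZMod 11) = if (i : ZMod 11) ^ 5 = 1 then (i : ZMod 11) ^ a * v
    else (i : ZMod 11) ^ a * 6 ^ a * w from mk_apply _ h _]
  have hiff : ((i : ZMod 11) ^ 5 = 1) ↔ ((i ^ 5 % 11 == 1) = true) := by
    rw [beq_iff_eq, ← Nat.cast_pow, ← Nat.cast_one, ZMod.natCast_eq_natCast_iff']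
  by_cases hc : (i : ZMod 11) ^ 5 = 1
  · rw [if_pos hc, if_pos (hiff.1 hc), ZMod.val_mul, ← Nat.cast_pow, ZMod.val_natCast, Nat.mod_mul_mod]
  · rw [if_neg hc, if_neg (fun e => hc (hiff.2 e)), show (6 : ZMod 11) = ((6 : ℕ) : ZMod 11) from rfl,
      ← Nat.cast_pow, ← Nat.cast_pow, ← Nat.cast_mul, ZMod.val_mul, ZMod.val_natCast, Nat.mod_mul_mod]

theorem tbl_evalW (c : Equiv.Perm (ZMod 11)) :
    ∀ l : List ℕ, tbl (evalW c l) = evalT (tbl c) l
  | [] => tbl_one
  | i :: l => by
    simp only [evalW, evalT, List.map_cons, List.prod_cons, List.foldr_cons]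
    have ih := tbl_evalW c l
    simp only [evalW, evalT] at ih
    rw [tbl_mul, ih]
    split_ifs <;> simp [tbl_trn, tbl_dil, tbl_flip]

theorem evalW_mem {K : Subgroup (Equiv.Perm (ZMod 11))} (ht : trn ∈ K) (hd : dil ∈ K)
    {c : Equiv.Perm (ZMod 11)} (hc : c ∈ K) (l : List ℕ) (hl : (∀ i ∈ l, i < 3) ∨ flip ∈ K) :
    evalW c l ∈ K := by
  refine Subgroup.list_prod_mem _ fun x hx => ?_
  obtain ⟨i, hi, rfl⟩ := List.mem_map.1 hx
  split_ifs with h0 h1 h2
  · exact ht
  · exact hd
  · exact hc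
  · rcases hl with h | h
    · exact absurd (h i hi) (by omega)
    · exact h

theorem isPT_spec {z : Equiv.Perm (ZMod 11)} {p : ℕ} (h : isPT (tbl z) p = true) :
    p.Prime ∧ p ≤ 7 ∧ z.IsCycle ∧ z.support.card = p := by
  simp only [isPT, Bool.and_eq_true, bne_iff_ne, beq_iff_eq, Bool.or_eq_true] at h
  obtain ⟨⟨⟨hne, hpow⟩, hmov⟩, hp⟩ := h
  have hprime : p.Prime := by rcases hp with ((rfl | rfl) | rfl) | rfl <;> norm_num
  haveI := Fact.mk hprime
  have hp7 : p ≤ 7 := by omega
  have hord : orderOf z = p := orderOf_eq_prime (tbl_injective (by rw [tbl_pow, hpow, tbl_one]))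
    (fun e => hne (by rw [e, tbl_one]))
  have hcard : z.support.card = p := by
    rw [← hmov, ← List.toFinset_card_of_nodup (List.Nodup.filter _ List.nodup_range)]
    refine Finset.card_bij (fun x _ => x.val) (fun x hx => ?_) (fun x _ y _ e => ZMod.val_injective _ e)
      fun i hi => ?_
    · rw [Equiv.Perm.mem_support] at hx
      simp only [List.mem_toFinset, List.mem_filter, List.mem_range, bne_iff_ne]
      refine ⟨ZMod.val_lt x, fun e => hx ?_⟩
      rw [getD_tbl z (ZMod.val_lt x), ZMod.natCast_zmod_val] at e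
      exact ZMod.val_injective _ e
    · simp only [List.mem_toFinset, List.mem_filter, List.mem_range, bne_iff_ne] at hi
      refine ⟨(i : ZMod 11), Equiv.Perm.mem_support.2 fun e => hi.2 ?_, ZMod.val_cast_of_lt hi.1⟩
      rw [getD_tbl z hi.1, e, ZMod.val_cast_of_lt hi.1]
  refine ⟨hprime, hp7, Equiv.Perm.isCycle_of_prime_order (by rw [hord]; exact hprime) ?_, hcard⟩
  rw [hcard, hord]
  have := hprime.two_le
  omega

section Groups

variable {K : Subgroup (Equiv.Perm (ZMod 11))} (hK : trn ∈ K)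
  (hA : ¬ alternatingGroup (ZMod 11) ≤ K)

include hK

theorem pretransitive : IsPretransitive K (ZMod 11) :=
  ⟨fun x y => ⟨⟨trn ^ (y - x).val, pow_mem hK _⟩, by
    show (trn ^ (y - x).val) x = y
    rw [trn_pow_apply, ZMod.natCast_zmod_val, add_sub_cancel]⟩⟩

theorem preprimitive : IsPreprimitive K (ZMod 11) :=
  haveI := pretransitive hK
  IsPreprimitive.of_prime_card (by rw [Nat.card_zmod]; norm_num)

include hA

theorem no_cycle {z : Equiv.Perm (ZMod 11)} (hz : z ∈ K) {p : ℕ} (hp : p.Prime) (hp8 : p ≤ 8)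
    (hc : z.IsCycle) (hcard : z.support.card = p) : False :=
  hA (Cfsg.Agent.S0713.result K (preprimitive hK) hp (by rw [ZMod.card]; norm_num)
    (by rw [ZMod.card]; omega) hc hcard hz)

theorem no_pt {z : Equiv.Perm (ZMod 11)} (hz : z ∈ K) {p : ℕ} (h : isPT (tbl z) p = true) : False := by
  obtain ⟨h1, h2, h3, h4⟩ := isPT_spec h
  exact no_cycle hK hA hz h1 (by omega) h3 h4

theorem not_seven_dvd : ¬ 7 ∣ Nat.card K := by
  intro h
  haveI : Fact (Nat.Prime 7) := ⟨by norm_num⟩
  obtain ⟨x, hx⟩ := exists_prime_orderOf_dvd_card' 7 h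
  rw [← Subgroup.orderOf_coe] at hx
  have hlt : (x : Equiv.Perm (ZMod 11)).support.card < 2 * 7 := by
    have := Finset.card_le_univ (x : Equiv.Perm (ZMod 11)).support
    rw [ZMod.card] at this
    omega
  have hcyc := Equiv.Perm.isCycle_of_prime_order (σ := (x : Equiv.Perm (ZMod 11)))
    (by rw [hx]; norm_num) (by rw [hx]; exact hlt)
  exact no_cycle hK hA x.2 (by norm_num : Nat.Prime 7) (by norm_num) hcyc (by rw [← hcyc.orderOf, hx])

theorem not_twentyfive_dvd : ¬ 5 ^ 2 ∣ Nat.card K := by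
  intro h
  haveI : Fact (Nat.Prime 5) := ⟨by norm_num⟩
  let z : Equiv.Perm (ZMod 11) := Equiv.swap 0 1 * Equiv.swap 1 2 * Equiv.swap 2 3 * Equiv.swap 3 4
  have hz : isPT (tbl z) 5 = true := by decide +kernel
  obtain ⟨-, -, hc, hcard⟩ := isPT_spec hz
  have hfull : (Nat.card (Equiv.Perm (ZMod 11))).factorization 5 = 2 := by
    rw [Nat.card_perm, Nat.card_zmod, show Nat.factorial 11 = 5 ^ 2 * 1596672 by decide,
      Nat.factorization_mul (by norm_num) (by norm_num), Finsupp.add_apply,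
      Nat.Prime.factorization_pow (by norm_num : Nat.Prime 5), Finsupp.single_eq_same,
      Nat.factorization_eq_zero_of_not_dvd (by norm_num : ¬ 5 ∣ 1596672)]
  obtain ⟨g, hg⟩ := CfsgLib.Perm.exists_conj_mem_of_full_part K h hfull (s := z) (j := 1)
    (tbl_injective (by rw [pow_one, tbl_pow, tbl_one]; decide +kernel))
  exact no_cycle hK hA hg (by norm_num : Nat.Prime 5) (by norm_num) hc.conj
    (by rw [Equiv.Perm.card_support_conj, hcard])

theorem no_double {b c d : ZMod 11} (hb : b ≠ 0) (hc : c ≠ 0) (hd : d ≠ 0) (hbc : b ≠ c) (hbd : b ≠ d)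
    (hcd : c.val < d.val) (hx : Equiv.swap 0 b * Equiv.swap c d ∈ K) : False := by
  have h := check_double ⟨b.val, ZMod.val_lt b⟩ ⟨c.val, ZMod.val_lt c⟩ ⟨d.val, ZMod.val_lt d⟩
  simp only [doubleOk, Bool.or_eq_true, beq_iff_eq, Nat.ble_eq, List.any_eq_true, Bool.and_eq_true] at h
  have hv : ∀ u : ZMod 11, u ≠ 0 → u.val ≠ 0 := fun u hu h0 => hu ((ZMod.val_eq_zero u).1 h0)
  rcases h with ((((h | h) | h) | h) | h) | h
  · exact hv b hb h
  · exact hv c hc h
  · exact hbc (ZMod.val_injective _ h)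
  · exact hbd (ZMod.val_injective _ h)
  · omega
  obtain ⟨e, he, -, hp⟩ := h
  have hsw : ∀ u v : ZMod 11, tbl (Equiv.swap u v) = swapT u.val v.val := by
    intro u v
    rw [tbl, swapT]
    refine List.map_congr_left fun i hi => ?_
    rw [List.mem_range] at hi
    have key : ∀ u : ZMod 11, ((i : ZMod 11) = u) ↔ i = u.val := fun u =>
      ⟨fun e => by rw [← e, ZMod.val_cast_of_lt hi], fun e => by rw [e, ZMod.natCast_zmod_val]⟩
    rw [Equiv.swap_apply_def]
    simp only [beq_iff_eq, key]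
    split_ifs <;> first | rfl | exact ZMod.val_cast_of_lt hi
  set k := e.2.2.2.1 with hk
  have hk11 : k ≤ 11 := by
    have : doubleTable.all (fun e => decide (e.2.2.2.1 ≤ 11)) = true := by decide +kernel
    exact of_decide_eq_true (List.all_eq_true.1 this e he)
  refine no_pt hK hA (z := (Equiv.swap 0 b * Equiv.swap c d *
    (trn ^ k * (Equiv.swap 0 b * Equiv.swap c d) * (trn ^ k)⁻¹)) ^ e.2.2.2.2.1)
    (pow_mem (mul_mem hx (mul_mem (mul_mem (pow_mem hK _) hx) (inv_mem (pow_mem hK _)))) _) (p := e.2.2.2.2.2) ?_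
  rw [trn_pow_inv hk11, tbl_pow, mul_assoc (trn ^ k)]
  simp only [tbl_mul, hsw, tbl_trn_pow, ZMod.val_zero]
  exact hp

theorem no_double' {a b c d : ZMod 11} (hab : a ≠ b) (hac : a ≠ c) (had : a ≠ d) (hbc : b ≠ c)
    (hbd : b ≠ d) (hcd : c ≠ d) (hx : Equiv.swap a b * Equiv.swap c d ∈ K) : False := by
  set k := (-a).val
  have key : ∀ u v : ZMod 11, trn ^ k * Equiv.swap u v * (trn ^ k)⁻¹ = Equiv.swap (u - a) (v - a) := by
    intro u v
    rw [← Equiv.swap_apply_apply]
    simp [trn_pow_apply, k, sub_eq_add_neg]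
  have hy := mul_mem (mul_mem (pow_mem hK k) hx) (inv_mem (pow_mem hK k))
  rw [← conj_mul, key, key, sub_self] at hy
  have hne : ∀ u v : ZMod 11, u ≠ v → u - a ≠ v - a := fun u v h e => h (sub_left_injective e)
  rcases Nat.lt_or_gt_of_ne (fun e => hne c d hcd (ZMod.val_injective _ e)) with h | h
  · exact no_double hK hA (sub_ne_zero.2 hab.symm) (sub_ne_zero.2 hac.symm) (sub_ne_zero.2 had.symm)
      (hne b c hbc) (hne b d hbd) h hy
  · rw [Equiv.swap_comm (c - a)] at hy
    exact no_double hK hA (sub_ne_zero.2 hab.symm) (sub_ne_zero.2 had.symm) (sub_ne_zero.2 hac.symm)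
      (hne b d hbd) (hne b c hbc) h hy

omit hA in
/-- An element normalising the translations is affine. -/
theorem affine {y : Equiv.Perm (ZMod 11)} {a : ℕ} (hy : y * trn * y⁻¹ = trn ^ a) (j : ZMod 11) :
    y j = y 0 + a * j := by
  have h : ∀ i : ℕ, y (i : ZMod 11) = y 0 + a * i := by
    intro i
    induction i with
    | zero => simp
    | succ i ih =>
      have h1 : y * trn = trn ^ a * y := mul_inv_eq_iff_eq_mul.1 hy
      have h2 := congrArg (fun z : Equiv.Perm (ZMod 11) => z (i : ZMod 11)) h1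
      simp only [Equiv.Perm.mul_apply, trn_pow_apply] at h2
      rw [Nat.cast_succ]
      rw [show y (trn (i : ZMod 11)) = y ((i : ZMod 11) + 1) from rfl, ih] at h2
      rw [h2]; ring
  have := h j.val
  rwa [ZMod.natCast_zmod_val] at this

theorem basic (hns : ¬ Group.IsSolvable K) :
    ∃ n s : ℕ, Nat.card K = 11 * (n * s) ∧ n % 11 = 1 ∧ s ∣ 10 ∧ s ≠ 1 ∧ (2 ∣ s → flip ∈ K) ∧
      (5 ∣ s → dil ∈ K) := by
  classical
  haveI := pretransitive hK
  haveI := preprimitive hK
  set t : K := ⟨trn, hK⟩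
  have hord : orderOf t = 11 := by
    rw [← Subgroup.orderOf_coe]
    exact orderOf_eq_prime (show trn ^ 11 = 1 by decide +kernel) (show trn ≠ 1 by decide +kernel)
  obtain ⟨P, hP⟩ := (IsPGroup.of_card (p := 11) (n := 1)
    (show Nat.card (Subgroup.zpowers t) = 11 ^ 1 by rw [Nat.card_zpowers, hord, pow_one])).exists_le_sylow
  have hcP := CfsgLib.Perm.card_sylow_eq (ZMod.card 11) K P
  have hPeq : Subgroup.zpowers t = (P : Subgroup K) :=
    Subgroup.eq_of_le_of_card_ge hP (by rw [hcP, Nat.card_zpowers, hord])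
  set NP := Subgroup.normalizer ((P : Subgroup K) : Set K) with hNPdef
  obtain ⟨s, hs⟩ : 11 ∣ Nat.card NP := by
    have h := Subgroup.card_dvd_of_le (show (P : Subgroup K) ≤ NP from Subgroup.le_normalizer)
    exact (dvd_of_eq hcP.symm).trans h
  have hs10 : s ∣ 10 := Nat.dvd_of_mul_dvd_mul_left (by norm_num : 0 < 11)
    (hs ▸ CfsgLib.Perm.card_normalizer_dvd (ZMod.card 11) K P)
  refine ⟨Nat.card (Sylow 11 K), s, ?_, card_sylow_modEq_one 11 K, hs10, ?_, ?_, ?_⟩
  · rw [show Nat.card (Sylow 11 K) = NP.index from Sylow.card_eq_index_normalizer P,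
      ← NP.card_mul_index, hs]; ring
  · rintro rfl
    haveI : IsCyclic (P : Subgroup K) := isCyclic_of_prime_card hcP
    have hNP : NP = (P : Subgroup K) :=
      (Subgroup.eq_of_le_of_card_ge Subgroup.le_normalizer (by rw [hs, hcP])).symm
    have hle : NP ≤ Subgroup.centralizer ((P : Subgroup K) : Set K) := by
      rw [hNP]
      exact Subgroup.le_centralizer _
    have hKc := MonoidHom.ker_transferSylow_isComplement' P hle
    by_cases hbot : (MonoidHom.transferSylow P hle).ker = ⊥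
    · have h := hKc.card_mul
      rw [hcP, hbot, Subgroup.card_bot, one_mul] at h
      haveI : IsCyclic K := isCyclic_of_prime_card (p := 11) h.symm
      exact hns (@Group.isSolvable_of_comm _ _ fun a b => (IsCyclic.commGroup (α := K)).mul_comm a b)
    · haveI := CfsgLib.Perm.isPretransitive_of_normal (α := ZMod 11) _ hbot
      refine MonoidHom.not_dvd_card_ker_transferSylow P hle ?_
      have h := MulAction.index_stabilizer_of_transitive (MonoidHom.transferSylow P hle).ker (0 : ZMod 11)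
      rw [Nat.card_zmod] at h
      exact (dvd_of_eq h.symm).trans (Subgroup.index_dvd_card _)
  all_goals intro hq
  -- an element of the normaliser of prime order
  all_goals
    have key : ∀ (q : ℕ), q.Prime → q ≠ 11 → q ∣ Nat.card NP → ∃ (y : K) (a : ℕ),
        (y : Equiv.Perm (ZMod 11)) * trn * (y : Equiv.Perm (ZMod 11))⁻¹ = trn ^ a ∧
        (a : ZMod 11) ^ q = 1 ∧ (a : ZMod 11) ≠ 1 := by
      intro q hq hq11 hd
      haveI := Fact.mk hq
      obtain ⟨y, hy⟩ := exists_prime_orderOf_dvd_card' (G := NP) q hd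
      rw [← Subgroup.orderOf_coe, ← Subgroup.orderOf_coe] at hy
      have hmem : (y : K) * t * (y : K)⁻¹ ∈ Subgroup.zpowers t := by
        rw [hPeq]
        exact (Subgroup.mem_normalizer_iff.1 y.2 t).1 (hPeq.le (Subgroup.mem_zpowers t))
      obtain ⟨a, ha⟩ := mem_powers_iff_mem_zpowers.2 hmem
      have ha' : ((y : K) : Equiv.Perm (ZMod 11)) * trn * ((y : K) : Equiv.Perm (ZMod 11))⁻¹ = trn ^ a :=
        (congrArg Subtype.val ha).symm
      refine ⟨y, a, ha', ?_, ?_⟩
      · have hpow : ∀ i : ℕ, ∀ j : ZMod 11,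
            (((y : K) : Equiv.Perm (ZMod 11)) ^ i) j - (((y : K) : Equiv.Perm (ZMod 11)) ^ i) 0 =
              (a : ZMod 11) ^ i * j := by
          intro i
          induction i with
          | zero => intro j; simp
          | succ i ih =>
            intro j
            rw [pow_succ', Equiv.Perm.mul_apply, Equiv.Perm.mul_apply, affine hK ha',
              affine hK ha' ((((y : K) : Equiv.Perm (ZMod 11)) ^ i) 0), pow_succ]
            linear_combination (a : ZMod 11) * ih j
        have h1 := hpow q 1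
        rw [← hy, pow_orderOf_eq_one, mul_one] at h1
        rw [← hy, ← h1]
        rfl
      · intro h1
        have hmul : ((y : K) : Equiv.Perm (ZMod 11)) = trn ^ (((y : K) : Equiv.Perm (ZMod 11)) 0).val :=
          Equiv.ext fun j => by
            rw [affine hK ha', h1, one_mul, trn_pow_apply, ZMod.natCast_zmod_val, add_comm]
        have hd11 : orderOf ((y : K) : Equiv.Perm (ZMod 11)) ∣ 11 := by
          rw [hmul]
          exact (orderOf_pow_dvd _).trans (dvd_of_eq ((Subgroup.orderOf_coe t).trans hord))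
        rw [hy] at hd11
        exact hq11 ((Nat.prime_dvd_prime_iff_eq hq (by norm_num)).1 hd11)
  · obtain ⟨y, a, ha, ha2, ha1⟩ := key 2 Nat.prime_two (by norm_num) (hs ▸ hq.mul_left 11)
    have ham : (a : ZMod 11) = -1 := (sq_eq_one_iff.1 ha2).resolve_left ha1
    have hflip : flip = (trn ^ ((y : Equiv.Perm (ZMod 11)) 0).val)⁻¹ * (y : Equiv.Perm (ZMod 11)) := by
      rw [eq_inv_mul_iff_mul_eq]
      refine Equiv.ext fun j => ?_
      rw [Equiv.Perm.mul_apply, trn_pow_apply, ZMod.natCast_zmod_val, affine hK ha j, ham]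
      show -j + _ = _
      ring
    rw [hflip]
    exact mul_mem (inv_mem (pow_mem hK _)) y.2
  · obtain ⟨y, a, ha, ha5, ha1⟩ := key 5 (by norm_num) (by norm_num) (hs ▸ hq.mul_left 11)
    have h4 : ∀ u : ZMod 11, u ^ 5 = 1 → u ≠ 1 → ∃ m : Fin 5, u ^ m.val = 4 := by decide +kernel
    obtain ⟨⟨m, hm5⟩, hm⟩ := h4 _ ha5 ha1
    dsimp only at hm
    have hym : ∀ i : ℕ, ∀ j : ZMod 11, ((y : Equiv.Perm (ZMod 11)) ^ i) j =
        ((y : Equiv.Perm (ZMod 11)) ^ i) 0 + (a : ZMod 11) ^ i * j := by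
      intro i
      induction i with
      | zero => intro j; simp
      | succ i ih =>
        intro j
        rw [pow_succ', Equiv.Perm.mul_apply, Equiv.Perm.mul_apply, affine hK ha,
          affine hK ha (((y : Equiv.Perm (ZMod 11)) ^ i) 0), ih j, pow_succ]
        ring
    have hdil : dil = (trn ^ (((y : Equiv.Perm (ZMod 11)) ^ m) 0).val)⁻¹ * (y : Equiv.Perm (ZMod 11)) ^ m := by
      rw [eq_inv_mul_iff_mul_eq]
      refine Equiv.ext fun j => ?_
      rw [Equiv.Perm.mul_apply, trn_pow_apply, dil_apply, ZMod.natCast_zmod_val, hym m j, hm]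
      ring
    rw [hdil]
    exact mul_mem (inv_mem (pow_mem hK _)) (pow_mem y.2 m)

end Groups

/-- Elements conjugating `dil` to a power have the closed form. -/
theorem eq_cand {c : Equiv.Perm (ZMod 11)} {a : ℕ} (ha : a ∈ [1, 2, 4])
    (hc : c * dil * c⁻¹ = dil ^ a) : cand a (c 1) (c 2) = c := by
  have hp : ∀ (i : ℕ) (x : ZMod 11), (dil ^ i) x = 4 ^ i * x := by
    intro i
    induction i with
    | zero => simp
    | succ i ih => intro x; rw [pow_succ', Equiv.Perm.mul_apply, ih, dil_apply, pow_succ]; ring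
  have hc' : ∀ (i : ℕ) (x : ZMod 11), c (4 ^ i * x) = 4 ^ (a * i) * c x := by
    intro i
    induction i with
    | zero => simp
    | succ i ih =>
      intro x
      have h1 := congrArg (fun z : Equiv.Perm (ZMod 11) => z (4 ^ i * x)) (mul_inv_eq_iff_eq_mul.1 hc)
      simp only [Equiv.Perm.mul_apply, dil_apply, hp, ih] at h1
      rw [pow_succ, show (4 : ZMod 11) ^ i * 4 * x = 4 * (4 ^ i * x) by ring, h1, Nat.mul_succ, pow_add]
      ring
  have hzero : c 0 = 0 := by
    have h1 := hc' 1 0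
    rw [mul_zero, mul_one] at h1
    have h4 : ∀ a ∈ [1, 2, 4], ∀ z : ZMod 11, z = 4 ^ a * z → z = 0 := by decide +kernel
    exact h4 a ha _ h1
  refine mk_eq fun x => ?_
  by_cases hx : x = 0
  · subst hx
    have ha0 : a ≠ 0 := fun e => by simp [e] at ha
    rw [hzero, if_neg (by decide +kernel), zero_pow ha0, zero_mul, zero_mul]
  have hdec : ∀ x : ZMod 11, x ≠ 0 → ∃ i : Fin 5, x = 4 ^ i.val ∨ x = 4 ^ i.val * 2 := by decide +kernel
  obtain ⟨i, rfl | rfl⟩ := hdec x hx
  · have h5 : ∀ i : Fin 5, ((4 : ZMod 11) ^ i.val) ^ 5 = 1 := by decide +kernel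
    have h := hc' i 1
    rw [mul_one] at h
    rw [if_pos (h5 i), h, ← pow_mul, mul_comm (i : ℕ)]
  · have h5 : ∀ i : Fin 5, ((4 : ZMod 11) ^ i.val * 2) ^ 5 ≠ 1 := by decide +kernel
    rw [if_neg (h5 i), hc', mul_pow, ← pow_mul, mul_comm (i : ℕ), mul_assoc ((4 : ZMod 11) ^ (a * i)),
      ← mul_pow, show (2 : ZMod 11) * 6 = 1 by decide +kernel, one_pow, mul_one]

end CfsgLib.Perm.DegreeEleven
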