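import Cfsg.Agent.Lib.Perm.DegreeEleven
import Mathlib.Data.Fintype.CardEmbedding

/-!
The two insoluble types of degree eleven.
-/

set_option autoImplicit false
set_option linter.style.haveILetI false

namespace CfsgLib.Perm.DegreeEleven

open MulAction

local instance fact_eleven' : Fact (Nat.Prime 11) := ⟨by norm_num⟩

variable {K : Subgroup (Equiv.Perm (ZMod 11))} (hK : trn ∈ K)
  (hA : ¬ alternatingGroup (ZMod 11) ≤ K) (heven : K ≤ alternatingGroup (ZMod 11))

include hK hA heven

theorem not_sixtyfour_dvd : ¬ 2 ^ 6 ∣ Nat.card K := by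
  classical
  intro h
  haveI := Fact.mk Nat.prime_two
  have hc : Nat.card (K.subgroupOf (alternatingGroup (ZMod 11))) = Nat.card K :=
    Nat.card_congr (Subgroup.subgroupOfEquivOfLe heven).toEquiv
  obtain ⟨Q0, hQ0⟩ := Sylow.exists_subgroup_card_pow_prime
    (G := K.subgroupOf (alternatingGroup (ZMod 11))) 2 (hc.symm ▸ h)
  obtain ⟨P, hP⟩ :=
    ((IsPGroup.of_card hQ0).map (K.subgroupOf (alternatingGroup (ZMod 11))).subtype).exists_le_sylow
  set Q := Q0.map (K.subgroupOf (alternatingGroup (ZMod 11))).subtype with hQ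
  have hQc : Nat.card Q = 2 ^ 6 := by
    rw [hQ, Subgroup.card_map_of_injective (Subgroup.subtype_injective _), hQ0]
  have hPc : Nat.card P = 2 ^ 7 := by
    rw [P.card_eq_multiplicity, nat_card_alternatingGroup, Nat.card_zmod,
      show Nat.factorial 11 / 2 = 2 ^ 7 * 155925 by decide +kernel,
      Nat.factorization_mul (by norm_num) (by norm_num), Finsupp.add_apply,
      Nat.Prime.factorization_pow Nat.prime_two, Finsupp.single_eq_same,
      Nat.factorization_eq_zero_of_not_dvd (by norm_num : ¬ 2 ∣ 155925)]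
  have hidx : (Q.subgroupOf (P : Subgroup (alternatingGroup (ZMod 11)))).index = 2 := by
    have h1 := (Q.subgroupOf (P : Subgroup (alternatingGroup (ZMod 11)))).card_mul_index
    rw [Nat.card_congr (Subgroup.subgroupOfEquivOfLe hP).toEquiv, hQc, hPc] at h1
    omega
  let g₀ : alternatingGroup (ZMod 11) :=
    ⟨Equiv.swap 0 1 * Equiv.swap 8 9 * (Equiv.swap 0 2 * Equiv.swap 1 3),
      Equiv.Perm.mem_alternatingGroup.2 (by decide +kernel)⟩
  have hg₀ : g₀ ^ 2 ^ 2 = 1 := Subtype.ext (tbl_injective (by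
    rw [SubmonoidClass.coe_pow, tbl_pow]
    decide +kernel))
  have hsP : IsPGroup 2 (Subgroup.zpowers g₀) := by
    rintro ⟨x, hx⟩
    obtain ⟨i, rfl⟩ := Subgroup.mem_zpowers_iff.1 hx
    refine ⟨2, Subtype.ext ?_⟩
    show (g₀ ^ i) ^ 2 ^ 2 = 1
    rw [← zpow_natCast, zpow_comm, zpow_natCast, hg₀, one_zpow]
  obtain ⟨S, hS⟩ := hsP.exists_le_sylow
  obtain ⟨g, hg⟩ := MulAction.exists_smul_eq (alternatingGroup (ZMod 11)) S P
  have hmem : g * g₀ * g⁻¹ ∈ (P : Subgroup (alternatingGroup (ZMod 11))) := by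
    rw [← hg, Sylow.coe_subgroup_smul]
    exact Subgroup.smul_mem_pointwise_smul g₀ (MulAut.conj g) _ (hS (Subgroup.mem_zpowers g₀))
  have hsq : (⟨_, hmem⟩ : (P : Subgroup (alternatingGroup (ZMod 11)))) ^ 2 ∈
      Q.subgroupOf (P : Subgroup (alternatingGroup (ZMod 11))) := Subgroup.sq_mem_of_index_two hidx _
  rw [Subgroup.mem_subgroupOf, SubmonoidClass.coe_pow] at hsq
  have hK' : (g * g₀ * g⁻¹) ^ 2 ∈ K.subgroupOf (alternatingGroup (ZMod 11)) :=
    Subgroup.map_subtype_le _ hsq
  rw [Subgroup.mem_subgroupOf, conj_pow] at hK'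
  simp only [Subgroup.coe_mul, InvMemClass.coe_inv, SubmonoidClass.coe_pow] at hK'
  rw [show (Equiv.swap (0 : ZMod 11) 1 * Equiv.swap 8 9 * (Equiv.swap 0 2 * Equiv.swap 1 3)) ^ 2 =
      Equiv.swap 0 1 * Equiv.swap 2 3 from tbl_injective (by rw [tbl_pow]; decide +kernel),
    ← conj_mul, ← Equiv.swap_apply_apply, ← Equiv.swap_apply_apply] at hK'
  have hne : ∀ u v : ZMod 11, u ≠ v →
      (g : Equiv.Perm (ZMod 11)) u ≠ (g : Equiv.Perm (ZMod 11)) v :=
    fun u v huv e => huv (g.1.injective e)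
  exact no_double' hK hA (hne 0 1 (by decide)) (hne 0 2 (by decide)) (hne 0 3 (by decide))
    (hne 1 2 (by decide)) (hne 1 3 (by decide)) (hne 2 3 (by decide)) hK'

theorem card_cases (hns : ¬ Group.IsSolvable K) :
    dil ∈ K ∧ ∃ n, Nat.card K = 55 * n ∧ (n = 12 ∨ n = 144) := by
  obtain ⟨n, s, hcard, hn, hs, hs1, h2, h5⟩ := basic hK hA hns
  have h2' : ¬ 2 ∣ s := fun h => by
    have := heven (h2 h)
    rw [Equiv.Perm.mem_alternatingGroup, sign_flip] at this
    exact absurd this (by decide)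
  obtain rfl : s = 5 :=
    (by decide +kernel : ∀ s ∈ Nat.divisors 10, ¬ 2 ∣ s → s ≠ 1 → s = 5) s
      (Nat.mem_divisors.2 ⟨hs, by norm_num⟩) h2' hs1
  have hc : Nat.card K = 55 * n := by rw [hcard]; ring
  refine ⟨h5 dvd_rfl, n, hc, ?_⟩
  have hd : n ∣ 362880 := by
    have h := Subgroup.card_dvd_of_le heven
    rw [nat_card_alternatingGroup, Nat.card_zmod, hc] at h
    exact Nat.dvd_of_mul_dvd_mul_left (by norm_num : 0 < 55)
      (h.trans (dvd_of_eq (by decide +kernel)))
  have h7 : ¬ 7 ∣ n := fun h => not_seven_dvd hK hA (hc ▸ h.mul_left 55)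
  have h55 : ¬ 5 ∣ n := fun h => not_twentyfive_dvd hK hA
    (hc ▸ (mul_dvd_mul (show 5 ∣ 55 by norm_num) h))
  have h64 : ¬ 2 ^ 6 ∣ n := fun h => not_sixtyfour_dvd hK hA heven (hc ▸ h.mul_left 55)
  have hd' : n ∣ 2 ^ 7 * 3 ^ 4 := by
    refine Nat.Coprime.dvd_of_dvd_mul_right (n := 5 * 7) (Nat.Coprime.mul_right ?_ ?_)
      (hd.trans (dvd_of_eq (show 362880 = 2 ^ 7 * 3 ^ 4 * (5 * 7) by norm_num)))
    · exact ((Nat.Prime.coprime_iff_not_dvd (by norm_num)).2 h55).symm
    · exact ((Nat.Prime.coprime_iff_not_dvd (by norm_num)).2 h7).symm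
  obtain ⟨a, b, ha, hb, rfl⟩ := Nat.dvd_mul.1 hd'
  obtain ⟨i, hi, rfl⟩ := (Nat.dvd_prime_pow Nat.prime_two).1 ha
  obtain ⟨j, hj, rfl⟩ := (Nat.dvd_prime_pow (by norm_num : Nat.Prime 3)).1 hb
  have hns55 : 2 ^ i * 3 ^ j ≠ 1 := by
    intro h1
    rw [h1, mul_one] at hc
    haveI := IsZGroup.of_squarefree (G := K) (by rw [hc]; decide +kernel)
    exact hns inferInstance
  interval_cases i <;> interval_cases j <;> simp_all

/-- A nontrivial element conjugating `dil` to a power, of the shape fixed by the order. -/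
theorem exists_conjugator {n : ℕ} (hc : Nat.card K = 55 * n) (hn : n = 12 ∨ n = 144) (hd : dil ∈ K) :
    ∃ a, ((n = 12 ∧ a = 4) ∨ (n = 144 ∧ a = 2)) ∧ ∃ c ∈ K, c ≠ 1 ∧
      Equiv.Perm.sign c = 1 ∧ cand a (c 1) (c 2) = c := by
  classical
  haveI : Fact (Nat.Prime 5) := ⟨by norm_num⟩
  set d : K := ⟨dil, hd⟩ with hddef
  have hdil5 : dil ^ 5 = 1 := tbl_injective (by rw [tbl_pow, tbl_dil, tbl_one]; decide +kernel)
  have hdil1 : dil ≠ 1 := fun e => absurd (congrArg tbl e) (by rw [tbl_dil, tbl_one]; decide +kernel)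
  have hord : orderOf d = 5 := by
    rw [← Subgroup.orderOf_coe]
    exact orderOf_eq_prime hdil5 hdil1
  obtain ⟨P, hP⟩ := (IsPGroup.of_card (p := 5) (n := 1)
    (show Nat.card (Subgroup.zpowers d) = 5 ^ 1 by rw [Nat.card_zpowers, hord, pow_one])).exists_le_sylow
  have hcP : Nat.card (P : Subgroup K) = 5 := by
    rw [P.card_eq_multiplicity, hc]
    rcases hn with rfl | rfl
    · rw [show 55 * 12 = 5 ^ 1 * 132 by norm_num, Nat.factorization_mul (by norm_num) (by norm_num),
        Finsupp.add_apply, Nat.Prime.factorization_pow (by norm_num : Nat.Prime 5), Finsupp.single_eq_same,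
        Nat.factorization_eq_zero_of_not_dvd (by norm_num : ¬ 5 ∣ 132)]
      rfl
    · rw [show 55 * 144 = 5 ^ 1 * 1584 by norm_num, Nat.factorization_mul (by norm_num) (by norm_num),
        Finsupp.add_apply, Nat.Prime.factorization_pow (by norm_num : Nat.Prime 5), Finsupp.single_eq_same,
        Nat.factorization_eq_zero_of_not_dvd (by norm_num : ¬ 5 ∣ 1584)]
      rfl
  have hPeq : Subgroup.zpowers d = (P : Subgroup K) :=
    Subgroup.eq_of_le_of_card_ge hP (by rw [hcP, Nat.card_zpowers, hord])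
  haveI : IsCyclic (P : Subgroup K) := isCyclic_of_prime_card hcP
  set N := Subgroup.normalizer ((P : Subgroup K) : Set K) with hNdef
  set f := (P : Subgroup K).normalizerMonoidHom with hfdef
  have hdN : ∀ x : Subgroup.normalizer ((P : Subgroup K) : Set K), ∃ a : ℕ, a < 5 ∧ a ≠ 0 ∧
      ((x : K) : Equiv.Perm (ZMod 11)) * dil * ((x : K) : Equiv.Perm (ZMod 11))⁻¹ = dil ^ a := by
    intro x
    have hmem : (x : K) * d * (x : K)⁻¹ ∈ Subgroup.zpowers d := by
      rw [hPeq]
      exact (Subgroup.mem_normalizer_iff.1 x.2 d).1 (hPeq.le (Subgroup.mem_zpowers d))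
    obtain ⟨a, ha⟩ := mem_powers_iff_mem_zpowers.2 hmem
    have ha' : d ^ (a % 5) = (x : K) * d * (x : K)⁻¹ :=
      (pow_eq_pow_mod a (show d ^ 5 = 1 from Subtype.ext hdil5)).symm.trans ha
    refine ⟨a % 5, Nat.mod_lt _ (by norm_num), fun h0 => ?_, (congrArg Subtype.val ha').symm⟩
    rw [h0, pow_zero, eq_comm, conj_eq_one_iff] at ha'
    exact hdil1 (congrArg Subtype.val ha')
  -- elements commuting with `dil` have order dividing five
  have hcomm : ∀ z ∈ K, z * dil * z⁻¹ = dil → z ^ 5 = 1 := by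
    intro z hz h
    have h1 := eq_cand (a := 1) (by simp) (by rw [pow_one]; exact h)
    rw [← h1]
    exact check_one _ _ (by rw [h1]; exact Equiv.Perm.mem_alternatingGroup.1 (heven hz))
  have hker : ∀ x : Subgroup.normalizer ((P : Subgroup K) : Set K), x ∈ f.ker →
      ((x : K) : Equiv.Perm (ZMod 11)) * dil * ((x : K) : Equiv.Perm (ZMod 11))⁻¹ = dil := by
    intro x hx
    have h := congrArg (fun φ : MulAut (P : Subgroup K) =>
      ((φ ⟨d, hPeq.le (Subgroup.mem_zpowers d)⟩ : (P : Subgroup K)) : K)) (MonoidHom.mem_ker.1 hx)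
    exact congrArg Subtype.val (show (x : K) * d * (x : K)⁻¹ = d from h)
  have hkc : Nat.card f.ker = 5 := by
    have hp5 : IsPGroup 5 f.ker := by
      intro x
      refine ⟨1, Subtype.ext (Subtype.ext (Subtype.ext ?_))⟩
      have h5 := hcomm _ (x.1).1.2 (hker x.1 x.2)
      simpa using h5
    obtain ⟨m, hm⟩ := IsPGroup.iff_card.1 hp5
    have hm1 : m ≤ 1 := by
      by_contra h2
      refine not_twentyfive_dvd hK hA ((pow_dvd_pow 5 (show 2 ≤ m by omega)).trans ?_)
      rw [← hm]
      exact (Subgroup.card_subgroup_dvd_card f.ker).trans (Subgroup.card_subgroup_dvd_card _)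
    have hm0 : m ≠ 0 := by
      intro h0
      rw [h0, pow_zero, Subgroup.card_eq_one] at hm
      have hdk : (⟨d, Subgroup.le_normalizer (hPeq.le (Subgroup.mem_zpowers d))⟩ :
          Subgroup.normalizer ((P : Subgroup K) : Set K)) ∈ f.ker := by
        refine MonoidHom.mem_ker.2 (MulEquiv.ext fun y => Subtype.ext ?_)
        show d * (y : K) * d⁻¹ = (y : K)
        obtain ⟨i, hi⟩ := Subgroup.mem_zpowers_iff.1 (hPeq.ge y.2)
        rw [← hi, mul_inv_eq_iff_eq_mul]
        exact ((Commute.refl d).zpow_right i).eq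
      rw [hm, Subgroup.mem_bot] at hdk
      exact hdil1 (congrArg (fun z : Subgroup.normalizer ((P : Subgroup K) : Set K) =>
        ((z : K) : Equiv.Perm (ZMod 11))) hdk)
    rw [hm, show m = 1 by omega, pow_one]
  obtain ⟨j, hj⟩ : 5 ∣ Nat.card N := hkc ▸ Subgroup.card_subgroup_dvd_card f.ker
  have hj4 : j ∣ 4 := by
    have h := f.ker.card_mul_index
    rw [hkc, Subgroup.index_ker, hj] at h
    rw [← Nat.eq_of_mul_eq_mul_left (by norm_num : 0 < 5) h]
    refine (Subgroup.card_subgroup_dvd_card f.range).trans ?_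
    rw [IsCyclic.card_mulAut, hcP, Nat.totient_prime (by norm_num)]
  have hidx : N.index % 5 = 1 := by
    rw [show N.index = Nat.card (Sylow 5 K) from (Sylow.card_eq_index_normalizer P).symm]
    exact card_sylow_modEq_one 5 K
  have hji : j * N.index = 11 * n := by
    have h := N.card_mul_index
    rw [hj, hc, mul_assoc, show 55 * n = 5 * (11 * n) by ring] at h
    exact Nat.eq_of_mul_eq_mul_left (by norm_num : 0 < 5) h
  have hj' : (n = 12 ∧ j = 2) ∨ (n = 144 ∧ j = 4) := by
    have hj0 : j ∈ Nat.divisors 4 := Nat.mem_divisors.2 ⟨hj4, by norm_num⟩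
    rw [show Nat.divisors 4 = {1, 2, 4} by decide] at hj0
    simp only [Finset.mem_insert, Finset.mem_singleton] at hj0
    rcases hn with rfl | rfl <;> rcases hj0 with rfl | rfl | rfl <;> omega
  -- counting by exponents
  choose ex hex5 hex0 hex using hdN
  have hdinj : ∀ a b : ℕ, a < 5 → b < 5 → dil ^ a = dil ^ b → a = b := by
    intro a b ha hb h
    exact pow_injOn_Iio_orderOf (by rw [Set.mem_Iio, orderOf_eq_prime hdil5 hdil1]; exact ha)
      (by rw [Set.mem_Iio, orderOf_eq_prime hdil5 hdil1]; exact hb) h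
  have hinv : ∀ x y : N, ex x = ex y → x⁻¹ * y ∈ f.ker := by
    intro x y hxy
    refine MonoidHom.mem_ker.2 (MulEquiv.ext fun z => Subtype.ext ?_)
    obtain ⟨i, hi⟩ := Subgroup.mem_zpowers_iff.1 (hPeq.ge z.2)
    show ((x⁻¹ * y : N) : K) * (z : K) * ((x⁻¹ * y : N) : K)⁻¹ = (z : K)
    have hbase : ((x⁻¹ * y : N) : K) * d * ((x⁻¹ * y : N) : K)⁻¹ = d := by
      apply Subtype.ext
      have e1 := hex x
      have e2 := hex y
      rw [← hxy, ← e1] at e2
      simp only [Subgroup.coe_mul, InvMemClass.coe_inv, mul_inv_rev, inv_inv]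
      show _ = dil
      calc _ = ((x : K) : Equiv.Perm (ZMod 11))⁻¹ * (((y : K) : Equiv.Perm (ZMod 11)) * dil *
            ((y : K) : Equiv.Perm (ZMod 11))⁻¹) * ((x : K) : Equiv.Perm (ZMod 11)) := by group; rfl
        _ = dil := by rw [e2]; group
    rw [← hi, ← conj_zpow, hbase]
  have hlast : ∀ a : ℕ, a ∈ [1, 2, 4] → a ≠ 1 → (∃ x : N, ex x = a) → ∃ c ∈ K, c ≠ 1 ∧
      Equiv.Perm.sign c = 1 ∧ cand a (c 1) (c 2) = c := by
    rintro a ha ha1 ⟨x, rfl⟩
    refine ⟨((x : K) : Equiv.Perm (ZMod 11)), (x : K).2, fun h => ?_,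
      Equiv.Perm.mem_alternatingGroup.1 (heven (x : K).2), eq_cand ha (hex x)⟩
    have := hex x
    rw [h, one_mul, inv_one, mul_one] at this
    exact ha1 (hdinj _ _ (hex5 x) (by norm_num) (this.symm.trans (pow_one _).symm))
  -- the number of elements with each exponent is at most five
  have hcount : ∀ S : Finset ℕ, (∀ x : N, ex x ∈ S) → j ≤ S.card := by
    intro S hS
    have key : Nat.card N ≤ Nat.card (↥S × f.ker) := by
      have hsur : ∀ a : ↥S, ∃ x : N, (∃ y, ex y = (a : ℕ)) → ex x = a := fun a => by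
        by_cases h : ∃ y : N, ex y = (a : ℕ)
        · exact ⟨h.choose, fun _ => h.choose_spec⟩
        · exact ⟨1, fun h' => absurd h' h⟩
      choose rep hrep using hsur
      refine Nat.card_le_card_of_injective
        (fun x : N => ((⟨ex x, hS x⟩, ⟨(rep ⟨ex x, hS x⟩)⁻¹ * x,
          hinv _ _ (hrep ⟨ex x, hS x⟩ ⟨x, rfl⟩)⟩) : ↥S × f.ker)) ?_
      intro x y h
      obtain ⟨h1, h2⟩ := Prod.mk.injEq _ _ _ _ ▸ h
      have h2' := congrArg Subtype.val h2
      simp only at h2'
      rw [h1] at h2'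
      exact mul_left_cancel h2'
    rw [Nat.card_prod, hkc, hj, Nat.card_eq_fintype_card, Fintype.card_coe] at key
    omega
  rcases hj' with ⟨rfl, rfl⟩ | ⟨rfl, rfl⟩
  · refine ⟨4, Or.inl ⟨rfl, rfl⟩, hlast 4 (by simp) (by norm_num) ?_⟩
    by_contra hno
    push Not at hno
    -- the square of an element of exponent two or three has exponent four
    have h1 : ∀ x : N, ex x = 1 := by
      intro x
      have hsq : ∀ x : N, ex (x * x) = ex x * ex x % 5 := by
        intro x
        apply hdinj _ _ (hex5 _) (Nat.mod_lt _ (by norm_num))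
        rw [← hex, pow_eq_pow_mod (ex x * ex x) hdil5 |>.symm, pow_mul, ← hex x, conj_pow, ← hex x]
        simp only [Subgroup.coe_mul, mul_inv_rev, mul_assoc]
      have hx5 := hex5 x
      have hx0 := hex0 x
      have h4 := hno x
      have h4' := hno (x * x)
      have hx := hsq x
      rw [hx] at h4'
      clear hx hsq
      generalize ex x = a at hx5 hx0 h4 h4' ⊢
      interval_cases a <;> omega
    have := hcount {1} (fun x => by rw [h1 x]; exact Finset.mem_singleton_self 1)
    simp at this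
  · refine ⟨2, Or.inr ⟨rfl, rfl⟩, hlast 2 (by simp) (by norm_num) ?_⟩
    by_contra hno
    push Not at hno
    have := hcount {1, 3, 4} (fun x => by
      have := hex5 x
      have := hex0 x
      have := hno x
      simp only [Finset.mem_insert, Finset.mem_singleton]
      omega)
    exact absurd (this.trans Finset.card_le_three) (by norm_num)

omit hK hA heven

section Classification

variable {G : Subgroup (Equiv.Perm (ZMod 11))} (hG : trn ∈ G) (hd : dil ∈ G)

include hG hd

theorem entry_false (hA : ¬ alternatingGroup (ZMod 11) ≤ G) {c : Equiv.Perm (ZMod 11)} (hcG : c ∈ G)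
    (hc1 : c ≠ 1) {a : ℕ} {v w : ZMod 11} (hc : cand a v w = c) {L : List Entry}
    (h : L.any (entryOk a v w) = true)
    (hL : (∀ e ∈ L, ∀ i ∈ e.2.2.1, i < 3) ∨ flip ∈ G) : False := by
  obtain ⟨e, he, hok⟩ := List.any_eq_true.1 h
  simp only [entryOk, Bool.and_eq_true] at hok
  refine no_pt hG hA (z := evalW c e.2.2.1 ^ e.2.2.2.1)
    (pow_mem (evalW_mem hG hd hcG e.2.2.1 (hL.imp (fun h => h e he) id)) _) (p := e.2.2.2.2) ?_
  rw [tbl_pow, tbl_evalW, ← hc, tbl_cand (by rw [hc]; exact hc1)]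
  exact hok.2

theorem exists_mem_agree {c : Equiv.Perm (ZMod 11)} (hcG : c ∈ G) {ws : List (List ℕ)}
    (hws : transOk (tbl c) ws = true) (hlt : ∀ l ∈ ws, ∀ i ∈ l, i < 3) (x : Fin 4 ↪ ZMod 11) :
    ∀ k, k ≤ 4 → ∃ g ∈ G, ∀ i : Fin 4, i.val < k → g ((i.val : ℕ) : ZMod 11) = x i := by
  intro k
  induction k with
  | zero => exact fun _ => ⟨1, one_mem G, fun i hi => absurd hi (Nat.not_lt_zero _)⟩
  | succ k ih =>
    intro hk
    obtain ⟨g, hg, hag⟩ := ih (Nat.le_of_succ_le hk)
    set j := g⁻¹ (x ⟨k, hk⟩) with hj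
    have hjk : k ≤ j.val := by
      by_contra hlt'
      push Not at hlt'
      have h1 := hag ⟨j.val, by omega⟩ hlt'
      have h1' : g j = x ⟨j.val, _⟩ := (congrArg g (ZMod.natCast_zmod_val j)).symm.trans h1
      rw [show g j = x ⟨k, hk⟩ from g.apply_symm_apply _] at h1'
      have h2 := congrArg Fin.val (x.injective h1')
      simp only at h2
      omega
    simp only [transOk, List.all_eq_true, List.mem_range, Bool.or_eq_true, Nat.blt_eq,
      List.any_eq_true] at hws
    obtain h | ⟨l, hl, hmap⟩ := hws k (by omega) j.val (ZMod.val_lt j)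
    · omega
    simp only [mapsTo, Bool.and_eq_true, List.all_eq_true, List.mem_range, beq_iff_eq] at hmap
    rw [← tbl_evalW] at hmap
    refine ⟨g * evalW c l, mul_mem hg (evalW_mem hG hd hcG l (Or.inl (hlt l hl))), fun i hi => ?_⟩
    rw [Equiv.Perm.mul_apply]
    rcases Nat.lt_succ_iff_lt_or_eq.1 hi with hi | hi
    · have h1 := hmap.1 i.val hi
      rw [getD_tbl _ (by omega)] at h1
      rw [show evalW c l ((i.val : ℕ) : ZMod 11) = ((i.val : ℕ) : ZMod 11) from
        ZMod.val_injective _ (by rw [h1, ZMod.val_cast_of_lt (by omega)])]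
      exact hag i hi
    · have h1 := hmap.2
      rw [getD_tbl _ (by omega)] at h1
      rw [hi, show evalW c l ((k : ℕ) : ZMod 11) = j from ZMod.val_injective _ h1,
        show g j = x ⟨k, hk⟩ from g.apply_symm_apply _]
      congr 1
      exact Fin.ext hi.symm

theorem sharply_four {c : Equiv.Perm (ZMod 11)} (hcG : c ∈ G) {ws : List (List ℕ)}
    (hws : transOk (tbl c) ws = true) (hlt : ∀ l ∈ ws, ∀ i ∈ l, i < 3) (hcard : Nat.card G = 7920) :
    IsMultiplyPretransitive G (ZMod 11) 4 ∧ ∀ (x : Fin 4 ↪ ZMod 11) (g : G), (∀ i, (g : Equiv.Perm (ZMod 11)) (x i) = x i) → g = 1 := by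
  have hb : ∀ x : Fin 4 ↪ ZMod 11, ∃ g : G, ∀ i : Fin 4,
      (g : Equiv.Perm (ZMod 11)) ((i.val : ℕ) : ZMod 11) = x i := fun x => by
    obtain ⟨g, hg, h⟩ := exists_mem_agree hG hd hcG hws hlt x 4 le_rfl
    exact ⟨⟨g, hg⟩, fun i => h i i.2⟩
  haveI hpt : IsPretransitive G (Fin 4 ↪ ZMod 11) := ⟨fun x y => by
    obtain ⟨gx, hgx⟩ := hb x
    obtain ⟨gy, hgy⟩ := hb y
    refine ⟨gy * gx⁻¹, Function.Embedding.ext fun i => ?_⟩
    show ((gy : Equiv.Perm (ZMod 11)) * (gx : Equiv.Perm (ZMod 11))⁻¹) (x i) = y i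
    rw [← hgx i, Equiv.Perm.mul_apply, Equiv.Perm.inv_def, Equiv.symm_apply_apply, hgy]⟩
  refine ⟨hpt, fun x g hfix => ?_⟩
  have hsurj : Function.Surjective (fun g : G => (⟨fun i : Fin 4 =>
      (g : Equiv.Perm (ZMod 11)) ((i.val : ℕ) : ZMod 11), fun i j h => Fin.ext (by
        have := congrArg ZMod.val ((g : Equiv.Perm (ZMod 11)).injective h)
        rwa [ZMod.val_cast_of_lt (by omega), ZMod.val_cast_of_lt (by omega)] at this)⟩ :
      Fin 4 ↪ ZMod 11)) := fun y => by
    obtain ⟨g, hg⟩ := hb y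
    exact ⟨g, Function.Embedding.ext hg⟩
  have hinj := (Nat.bijective_iff_surjective_and_card _).2 ⟨hsurj, by
    rw [hcard, Nat.card_eq_fintype_card, Fintype.card_embedding_eq, ZMod.card, Fintype.card_fin]
    decide⟩
  obtain ⟨gx, hgx⟩ := hb x
  have h1 : g * gx = gx := hinj.1 (Function.Embedding.ext fun i => by
    show (g : Equiv.Perm (ZMod 11)) ((gx : Equiv.Perm (ZMod 11)) _) = (gx : Equiv.Perm (ZMod 11)) _
    rw [hgx, hfix])
  exact mul_eq_right.1 h1

omit hd

/-- The groups of order six hundred and sixty are simple. -/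
theorem isSimpleGroup (hA : ¬ alternatingGroup (ZMod 11) ≤ G) (heven : G ≤ alternatingGroup (ZMod 11))
    (hcard : Nat.card G = 660) : IsSimpleGroup G := by
  haveI := pretransitive hG
  haveI := preprimitive hG
  haveI : Nontrivial G := Finite.one_lt_card_iff_nontrivial.1 (by omega)
  refine ⟨fun N hN => or_iff_not_imp_left.2 fun hbot => ?_⟩
  -- a normal subgroup contains the translation
  have htrans : ∀ M : Subgroup G, M.Normal → M ≠ ⊥ → 11 ∣ Nat.card M := fun M hM hne => by
    haveI := CfsgLib.Perm.isPretransitive_of_normal (α := ZMod 11) M hne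
    have h := MulAction.index_stabilizer_of_transitive M (0 : ZMod 11)
    rw [Nat.card_zmod] at h
    exact (dvd_of_eq h.symm).trans (Subgroup.index_dvd_card _)
  set t : G := ⟨trn, hG⟩
  have ht : orderOf t = 11 := by
    rw [← Subgroup.orderOf_coe]
    exact orderOf_eq_prime (show trn ^ 11 = 1 by decide +kernel) (show trn ≠ 1 by decide +kernel)
  have htN : t ∈ N := by
    haveI := hN
    have hdv : N.index ∣ 60 := by
      obtain ⟨m, hm⟩ := htrans N hN hbot
      have h := N.card_mul_index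
      rw [hm, hcard, mul_assoc] at h
      exact ⟨m, by rw [mul_comm]; omega⟩
    rw [← QuotientGroup.eq_one_iff]
    refine orderOf_eq_one_iff.1 (Nat.eq_one_of_dvd_coprimes (show Nat.Coprime 11 60 by decide) ?_ ?_)
    · exact (orderOf_map_dvd (QuotientGroup.mk' N) t).trans (dvd_of_eq ht)
    · exact (orderOf_dvd_natCard (QuotientGroup.mk (s := N) t)).trans hdv
  -- solvable normal subgroups are trivial
  have hsol : ∀ m, ∀ M : Subgroup G, Nat.card M = m → M.Normal → Group.IsSolvable M → M = ⊥ := by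
    intro m
    induction m using Nat.strong_induction_on with
    | _ m ih =>
      intro M hm hM hsolv
      by_contra hne
      haveI := hM
      haveI := hsolv
      haveI : Nontrivial M := (Subgroup.nontrivial_iff_ne_bot M).2 hne
      have hlt : ⁅M, M⁆ < M := lt_of_le_of_ne (Subgroup.commutator_le_right M M) fun e =>
        (Group.IsSolvable.commutator_lt_top_of_nontrivial M).ne
          (Subgroup.map_injective M.subtype_injective
            (by rw [Subgroup.map_subtype_commutator, e, ← MonoidHom.range_eq_map, Subgroup.range_subtype]))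
      have hz : ⁅M, M⁆ = ⊥ := ih _ (hm ▸ (lt_of_le_of_ne (Nat.le_of_dvd Nat.card_pos
          (Subgroup.card_dvd_of_le hlt.le)) fun e => hlt.ne (Subgroup.eq_of_le_of_card_ge hlt.le e.ge)))
        _ rfl inferInstance (Group.isSolvable_of_isSolvable_injective (Subgroup.inclusion_injective hlt.le))
      rw [Subgroup.commutator_eq_bot_iff_le_centralizer] at hz
      haveI : IsMulCommutative M := ⟨⟨fun a b => Subtype.ext (hz b.2 a.1 a.2)⟩⟩
      haveI := CfsgLib.Perm.isPretransitive_of_normal (α := ZMod 11) M hne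
      have hMc : Nat.card M = 11 := by
        have h := MulAction.index_stabilizer_of_transitive M (0 : ZMod 11)
        rw [CfsgLib.Perm.stabilizer_eq_bot_of_commutative M inferInstance (0 : ZMod 11), Subgroup.index_bot,
          Nat.card_zmod] at h
        exact h
      obtain ⟨P, hP⟩ := (IsPGroup.of_card (p := 11) (n := 1) (by rw [hMc, pow_one])).exists_le_sylow
      have hcP := CfsgLib.Perm.card_sylow_eq (ZMod.card 11) G P
      obtain rfl : M = (P : Subgroup G) := Subgroup.eq_of_le_of_card_ge hP (by rw [hcP, hMc])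
      have h := CfsgLib.Perm.card_normalizer_dvd (ZMod.card 11) G P
      rw [Subgroup.normalizer_eq_top, Subgroup.card_top, hcard] at h
      exact absurd (Nat.le_of_dvd (by norm_num) h) (by norm_num)
  have hmem : trn ∈ N.map G.subtype := ⟨t, htN, rfl⟩
  have hns : ¬ Group.IsSolvable (N.map G.subtype) := fun h => hbot (hsol _ N rfl hN
    (Group.isSolvable_of_isSolvable_injective
      (f := (N.equivMapOfInjective _ G.subtype_injective).toMonoidHom)
      (N.equivMapOfInjective _ G.subtype_injective).injective))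
  obtain ⟨-, m, hm, hm'⟩ := card_cases hmem
    (fun h => hA (h.trans (Subgroup.map_subtype_le N))) ((Subgroup.map_subtype_le N).trans heven) hns
  rw [Subgroup.card_map_of_injective G.subtype_injective] at hm
  refine Subgroup.eq_top_of_card_eq _ ?_
  have hdvd := Subgroup.card_subgroup_dvd_card N
  rcases hm' with rfl | rfl
  · omega
  · rw [hm, hcard] at hdvd
    exact absurd (Nat.le_of_dvd (by norm_num) hdvd) (by norm_num)

/-- The classification in coordinates. -/
theorem classification (hA : ¬ alternatingGroup (ZMod 11) ≤ G) (hns : ¬ Group.IsSolvable G) :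
    (IsMultiplyPretransitive G (ZMod 11) 4 ∧ ∀ (x : Fin 4 ↪ ZMod 11) (g : G), (∀ i, (g : Equiv.Perm (ZMod 11)) (x i) = x i) → g = 1) ∨
      (IsSimpleGroup G ∧ Nat.card G = 660) := by
  set H := G ⊓ alternatingGroup (ZMod 11)
  have hHA : ¬ alternatingGroup (ZMod 11) ≤ H := fun h => hA (h.trans inf_le_left)
  have htH : trn ∈ H := ⟨hG, Equiv.Perm.mem_alternatingGroup.2 sign_trn⟩
  have hHns : ¬ Group.IsSolvable H := fun h => hns (Group.isSolvable_of_ker_le_range
    (Subgroup.inclusion (inf_le_left : H ≤ G)) (Equiv.Perm.sign.comp G.subtype) fun x hx =>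
      ⟨⟨(x : Equiv.Perm (ZMod 11)), x.2, Equiv.Perm.mem_alternatingGroup.2 (by simpa using hx)⟩, rfl⟩)
  obtain ⟨hdil, n, hn, hn'⟩ := card_cases htH hHA inf_le_right hHns
  obtain ⟨a, ha, c, hcH, hc1, hsign, hcand⟩ := exists_conjugator htH hHA inf_le_right hn hn' hdil
  have hbad : ∀ e ∈ bad4 ++ bad2, ∀ i ∈ e.2.2.1, i < 3 := fun e he i hi =>
    of_decide_eq_true (List.all_eq_true.1 (List.all_eq_true.1 bad_words.1 e he) i hi)
  have hneg : flip ∉ G → G ≤ alternatingGroup (ZMod 11) := by
    intro hflip x hx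
    by_contra hodd
    refine hflip ?_
    obtain ⟨m, s, hcard, hm, hs, -, h2, -⟩ := basic hG hA hns
    refine h2 ?_
    by_contra h2s
    have hker : Nat.card G = Nat.card H * 2 := by
      set f := Equiv.Perm.sign.comp G.subtype with hf
      have hk : Nat.card f.ker = Nat.card H := by
        rw [← Subgroup.card_map_of_injective (K := f.ker) G.subtype_injective]
        congr 2
        ext y
        constructor
        · rintro ⟨z, hz, rfl⟩
          exact ⟨z.2, Equiv.Perm.mem_alternatingGroup.2 hz⟩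
        · rintro ⟨hy, hy'⟩
          exact ⟨⟨y, hy⟩, Equiv.Perm.mem_alternatingGroup.1 hy', rfl⟩
      have h := f.ker.card_mul_index
      rw [hk, Subgroup.index_ker] at h
      have hr : Nat.card f.range ∣ 2 := (Subgroup.card_subgroup_dvd_card f.range).trans
        (dvd_of_eq (by rw [Nat.card_eq_fintype_card, Fintype.card_units_int]))
      rcases (Nat.dvd_prime Nat.prime_two).1 hr with h1 | h1
      · rw [Subgroup.card_eq_one] at h1
        refine absurd (Equiv.Perm.mem_alternatingGroup.2 ?_) hodd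
        have hmem : f ⟨x, hx⟩ ∈ f.range := ⟨_, rfl⟩
        rw [h1, Subgroup.mem_bot] at hmem
        exact hmem
      · rw [← h, h1]
    obtain rfl | rfl : s = 1 ∨ s = 5 := by
      have hs0 : s ∈ Nat.divisors 10 := Nat.mem_divisors.2 ⟨hs, by norm_num⟩
      rw [show Nat.divisors 10 = {1, 2, 5, 10} by decide] at hs0
      simp only [Finset.mem_insert, Finset.mem_singleton] at hs0
      rcases hs0 with rfl | rfl | rfl | rfl <;> omega
    · rw [hker, hn] at hcard
      rcases hn' with rfl | rfl <;> omega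
    · rw [hker, hn] at hcard
      rcases hn' with rfl | rfl <;> omega
  have hcG : c ∈ G := hcH.1
  have hfalse : ∀ L : List Entry, L.any (entryOk a (c 1) (c 2)) = true →
      ((∀ e ∈ L, ∀ i ∈ e.2.2.1, i < 3) ∨ flip ∈ G) → False := fun L hL h =>
    entry_false hG hdil.1 hA hcG hc1 hcand hL h
  rcases ha with ⟨rfl, rfl⟩ | ⟨rfl, rfl⟩
  · rcases check_four _ _ (by rw [hcand]; exact hsign) (by rw [hcand]; exact hc1) with h | h
    · exact (hfalse _ h (Or.inl fun e he => hbad e (List.mem_append_left _ he))).elim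
    · have hle : G ≤ alternatingGroup (ZMod 11) := hneg fun hf => hfalse _ h (Or.inr hf)
      have hc : Nat.card G = 660 := by
        have : H = G := inf_eq_left.2 hle
        rw [← this, hn]
      exact Or.inr ⟨isSimpleGroup hG hA hle hc, hc⟩
  · rcases check_two _ _ (by rw [hcand]; exact hsign) (by rw [hcand]; exact hc1) with h | ⟨h, ht⟩
    · exact (hfalse _ h (Or.inl fun e he => hbad e (List.mem_append_right _ he))).elim
    · have hle : G ≤ alternatingGroup (ZMod 11) := hneg fun hf => hfalse _ h (Or.inr hf)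
      have hc : Nat.card G = 7920 := by
        have : H = G := inf_eq_left.2 hle
        rw [← this, hn]
      obtain ⟨e, he, hok⟩ := List.any_eq_true.1 ht
      simp only [Bool.and_eq_true] at hok
      refine Or.inl (sharply_four hG hdil.1 hcG (ws := e.2.2) ?_ ?_ hc)
      · rw [← hcand, tbl_cand (by rw [hcand]; exact hc1)]
        exact hok.2
      · exact fun l hl i hi => of_decide_eq_true
          (List.all_eq_true.1 (List.all_eq_true.1 (List.all_eq_true.1 bad_words.2 e he) l hl) i hi)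

end Classification

end CfsgLib.Perm.DegreeEleven
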