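import Mathlib.Data.ZMod.Basic
import Mathlib.GroupTheory.Perm.Sign
import Mathlib.Algebra.BigOperators.Fin
import Mathlib.Algebra.Field.ZMod
import Mathlib.Tactic

/-!
Finite certificates for the transitive groups of degree eleven.
-/

set_option autoImplicit false

namespace CfsgLib.Perm.DegreeEleven

/-- The permutation with a given table, if it is one. -/
def mk (f : ZMod 11 → ZMod 11) : Equiv.Perm (ZMod 11) :=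
  let inv : ZMod 11 → ZMod 11 := fun j => ∑ i, if f i = j then i else 0
  if h : (∀ i, inv (f i) = i) ∧ ∀ j, f (inv j) = j then ⟨f, inv, h.1, h.2⟩ else 1

/-- Translation. -/
def trn : Equiv.Perm (ZMod 11) := Equiv.addRight (1 : ZMod 11)

/-- Multiplication by four. -/
def dil : Equiv.Perm (ZMod 11) := mk fun x => 4 * x

/-- Negation. -/
def flip : Equiv.Perm (ZMod 11) := Equiv.neg (ZMod 11)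

/-- The permutation with exponent `a` and prescribed values at one and two. -/
def cand (a : ℕ) (v w : ZMod 11) : Equiv.Perm (ZMod 11) :=
  mk fun x => if x ^ 5 = 1 then x ^ a * v else x ^ a * 6 ^ a * w

/-- The table of a permutation. -/
def tbl (z : Equiv.Perm (ZMod 11)) : List ℕ := (List.range 11).map fun (i : ℕ) => (z (i : ZMod 11)).val

/-- Composition of tables. -/
def compT (L M : List ℕ) : List ℕ := M.map fun i => L.getD i 0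

/-- The identity table. -/
def idT : List ℕ := List.range 11

/-- Powers of a table. -/
def powT (L : List ℕ) : ℕ → List ℕ
  | 0 => idT
  | n + 1 => compT (powT L n) L

/-- The table of a power of the translation. -/
def trnT (k : ℕ) : List ℕ := (List.range 11).map fun i => (i + k) % 11

/-- The table of multiplication by four. -/
def dilT : List ℕ := (List.range 11).map fun i => 4 * i % 11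

/-- The table of negation. -/
def flipT : List ℕ := (List.range 11).map fun i => (11 - i) % 11

/-- The table of a candidate. -/
def candT (a : ℕ) (v w : ZMod 11) : List ℕ :=
  (List.range 11).map fun i =>
    if i ^ 5 % 11 == 1 then i ^ a * v.val % 11 else i ^ a * 6 ^ a * w.val % 11

/-- The table of a word. -/
def evalT (c : List ℕ) (l : List ℕ) : List ℕ :=
  (l.map fun i => if i = 0 then trnT 1 else if i = 1 then dilT else if i = 2 then c else flipT).foldr compT idT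

/-- Evaluates a word in four permutations. -/
def evalW (c : Equiv.Perm (ZMod 11)) (l : List ℕ) : Equiv.Perm (ZMod 11) :=
  (l.map fun i => if i = 0 then trn else if i = 1 then dil else if i = 2 then c else flip).prod

/-- The table of a prime cycle of length at most seven. -/
def isPT (L : List ℕ) (p : ℕ) : Bool :=
  L != idT && powT L p == idT && ((List.range 11).filter fun i => L.getD i 0 != i).length == p &&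
    (p == 2 || p == 3 || p == 5 || p == 7)

/-- Certificates: values at one and two, a word, an exponent and the cycle length. -/
abbrev Entry := ℕ × ℕ × List ℕ × ℕ × ℕ

/-- Candidates of exponent four generating too much. -/
def bad4 : List Entry :=
  [(1, 2, [2, 1, 0, 2, 0, 0], 7, 3),
    (1, 6, [2, 0, 0, 0], 4, 3),
    (1, 7, [2, 0, 2, 0, 0], 4, 5),
    (3, 6, [2, 0, 2, 0, 0], 4, 5),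
    (3, 7, [2, 1, 0, 0], 4, 3),
    (3, 10, [1, 2, 0, 2, 0, 0], 7, 3),
    (4, 2, [1, 2, 0], 4, 3),
    (4, 6, [2, 0, 2, 1, 0, 0], 7, 3),
    (4, 8, [2, 0, 2, 0, 0], 3, 5),
    (5, 2, [2, 0, 2, 0, 0], 3, 5),
    (5, 8, [2, 0], 4, 3),
    (5, 10, [2, 0, 2, 1, 0, 0], 4, 3),
    (9, 7, [1, 2, 0, 2, 0, 0], 4, 3),
    (9, 8, [2, 1, 0, 2, 0, 0], 4, 3),
    (9, 10, [2, 0, 0], 4, 3)]

/-- Candidates of exponent four generating too much together with negation. -/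
def neg4 : List Entry :=
  [(1, 8, [3, 2, 0], 9, 2),
    (1, 10, [3, 2, 0], 7, 2),
    (3, 2, [3, 2, 0], 4, 7),
    (3, 8, [3, 2, 0], 9, 2),
    (4, 7, [2, 3, 0], 4, 7),
    (4, 10, [3, 2, 0], 4, 5),
    (5, 6, [2, 3, 0], 9, 2),
    (5, 7, [2, 3, 0], 9, 2),
    (9, 2, [3, 2, 0], 4, 7),
    (9, 6, [3, 2, 0], 4, 3)]

/-- Candidates of exponent two generating too much. -/
def bad2 : List Entry :=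
  [(1, 2, [2, 1, 0], 2, 5),
    (1, 7, [2, 0, 0], 7, 3),
    (1, 8, [2, 0, 0], 7, 3),
    (3, 2, [2, 1, 0], 4, 5),
    (3, 6, [2, 1, 0], 7, 3),
    (3, 10, [2, 0], 2, 7),
    (4, 6, [2, 0, 0], 2, 7),
    (4, 8, [2, 0], 7, 3),
    (4, 10, [2, 0], 4, 5),
    (5, 2, [2, 0], 4, 3),
    (5, 7, [2, 0], 5, 3),
    (5, 10, [2, 0], 2, 5),
    (9, 6, [2, 0, 0, 0], 5, 3),
    (9, 7, [2, 0], 7, 3),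
    (9, 8, [2, 0], 7, 3)]

/-- Candidates of exponent two generating too much together with negation. -/
def neg2 : List Entry :=
  [(1, 6, [2, 3, 0], 6, 5),
    (1, 10, [3, 2, 0], 7, 2),
    (3, 7, [3, 2, 0], 8, 3),
    (3, 8, [2, 3, 0], 7, 2),
    (4, 2, [3, 2, 0], 4, 7),
    (4, 7, [3, 2, 0], 6, 5),
    (5, 6, [3, 2, 0], 9, 2),
    (5, 8, [3, 2, 0], 7, 2),
    (9, 2, [2, 3, 0], 7, 2),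
    (9, 10, [3, 2, 0], 7, 2)]

/-- Transversal words for the four-transitive candidates. -/
def trans2 : List (ℕ × ℕ × List (List ℕ)) :=
  [(1, 6, [[], [0], [0, 0], [0, 0, 0], [1, 0], [0, 1, 0], [2, 0, 0], [0, 2, 0, 0], [1, 0, 0], [2, 0, 0, 0], [1, 1, 0, 0], [], [2, 0, 0, 2, 0, 0, 0], [2, 1, 1], [1], [1, 1], [1, 0, 0, 2, 0, 0, 0], [0, 0, 2, 0, 0, 0], [0, 2, 0, 0, 1, 0], [1, 1, 1], [1, 0, 2, 0, 0, 1, 0], [], [1, 1, 1, 0, 2, 2, 0, 0], [0, 2, 0, 1, 1, 0], [2, 0, 2, 0, 1, 1, 0], [2], [2, 2, 2], [1, 2, 0, 2, 0, 2, 1, 0], [1, 2, 0, 2, 2, 0, 0], [2, 2], [], [0, 2, 2, 0, 2, 0, 1, 1], [2, 2, 2, 0, 0, 1, 2, 1, 0], [0, 2, 0, 1, 1, 0, 2, 2], [1, 2, 0, 1, 2, 1, 0, 0], [0, 2, 2, 0, 0, 1, 2, 1], [0, 0, 1, 2, 2, 2, 0, 0, 2, 0], [1, 2, 0, 2, 2, 0, 0, 2, 2]]),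
    (1, 10, [[], [0], [0, 0], [0, 0, 0], [1, 0], [0, 1, 0], [2, 1, 0, 0], [1, 2, 0, 0], [1, 0, 0], [2, 0, 0, 0], [2, 0, 0], [], [0, 2, 2, 2, 1, 0, 0], [2, 1, 1], [1], [1, 1], [1, 1, 0, 2, 0, 0], [1, 0, 2, 0, 0], [2, 0, 2, 0, 0], [1, 1, 1], [0, 2, 0, 0], [], [1, 0, 2, 0, 0, 1], [2, 0, 2, 0, 2, 0], [0, 2, 1, 0, 1, 1, 0], [2, 2, 2], [0, 1, 1, 0, 2, 0], [2, 2], [0, 2, 0, 2, 0], [2], [], [1, 0, 2, 0, 0, 1, 2, 2, 2], [0, 2, 0, 2, 0, 2], [2, 2, 1, 0, 2, 0, 0, 1, 2, 2], [2, 2, 2, 0, 2, 2, 0, 1, 1, 0], [0, 2, 2, 0, 1, 1, 0, 2], [0, 2, 0, 2, 2, 0, 1, 1], [0, 2, 0, 0, 2, 2, 2, 1]]),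
    (3, 7, [[], [0], [0, 0], [2, 0], [1, 0], [0, 1, 0], [1, 2, 0, 0], [2, 0, 0], [1, 0, 0], [0, 1, 0, 0], [1, 1, 0, 0], [], [0, 2, 0, 2, 2, 2, 0], [2], [1], [1, 1], [0, 0, 2, 2, 0, 0, 0], [0, 0, 1, 2, 0, 0, 0], [0, 2, 1, 0, 2, 0, 0], [1, 1, 1], [0, 0, 2, 2, 2, 0], [], [1, 0, 0, 2, 0, 1, 0], [0, 1, 2, 0, 1, 1, 0], [2, 2, 2, 0, 0, 2, 0, 1, 0], [1, 2], [2, 1, 2, 2], [0, 2, 1, 0, 0, 2, 2, 0, 0], [0, 0, 2, 1, 0, 2, 0], [2, 2, 1, 1], [], [0, 0, 2, 0, 2, 1, 0, 2], [0, 0, 2, 2, 2, 0, 2, 1, 1], [2, 2, 0, 1, 2, 2, 2, 0, 0], [2, 1, 0, 2, 1, 1, 0, 0], [0, 2, 2, 0, 0, 1, 0, 0, 2], [2, 1, 2, 0, 1, 2, 0, 2, 2, 0], [2, 0, 0, 2, 2, 1, 0, 1, 0, 0]]),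
    (3, 8, [[], [0], [0, 0], [2, 0], [1, 0], [0, 1, 0], [0, 0, 1, 0], [2, 1, 0, 0], [1, 0, 0], [0, 1, 0, 0], [1, 1, 0, 0], [], [2, 0, 1, 2, 0, 0], [2], [1], [1, 1], [0, 2, 2, 1, 0, 0], [1, 0, 1, 2, 0, 0], [0, 0, 0, 2, 0, 0], [1, 1, 1], [0, 1, 2, 0, 0], [], [0, 0, 2, 2, 2, 0], [1, 2, 0, 1, 2, 0, 1, 2, 0], [0, 2, 0, 0, 0, 1, 0], [2, 1, 2, 2], [1, 0, 0, 2, 0, 1, 0], [2, 2, 1, 1], [0, 1, 2, 0, 1, 2, 0], [1, 2], [], [1, 0, 2, 0, 2, 0, 2, 0, 0, 0], [2, 2, 0, 0, 2, 2, 2, 0, 1], [2, 0, 0, 2, 2, 2, 0, 1, 2, 2], [2, 0, 0, 2, 2, 0, 2, 1, 2, 0, 0], [0, 2, 2, 1, 0, 0, 2, 1, 1], [0, 0, 2, 2, 2, 0, 1, 2], [0, 1, 2, 0, 0, 2, 2, 2]]),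
    (4, 2, [[], [0], [0, 0], [0, 0, 0], [1, 0], [0, 1, 0], [0, 0, 1, 0], [1, 1, 1, 0, 0], [1, 0, 0], [2, 1, 0], [1, 1, 0, 0], [], [1, 0, 0, 2, 2, 0, 1], [1, 2, 1], [1], [1, 1], [0, 0, 2, 2, 0, 1], [0, 0, 2, 1, 0, 1], [0, 2, 1, 2, 0, 0, 1], [2, 1], [0, 0, 1, 2, 2, 2, 0], [], [1, 0, 2, 1, 0, 0, 1], [0, 1, 2, 0, 0, 0, 1, 0], [2, 1, 0, 0, 2, 2, 0], [2, 1, 1], [2, 2, 2, 1], [1, 0, 2, 1, 0, 0, 2], [2, 0, 2, 1, 2, 0, 0], [2, 1, 2], [], [0, 0, 0, 2, 0, 0, 0, 2, 0, 1], [2, 2, 2, 1, 0, 0, 2, 1, 0], [0, 2, 1, 0, 0, 2, 2], [2, 0, 2, 1, 0, 0], [0, 2, 1, 2, 0, 0, 2, 1], [0, 2, 0, 0, 2, 2, 1, 2, 0, 0], [2, 0, 2, 1, 2, 0, 0, 2, 1, 2]]),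
    (4, 7, [[], [0], [0, 0], [0, 0, 0], [1, 0], [0, 1, 0], [1, 2, 0, 0], [2, 0, 0], [1, 0, 0], [2, 1, 0], [1, 1, 0, 0], [], [2, 0, 0, 2, 2, 0], [1, 2, 1], [1], [1, 1], [0, 1, 0, 2, 0, 0], [0, 2, 0, 2, 2, 0], [0, 0, 2, 2, 0], [2, 1], [0, 2, 1, 1, 0, 0], [], [0, 0, 1, 2, 2, 2, 0], [0, 0, 1, 0, 2, 2, 0, 2, 0], [0, 1, 2, 0, 1, 1, 0], [2, 2, 2, 1], [0, 0, 1, 0, 2, 0], [2, 1, 2], [0, 2, 0, 1, 0, 2, 0], [2, 1, 1], [], [2, 0, 0, 1, 0, 2, 0, 1, 2], [1, 0, 2, 2, 0, 2, 1, 0, 1], [1, 2, 2, 0, 2, 2, 2, 0, 2, 2, 0], [2, 1, 0, 0, 2, 2, 0, 1, 1], [0, 2, 2, 1, 1, 0, 0, 2, 1], [2, 0, 1, 0, 2, 0, 0, 2, 1], [2, 1, 0, 2, 0, 2, 1, 0]]),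
    (5, 6, [[], [0], [0, 0], [0, 0, 0], [1, 0], [2, 0], [2, 0, 0], [0, 2, 0, 0], [1, 0, 0], [1, 2, 0], [1, 1, 0, 0], [], [1, 0, 2, 2, 0, 0], [2, 1], [1], [2], [0, 2, 2, 0, 0], [0, 0, 1, 2, 0, 1], [0, 2, 0, 0, 1, 0], [1, 2], [0, 1, 2, 1, 0, 0], [], [0, 0, 2, 2, 1, 2, 0], [2, 0, 0, 1, 2, 0, 2, 1], [0, 2, 0, 1, 1, 0], [1, 2, 2, 2], [1, 2, 0, 0, 1, 2, 0], [2, 2, 1], [0, 0, 2, 2, 0, 1, 0, 0], [1, 2, 1], [], [2, 1, 0, 0, 1, 2, 0, 2], [1, 0, 2, 1, 2, 0, 1, 2, 0, 1], [1, 0, 2, 0, 2, 2, 0, 0, 0, 1], [2, 0, 2, 2, 1, 0, 1, 2, 2, 0], [0, 2, 2, 0, 0, 1, 2], [0, 0, 2, 2, 1, 2, 0, 1, 2, 1], [0, 2, 1, 0, 2, 1, 0, 2, 0]]),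
    (5, 8, [[], [0], [0, 0], [0, 0, 0], [1, 0], [2, 0], [0, 2, 0], [2, 1, 0, 0], [1, 0, 0], [1, 2, 0], [1, 1, 0, 0], [], [0, 0, 0, 2, 0, 0, 2], [2, 1], [1], [2], [0, 2, 0, 0, 1, 1, 0], [0, 0, 1, 2, 0, 1], [0, 1, 2, 0, 0, 2], [1, 2], [0, 0, 2, 0, 1, 0, 0], [], [1, 0, 1, 2, 0, 0, 1], [0, 2, 0, 0, 0, 1, 0], [1, 2, 0, 0, 2, 1, 2, 0], [1, 2, 1], [1, 2, 2, 2], [1, 0, 2, 0, 0, 2, 0], [2, 0, 1, 2, 0, 0, 1], [2, 2, 1], [], [0, 0, 0, 2, 1, 0, 2, 0, 1], [1, 2, 2, 2, 0, 0, 1, 2, 0], [0, 1, 2, 0, 0, 2, 1, 2], [2, 0, 1, 0, 2, 1, 0, 0], [0, 2, 2, 1, 0, 0, 1, 2], [2, 1, 0, 2, 2, 2, 0, 0, 2], [2, 1, 0, 0, 2, 2, 0, 1, 0, 0]]),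
    (9, 2, [[], [0], [0, 0], [0, 0, 0], [1, 0], [0, 1, 0], [0, 0, 1, 0], [1, 0, 2, 0], [1, 0, 0], [2, 0], [0, 2, 0], [], [1, 2, 0, 2, 1, 0, 0], [1, 2], [1], [1, 1], [2, 0, 2, 1, 0, 0], [0, 0, 2, 0, 1], [0, 0, 2, 0, 2], [2], [0, 2, 1, 0, 0], [], [0, 0, 2, 1, 2, 2, 0], [2, 2, 0, 2, 1, 0, 0, 1], [0, 0, 2, 2, 1, 0, 2], [2, 2, 1, 2], [2, 0, 0, 2, 0], [1, 2, 2], [0, 2, 1, 0, 2, 1, 0], [2, 1], [], [1, 2, 0, 0, 2, 0, 2, 1, 1], [1, 0, 0, 2, 0, 2, 2], [2, 2, 2, 0, 0, 2, 0, 1, 1], [2, 0, 0, 2, 2, 1, 0, 1, 1], [0, 2, 1, 2, 0, 0, 2], [2, 1, 0, 2, 1, 0, 0, 2], [2, 0, 0, 2, 0, 2, 1]]),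
    (9, 10, [[], [0], [0, 0], [0, 0, 0], [1, 0], [0, 1, 0], [2, 1, 0, 0], [1, 2, 0, 0], [1, 0, 0], [2, 0], [2, 0, 0], [], [0, 2, 0, 2, 1, 0, 1], [1, 2], [1], [1, 1], [1, 0, 0, 2, 0, 1], [0, 0, 2, 0, 1], [0, 2, 0, 2, 1, 0], [2], [0, 0, 2, 0, 2], [], [1, 0, 2, 0, 0, 1], [0, 2, 1, 0, 1, 1, 0], [2, 0, 0, 2, 2, 1, 0], [2, 1], [2, 2, 1, 2], [1, 0, 2, 0, 0, 1, 2, 1], [0, 0, 2, 0, 2, 1], [1, 2, 2], [], [1, 2, 2, 0, 2, 0, 0, 2], [2, 2, 1, 2, 0, 0, 2, 0], [0, 2, 0, 0, 2, 2, 1], [1, 2, 1, 0, 2, 0, 0], [0, 1, 2, 2, 0, 0, 2], [2, 2, 0, 0, 2, 0, 1, 2], [1, 0, 2, 0, 2, 1, 0, 2, 2]])]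

/-- Whether an entry certifies a small cycle. -/
def entryOk (a : ℕ) (v w : ZMod 11) (e : Entry) : Bool :=
  e.1 == v.val && e.2.1 == w.val &&
    isPT (powT (evalT (candT a v w) e.2.2.1) e.2.2.2.1) e.2.2.2.2

/-- Whether the table fixes the points below `k` and maps `k` to `j`. -/
def mapsTo (L : List ℕ) (k j : ℕ) : Bool :=
  ((List.range k).all fun i => L.getD i 0 == i) && L.getD k 0 == j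

/-- Whether the words show four-fold transitivity. -/
def transOk (c : List ℕ) (ws : List (List ℕ)) : Bool :=
  (List.range 4).all fun k => (List.range 11).all fun j => Nat.blt j k ||
    ws.any fun l => mapsTo (evalT c l) k j

theorem check_one : ∀ v w : ZMod 11, Equiv.Perm.sign (cand 1 v w) = 1 → cand 1 v w ^ 5 = 1 := by
  decide +kernel

theorem check_four : ∀ v w : ZMod 11, Equiv.Perm.sign (cand 4 v w) = 1 → cand 4 v w ≠ 1 →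
    bad4.any (entryOk 4 v w) = true ∨ neg4.any (entryOk 4 v w) = true := by
  decide +kernel

theorem check_two : ∀ v w : ZMod 11, Equiv.Perm.sign (cand 2 v w) = 1 → cand 2 v w ≠ 1 →
    bad2.any (entryOk 2 v w) = true ∨
      (neg2.any (entryOk 2 v w) = true ∧ trans2.any (fun t => t.1 == v.val &&
        t.2.1 == w.val && transOk (candT 2 v w) t.2.2) = true) := by
  decide +kernel

/-- The words of `bad` entries avoid negation. -/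
theorem bad_words : (bad4 ++ bad2).all (fun e => e.2.2.1.all fun i => decide (i < 3)) = true ∧
    trans2.all (fun t => t.2.2.all fun l => l.all fun i => decide (i < 3)) = true := by
  decide +kernel

/-- For each double transposition moving zero, a conjugate giving a small cycle. -/
def doubleTable : List (ℕ × ℕ × ℕ × ℕ × ℕ × ℕ) :=
  [(1, 2, 3, 1, 1, 5), (1, 2, 4, 3, 2, 3), (1, 2, 5, 2, 2, 3), (1, 2, 6, 2, 2, 3),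
    (1, 2, 7, 2, 2, 3), (1, 2, 8, 2, 2, 3), (1, 2, 9, 3, 2, 3), (1, 2, 10, 1, 1, 5),
    (1, 3, 4, 2, 2, 3), (1, 3, 5, 1, 2, 3), (1, 3, 6, 1, 2, 3), (1, 3, 7, 1, 2, 3),
    (1, 3, 8, 1, 2, 3), (1, 3, 9, 1, 2, 3), (1, 3, 10, 3, 2, 3), (1, 4, 5, 3, 2, 3),
    (1, 4, 6, 1, 2, 3), (1, 4, 7, 1, 2, 3), (1, 4, 8, 1, 2, 3), (1, 4, 9, 1, 2, 3),
    (1, 4, 10, 2, 2, 3), (1, 5, 6, 5, 1, 3), (1, 5, 7, 1, 2, 3), (1, 5, 8, 1, 2, 3),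
    (1, 5, 9, 1, 2, 3), (1, 5, 10, 2, 2, 3), (1, 6, 7, 5, 1, 3), (1, 6, 8, 1, 2, 3),
    (1, 6, 9, 1, 2, 3), (1, 6, 10, 2, 2, 3), (1, 7, 8, 3, 2, 3), (1, 7, 9, 1, 2, 3),
    (1, 7, 10, 2, 2, 3), (1, 8, 9, 2, 2, 3), (1, 8, 10, 3, 2, 3), (1, 9, 10, 1, 1, 5),
    (2, 1, 3, 1, 1, 3), (2, 1, 4, 3, 2, 3), (2, 1, 5, 2, 2, 3), (2, 1, 6, 2, 2, 3),
    (2, 1, 7, 2, 2, 3), (2, 1, 8, 2, 2, 3), (2, 1, 9, 3, 2, 3), (2, 1, 10, 1, 1, 3),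
    (2, 3, 4, 3, 2, 3), (2, 3, 5, 1, 2, 3), (2, 3, 6, 1, 2, 3), (2, 3, 7, 1, 2, 3),
    (2, 3, 8, 1, 2, 3), (2, 3, 9, 1, 2, 3), (2, 3, 10, 2, 2, 3), (2, 4, 5, 1, 2, 3),
    (2, 4, 6, 2, 1, 5), (2, 4, 7, 3, 2, 3), (2, 4, 8, 3, 2, 3), (2, 4, 9, 2, 1, 5),
    (2, 4, 10, 1, 2, 3), (2, 5, 6, 1, 2, 3), (2, 5, 7, 3, 2, 3), (2, 5, 8, 2, 2, 3),
    (2, 5, 9, 3, 2, 3), (2, 5, 10, 1, 2, 3), (2, 6, 7, 1, 2, 3), (2, 6, 8, 3, 2, 3),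
    (2, 6, 9, 3, 2, 3), (2, 6, 10, 1, 2, 3), (2, 7, 8, 1, 2, 3), (2, 7, 9, 2, 1, 5),
    (2, 7, 10, 1, 2, 3), (2, 8, 9, 1, 2, 3), (2, 8, 10, 1, 2, 3), (2, 9, 10, 3, 2, 3),
    (3, 1, 2, 1, 1, 5), (3, 1, 4, 2, 2, 3), (3, 1, 5, 1, 2, 3), (3, 1, 6, 1, 2, 3),
    (3, 1, 7, 1, 2, 3), (3, 1, 8, 1, 2, 3), (3, 1, 9, 1, 2, 3), (3, 1, 10, 3, 2, 3),
    (3, 2, 4, 3, 2, 3), (3, 2, 5, 1, 2, 3), (3, 2, 6, 1, 2, 3), (3, 2, 7, 1, 2, 3),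
    (3, 2, 8, 1, 2, 3), (3, 2, 9, 1, 2, 3), (3, 2, 10, 2, 2, 3), (3, 4, 5, 2, 2, 3),
    (3, 4, 6, 1, 2, 3), (3, 4, 7, 1, 2, 3), (3, 4, 8, 1, 2, 3), (3, 4, 9, 1, 2, 3),
    (3, 4, 10, 3, 2, 3), (3, 5, 6, 1, 2, 3), (3, 5, 7, 3, 2, 3), (3, 5, 8, 2, 2, 3),
    (3, 5, 9, 3, 2, 3), (3, 5, 10, 1, 2, 3), (3, 6, 7, 1, 2, 3), (3, 6, 8, 2, 2, 3),
    (3, 6, 9, 2, 2, 3), (3, 6, 10, 1, 2, 3), (3, 7, 8, 1, 2, 3), (3, 7, 9, 3, 2, 3),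
    (3, 7, 10, 1, 2, 3), (3, 8, 9, 1, 2, 3), (3, 8, 10, 1, 2, 3), (3, 9, 10, 2, 2, 3),
    (4, 1, 2, 3, 2, 3), (4, 1, 3, 2, 2, 3), (4, 1, 5, 3, 2, 3), (4, 1, 6, 1, 2, 3),
    (4, 1, 7, 1, 2, 3), (4, 1, 8, 1, 2, 3), (4, 1, 9, 1, 2, 3), (4, 1, 10, 2, 2, 3),
    (4, 2, 3, 3, 2, 3), (4, 2, 5, 1, 2, 3), (4, 2, 6, 2, 1, 3), (4, 2, 7, 3, 2, 3),
    (4, 2, 8, 3, 2, 3), (4, 2, 9, 2, 1, 3), (4, 2, 10, 1, 2, 3), (4, 3, 5, 2, 2, 3),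
    (4, 3, 6, 1, 2, 3), (4, 3, 7, 1, 2, 3), (4, 3, 8, 1, 2, 3), (4, 3, 9, 1, 2, 3),
    (4, 3, 10, 3, 2, 3), (4, 5, 6, 2, 2, 3), (4, 5, 7, 1, 2, 3), (4, 5, 8, 1, 2, 3),
    (4, 5, 9, 1, 2, 3), (4, 5, 10, 5, 1, 5), (4, 6, 7, 1, 2, 3), (4, 6, 8, 3, 2, 3),
    (4, 6, 9, 3, 2, 3), (4, 6, 10, 1, 2, 3), (4, 7, 8, 1, 2, 3), (4, 7, 9, 3, 2, 3),
    (4, 7, 10, 1, 2, 3), (4, 8, 9, 1, 2, 3), (4, 8, 10, 1, 2, 3), (4, 9, 10, 2, 2, 3),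
    (5, 1, 2, 2, 2, 3), (5, 1, 3, 1, 2, 3), (5, 1, 4, 3, 2, 3), (5, 1, 6, 5, 1, 5),
    (5, 1, 7, 1, 2, 3), (5, 1, 8, 1, 2, 3), (5, 1, 9, 1, 2, 3), (5, 1, 10, 2, 2, 3),
    (5, 2, 3, 1, 2, 3), (5, 2, 4, 1, 2, 3), (5, 2, 6, 1, 2, 3), (5, 2, 7, 3, 2, 3),
    (5, 2, 8, 3, 1, 3), (5, 2, 9, 3, 2, 3), (5, 2, 10, 1, 2, 3), (5, 3, 4, 2, 2, 3),
    (5, 3, 6, 1, 2, 3), (5, 3, 7, 3, 2, 3), (5, 3, 8, 3, 1, 3), (5, 3, 9, 3, 2, 3),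
    (5, 3, 10, 1, 2, 3), (5, 4, 6, 2, 2, 3), (5, 4, 7, 1, 2, 3), (5, 4, 8, 1, 2, 3),
    (5, 4, 9, 1, 2, 3), (5, 4, 10, 5, 1, 5), (5, 6, 7, 2, 2, 3), (5, 6, 8, 1, 2, 3),
    (5, 6, 9, 1, 2, 3), (5, 6, 10, 5, 1, 5), (5, 7, 8, 1, 2, 3), (5, 7, 9, 2, 1, 5),
    (5, 7, 10, 1, 2, 3), (5, 8, 9, 1, 2, 3), (5, 8, 10, 1, 2, 3), (5, 9, 10, 2, 2, 3),
    (6, 1, 2, 2, 2, 3), (6, 1, 3, 1, 2, 3), (6, 1, 4, 1, 2, 3), (6, 1, 5, 5, 1, 5),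
    (6, 1, 7, 5, 1, 5), (6, 1, 8, 1, 2, 3), (6, 1, 9, 1, 2, 3), (6, 1, 10, 2, 2, 3),
    (6, 2, 3, 1, 2, 3), (6, 2, 4, 2, 1, 5), (6, 2, 5, 1, 2, 3), (6, 2, 7, 1, 2, 3),
    (6, 2, 8, 3, 2, 3), (6, 2, 9, 3, 2, 3), (6, 2, 10, 1, 2, 3), (6, 3, 4, 1, 2, 3),
    (6, 3, 5, 1, 2, 3), (6, 3, 7, 1, 2, 3), (6, 3, 8, 3, 1, 3), (6, 3, 9, 3, 1, 3),
    (6, 3, 10, 1, 2, 3), (6, 4, 5, 2, 2, 3), (6, 4, 7, 1, 2, 3), (6, 4, 8, 3, 2, 3),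
    (6, 4, 9, 3, 2, 3), (6, 4, 10, 1, 2, 3), (6, 5, 7, 2, 2, 3), (6, 5, 8, 1, 2, 3),
    (6, 5, 9, 1, 2, 3), (6, 5, 10, 5, 1, 5), (6, 7, 8, 2, 2, 3), (6, 7, 9, 1, 2, 3),
    (6, 7, 10, 3, 2, 3), (6, 8, 9, 1, 2, 3), (6, 8, 10, 1, 2, 3), (6, 9, 10, 2, 2, 3),
    (7, 1, 2, 2, 2, 3), (7, 1, 3, 1, 2, 3), (7, 1, 4, 1, 2, 3), (7, 1, 5, 1, 2, 3),
    (7, 1, 6, 5, 1, 5), (7, 1, 8, 3, 2, 3), (7, 1, 9, 1, 2, 3), (7, 1, 10, 2, 2, 3),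
    (7, 2, 3, 1, 2, 3), (7, 2, 4, 3, 2, 3), (7, 2, 5, 3, 2, 3), (7, 2, 6, 1, 2, 3),
    (7, 2, 8, 1, 2, 3), (7, 2, 9, 2, 1, 3), (7, 2, 10, 1, 2, 3), (7, 3, 4, 1, 2, 3),
    (7, 3, 5, 3, 2, 3), (7, 3, 6, 1, 2, 3), (7, 3, 8, 1, 2, 3), (7, 3, 9, 3, 2, 3),
    (7, 3, 10, 1, 2, 3), (7, 4, 5, 1, 2, 3), (7, 4, 6, 1, 2, 3), (7, 4, 8, 1, 2, 3),
    (7, 4, 9, 3, 2, 3), (7, 4, 10, 1, 2, 3), (7, 5, 6, 2, 2, 3), (7, 5, 8, 1, 2, 3),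
    (7, 5, 9, 2, 1, 3), (7, 5, 10, 1, 2, 3), (7, 6, 8, 2, 2, 3), (7, 6, 9, 1, 2, 3),
    (7, 6, 10, 3, 2, 3), (7, 8, 9, 3, 2, 3), (7, 8, 10, 2, 2, 3), (7, 9, 10, 3, 2, 3),
    (8, 1, 2, 2, 2, 3), (8, 1, 3, 1, 2, 3), (8, 1, 4, 1, 2, 3), (8, 1, 5, 1, 2, 3),
    (8, 1, 6, 1, 2, 3), (8, 1, 7, 3, 2, 3), (8, 1, 9, 2, 2, 3), (8, 1, 10, 3, 2, 3),
    (8, 2, 3, 1, 2, 3), (8, 2, 4, 3, 2, 3), (8, 2, 5, 2, 2, 3), (8, 2, 6, 3, 2, 3),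
    (8, 2, 7, 1, 2, 3), (8, 2, 9, 1, 2, 3), (8, 2, 10, 1, 2, 3), (8, 3, 4, 1, 2, 3),
    (8, 3, 5, 2, 2, 3), (8, 3, 6, 2, 2, 3), (8, 3, 7, 1, 2, 3), (8, 3, 9, 1, 2, 3),
    (8, 3, 10, 1, 2, 3), (8, 4, 5, 1, 2, 3), (8, 4, 6, 3, 2, 3), (8, 4, 7, 1, 2, 3),
    (8, 4, 9, 1, 2, 3), (8, 4, 10, 1, 2, 3), (8, 5, 6, 1, 2, 3), (8, 5, 7, 1, 2, 3),
    (8, 5, 9, 1, 2, 3), (8, 5, 10, 1, 2, 3), (8, 6, 7, 2, 2, 3), (8, 6, 9, 1, 2, 3),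
    (8, 6, 10, 1, 2, 3), (8, 7, 9, 3, 2, 3), (8, 7, 10, 2, 2, 3), (8, 9, 10, 1, 1, 5),
    (9, 1, 2, 3, 2, 3), (9, 1, 3, 1, 2, 3), (9, 1, 4, 1, 2, 3), (9, 1, 5, 1, 2, 3),
    (9, 1, 6, 1, 2, 3), (9, 1, 7, 1, 2, 3), (9, 1, 8, 2, 2, 3), (9, 1, 10, 1, 1, 3),
    (9, 2, 3, 1, 2, 3), (9, 2, 4, 2, 1, 5), (9, 2, 5, 3, 2, 3), (9, 2, 6, 3, 2, 3),
    (9, 2, 7, 2, 1, 5), (9, 2, 8, 1, 2, 3), (9, 2, 10, 3, 2, 3), (9, 3, 4, 1, 2, 3),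
    (9, 3, 5, 3, 2, 3), (9, 3, 6, 2, 2, 3), (9, 3, 7, 3, 2, 3), (9, 3, 8, 1, 2, 3),
    (9, 3, 10, 2, 2, 3), (9, 4, 5, 1, 2, 3), (9, 4, 6, 3, 2, 3), (9, 4, 7, 3, 2, 3),
    (9, 4, 8, 1, 2, 3), (9, 4, 10, 2, 2, 3), (9, 5, 6, 1, 2, 3), (9, 5, 7, 2, 1, 5),
    (9, 5, 8, 1, 2, 3), (9, 5, 10, 2, 2, 3), (9, 6, 7, 1, 2, 3), (9, 6, 8, 1, 2, 3),
    (9, 6, 10, 2, 2, 3), (9, 7, 8, 3, 2, 3), (9, 7, 10, 3, 2, 3), (9, 8, 10, 1, 1, 3),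
    (10, 1, 2, 1, 1, 5), (10, 1, 3, 3, 2, 3), (10, 1, 4, 2, 2, 3), (10, 1, 5, 2, 2, 3),
    (10, 1, 6, 2, 2, 3), (10, 1, 7, 2, 2, 3), (10, 1, 8, 3, 2, 3), (10, 1, 9, 1, 1, 5),
    (10, 2, 3, 2, 2, 3), (10, 2, 4, 1, 2, 3), (10, 2, 5, 1, 2, 3), (10, 2, 6, 1, 2, 3),
    (10, 2, 7, 1, 2, 3), (10, 2, 8, 1, 2, 3), (10, 2, 9, 3, 2, 3), (10, 3, 4, 3, 2, 3),
    (10, 3, 5, 1, 2, 3), (10, 3, 6, 1, 2, 3), (10, 3, 7, 1, 2, 3), (10, 3, 8, 1, 2, 3),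
    (10, 3, 9, 2, 2, 3), (10, 4, 5, 5, 1, 3), (10, 4, 6, 1, 2, 3), (10, 4, 7, 1, 2, 3),
    (10, 4, 8, 1, 2, 3), (10, 4, 9, 2, 2, 3), (10, 5, 6, 5, 1, 3), (10, 5, 7, 1, 2, 3),
    (10, 5, 8, 1, 2, 3), (10, 5, 9, 2, 2, 3), (10, 6, 7, 3, 2, 3), (10, 6, 8, 1, 2, 3),
    (10, 6, 9, 2, 2, 3), (10, 7, 8, 2, 2, 3), (10, 7, 9, 3, 2, 3), (10, 8, 9, 1, 1, 5)]

/-- The table of a transposition. -/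
def swapT (a b : ℕ) : List ℕ :=
  (List.range 11).map fun i => if i == a then b else if i == b then a else i

/-- The table works at the given double transposition. -/
def doubleOk (b c d : ℕ) : Bool :=
  let x := compT (swapT 0 b) (swapT c d)
  b == 0 || c == 0 || b == c || b == d || Nat.ble d c ||
    doubleTable.any fun e => e.1 == b && e.2.1 == c && e.2.2.1 == d &&
      isPT (powT (compT x (compT (trnT e.2.2.2.1) (compT x (trnT (11 - e.2.2.2.1))))) e.2.2.2.2.1)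
        e.2.2.2.2.2

theorem check_double : ∀ b c d : Fin 11, doubleOk b.val c.val d.val = true := by
  decide +kernel

end CfsgLib.Perm.DegreeEleven
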