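import Cfsg.Agent.Lib.Perm.PrimeDegree
import Cfsg.Agent.Lib.Perm.Basic

/-!
Transitive groups of prime degree `p` with an even Sylow `p`-normaliser, and coordinates for
them.
-/

namespace CfsgLib.Perm

open MulAction

section PrimeDegreeEven

variable {α : Type*} [Fintype α] {p : ℕ} [Fact p.Prime]

omit [Fintype α] in
theorem pow_apply_coords {g : Equiv.Perm α} {e : ZMod p ≃ α} (he : ∀ j, g (e j) = e (j + 1))
    (n : ℕ) (i : ZMod p) : (g ^ n) (e i) = e (i + n) := by
  induction n with
  | zero => simp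
  | succ n ih => rw [pow_succ', Equiv.Perm.mul_apply, ih, he, Nat.cast_succ, add_assoc]

/-- Coordinates in which `g` is a translation and an inverting `t` is negation. -/
theorem exists_coords_neg (hα : Fintype.card α = p) (hp2 : p ≠ 2) {g t : Equiv.Perm α}
    (hgp : g ^ p = 1) (hne : g ≠ 1) (hinv : t * g * t⁻¹ = g⁻¹) :
    ∃ e : ZMod p ≃ α, (∀ j, g (e j) = e (j + 1)) ∧ ∀ j, t (e j) = e (-j) := by
  obtain ⟨e, he⟩ := exists_coords hα hgp hne
  have hstep : ∀ j, e.symm (t (e (j + 1))) = e.symm (t (e j)) - 1 := fun j => by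
    have h : t (g (e j)) = g⁻¹ (t (e j)) := by
      rw [← Equiv.Perm.mul_apply, ← Equiv.Perm.mul_apply, ← hinv, inv_mul_cancel_right]
    obtain ⟨i, hi⟩ := e.surjective (t (e j))
    rw [← he, h, ← hi, Equiv.symm_apply_apply, Equiv.symm_apply_eq, Equiv.Perm.inv_def,
      Equiv.symm_apply_eq, he, sub_add_cancel]
  set c := e.symm (t (e 0)) with hc
  have hlin : ∀ n : ℕ, e.symm (t (e (n : ZMod p))) = c - n := fun n => by
    induction n with
    | zero => simp [hc]
    | succ n ih => rw [Nat.cast_succ, hstep, ih, sub_sub]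
  have hlin' : ∀ j, t (e j) = e (c - j) := fun j => by
    have := hlin j.val
    rw [ZMod.natCast_zmod_val] at this
    rw [← this, Equiv.apply_symm_apply]
  have h2 : (2 : ZMod p) ≠ 0 := fun h => by
    have h' : ((2 : ℕ) : ZMod p) = 0 := by simpa using h
    rw [ZMod.natCast_eq_zero_iff] at h'
    exact hp2 ((Nat.prime_dvd_prime_iff_eq Fact.out Nat.prime_two).mp h')
  have hh : c / 2 + c / 2 = c := by
    rw [← two_mul, mul_div_cancel₀ c h2]
  refine ⟨(Equiv.addRight (c / 2)).trans e, fun j => ?_, fun j => ?_⟩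
  · show g (e (j + c / 2)) = e (j + 1 + c / 2)
    rw [he, add_right_comm]
  · show t (e (j + c / 2)) = e (-j + c / 2)
    rw [hlin']
    congr 1
    linear_combination (-1 : ZMod p) * hh

theorem not_sq_dvd_card (hα : Fintype.card α = p) (G : Subgroup (Equiv.Perm α)) :
    ¬ p ^ 2 ∣ Nat.card G := by
  have hp : p.Prime := Fact.out
  intro h
  have h2 := h.trans (Subgroup.card_subgroup_dvd_card G)
  rw [Nat.card_perm, Nat.card_eq_fintype_card, hα,
    ← Nat.mul_factorial_pred hp.ne_zero, pow_two] at h2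
  have h3 := Nat.dvd_of_mul_dvd_mul_left hp.pos h2
  have := hp.dvd_factorial.mp h3
  have := hp.pos
  omega

theorem card_sylow_eq (hα : Fintype.card α = p) (G : Subgroup (Equiv.Perm α)) [IsPretransitive G α]
    (P : Sylow p G) : Nat.card (P : Subgroup G) = p := by
  have hp : p.Prime := Fact.out
  obtain ⟨a⟩ : Nonempty α := Fintype.card_pos_iff.mp (hα ▸ hp.pos)
  have hdvd : p ∣ Nat.card G := by
    rw [← hα, ← Nat.card_eq_fintype_card (α := α), ← index_stabilizer_of_transitive G a]
    exact Subgroup.index_dvd_card _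
  rw [Sylow.card_eq_multiplicity]
  have h1 : 1 ≤ (Nat.card G).factorization p :=
    hp.factorization_pos_of_dvd Nat.card_pos.ne' hdvd
  have h2 : ¬ 2 ≤ (Nat.card G).factorization p := fun h =>
    not_sq_dvd_card hα G ((hp.pow_dvd_iff_le_factorization Nat.card_pos.ne').mpr h)
  rw [show (Nat.card G).factorization p = 1 by omega, pow_one]

/-- An even Sylow normaliser gives an element inverting the `p`-cycle. -/
theorem exists_inverting (hα : Fintype.card α = p) (hp2 : p ≠ 2) (G : Subgroup (Equiv.Perm α))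
    [IsPretransitive G α] (P : Sylow p G)
    (heven : Even (Nat.card (Subgroup.normalizer ((P : Subgroup G) : Set G)))) :
    ∃ x t : G, x ^ p = 1 ∧ x ≠ 1 ∧ t * x * t⁻¹ = x⁻¹ ∧ t * t = 1 ∧ t ≠ 1 := by
  classical
  have hp : p.Prime := Fact.out
  haveI : Fact (Nat.Prime 2) := ⟨Nat.prime_two⟩
  obtain ⟨⟨t, htN⟩, ht⟩ := exists_prime_orderOf_dvd_card' 2 heven.two_dvd
  have hcard := card_sylow_eq hα G P
  obtain ⟨⟨x, hxP⟩, hx⟩ := exists_prime_orderOf_dvd_card' (G := (P : Subgroup G)) p (by rw [hcard])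
  have hxo : orderOf x = p := by rw [← hx]; exact (Subgroup.orderOf_mk x hxP).symm
  have hto : orderOf t = 2 := by rw [← ht]; exact (Subgroup.orderOf_mk t htN).symm
  have htt : t * t = 1 := by
    rw [← pow_two, ← hto]
    exact pow_orderOf_eq_one t
  have htinv : t⁻¹ = t := inv_eq_of_mul_eq_one_right htt
  have htne : t ≠ 1 := fun h => by rw [h, orderOf_one] at hto; omega
  have hxp : x ^ p = 1 := by rw [← hxo]; exact pow_orderOf_eq_one x
  have hxne : x ≠ 1 := fun h => by rw [h, orderOf_one] at hxo; exact hp.one_lt.ne hxo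
  have hzp : Subgroup.zpowers x = (P : Subgroup G) :=
    Subgroup.eq_of_le_of_card_ge (Subgroup.zpowers_le.mpr hxP) (by rw [hcard, Nat.card_zpowers, hxo])
  have hmem : t * x * t⁻¹ ∈ Subgroup.zpowers x := by
    rw [hzp]; exact (Subgroup.mem_normalizer_iff.mp htN x).mp hxP
  obtain ⟨m, hm⟩ := Subgroup.mem_zpowers_iff.mp hmem
  -- `t² = 1` forces `m² = 1` modulo `p`
  have hsq : x ^ (m * m - 1) = 1 := by
    have h : (MulAut.conj t) ((MulAut.conj t) x) = x ^ (m * m) := by
      rw [MulAut.conj_apply t x, ← hm, map_zpow, MulAut.conj_apply, ← hm, zpow_mul]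
    simp only [MulAut.conj_apply, htinv] at h
    rw [show t * (t * x * t) * t = (t * t) * x * (t * t) by group, htt, one_mul, mul_one] at h
    rw [zpow_sub, ← h, zpow_one, mul_inv_cancel]
  rw [← orderOf_dvd_iff_zpow_eq_one, hxo, show m * m - 1 = (m + 1) * (m - 1) by ring] at hsq
  refine ⟨x, t, hxp, hxne, ?_, htt, htne⟩
  rcases (Nat.prime_iff_prime_int.mp hp).dvd_or_dvd hsq with h | h
  · have h1 : x ^ (m + 1) = 1 := orderOf_dvd_iff_zpow_eq_one.mp (hxo.symm ▸ h)
    rw [← hm]
    rw [zpow_add, zpow_one, mul_eq_one_iff_eq_inv] at h1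
    exact h1
  · exfalso
    have h1 : x ^ (m - 1) = 1 := orderOf_dvd_iff_zpow_eq_one.mp (hxo.symm ▸ h)
    rw [zpow_sub, zpow_one, mul_inv_eq_one] at h1
    rw [h1] at hm
    -- `t` commutes with a transitive abelian subgroup
    obtain ⟨e, he⟩ := exists_coords hα (g := (x : Equiv.Perm α))
      (congrArg Subtype.val hxp) (fun h => hxne (Subtype.ext h))
    haveI : IsPretransitive (Subgroup.zpowers x) α := ⟨fun u v => by
      refine ⟨⟨x ^ (e.symm v - e.symm u).val, Subgroup.npow_mem_zpowers x _⟩, ?_⟩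
      show ((x : Equiv.Perm α) ^ (e.symm v - e.symm u).val) u = v
      obtain ⟨i, rfl⟩ := e.surjective u
      rw [pow_apply_coords he, ZMod.natCast_zmod_val, Equiv.symm_apply_apply, add_sub_cancel,
        Equiv.apply_symm_apply]⟩
    haveI : Nonempty α := ⟨e 0⟩
    have hcomm : ∀ u ∈ Subgroup.zpowers x, ∀ v ∈ Subgroup.zpowers x, u * v = v * u := by
      rintro _ ⟨i, rfl⟩ _ ⟨j, rfl⟩
      exact zpow_mul_comm x i j
    have htz : t ∈ Subgroup.zpowers x :=
      mem_of_commute_of_transitive (α := α) _ _ hcomm fun u hu => by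
        obtain ⟨i, rfl⟩ := hu
        have hc : Commute t x := mul_inv_eq_iff_eq_mul.mp hm.symm
        exact (hc.zpow_right i).eq.symm
    have hd := Subgroup.orderOf_dvd_natCard (Subgroup.zpowers x) htz
    rw [Nat.card_zpowers, hxo, hto, Nat.prime_dvd_prime_iff_eq Nat.prime_two hp] at hd
    exact hp2 hd.symm

end PrimeDegreeEven

end CfsgLib.Perm
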