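import Cfsg.Prelude.Def_Perm
import Mathlib.GroupTheory.Sylow
import Mathlib.GroupTheory.GroupAction.MultipleTransitivity
import Mathlib.Algebra.CharP.Basic
import Mathlib.Algebra.Algebra.ZMod
import Mathlib.LinearAlgebra.Matrix.ToLin
import Mathlib.LinearAlgebra.Dual.Lemmas
import Mathlib.LinearAlgebra.FiniteDimensional.Basic

/-!
Invariant subspaces of permutation modules in characteristic `p` of a group of degree a power
of `p`.
-/

namespace CfsgLib.Perm

open MulAction

section PermModule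

variable {G : Type*} [Group G] {K : Type*} [Field K] {Ω : Type*} [MulAction G Ω]

theorem permRep_apply (g : G) (v : Ω → K) (x : Ω) :
    Cfsg.permRep K G Ω g v x = v (g⁻¹ • x) := rfl

theorem permRep_single_eq [DecidableEq Ω] (g : G) (x : Ω) (c : K) :
    Cfsg.permRep K G Ω g (Pi.single x c) = Pi.single (g • x) c := by
  funext y
  show (Pi.single x c : Ω → K) (g⁻¹ • y) = (Pi.single (g • x) c : Ω → K) y
  simp only [Pi.single_apply, inv_smul_eq_iff]

theorem mem_permConstants_iff (v : Ω → K) :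
    v ∈ (Cfsg.permConstants K G Ω).toSubmodule ↔ ∃ c : K, v = fun _ => c := by
  show v ∈ Submodule.span K {fun _ => (1 : K)} ↔ _
  rw [Submodule.mem_span_singleton]
  constructor
  · rintro ⟨c, rfl⟩
    exact ⟨c, funext fun x => mul_one c⟩
  · rintro ⟨c, rfl⟩
    exact ⟨c, funext fun x => mul_one c⟩

theorem mem_permSumZero_iff [Fintype Ω] (v : Ω → K) :
    v ∈ (Cfsg.permSumZero K G Ω).toSubmodule ↔ ∑ x, v x = 0 := Iff.rfl

theorem one_mem_permSumZero [Fintype Ω] {p : ℕ} [CharP K p] (hp : p ∣ Fintype.card Ω) :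
    (Cfsg.permConstants K G Ω).toSubmodule ≤ (Cfsg.permSumZero K G Ω).toSubmodule := by
  intro v hv
  obtain ⟨c, rfl⟩ := (mem_permConstants_iff v).mp hv
  rw [mem_permSumZero_iff, Finset.sum_const, Finset.card_univ, nsmul_eq_mul,
    (CharP.cast_eq_zero_iff K p _).mpr hp, zero_mul]

theorem const_mem_iff [Nonempty Ω] (W : Submodule K (Ω → K)) :
    (Cfsg.permConstants K G Ω).toSubmodule ≤ W ↔ (fun _ => (1 : K)) ∈ W :=
  Submodule.span_le.trans Set.singleton_subset_iff

/-- A Sylow subgroup is transitive when the degree is a power of the prime. -/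
theorem sylow_isPretransitive [Finite G] [Finite Ω] [IsPretransitive G Ω] {p f : ℕ} [Fact p.Prime]
    (hcard : Nat.card Ω = p ^ f) (P : Sylow p G) : IsPretransitive (P : Subgroup G) Ω := by
  have hne : Nonempty Ω := (Nat.card_pos_iff.mp (hcard ▸ pow_pos (Fact.out : p.Prime).pos f)).1
  obtain ⟨a⟩ := hne
  refine (isPretransitive_iff_base a).mpr ?_
  have hidx := index_stabilizer_of_transitive G a
  -- the orbit of `P` is everything
  have hP : (stabilizer G a).index ∣ (stabilizer (P : Subgroup G) a).index * (P : Subgroup G).index := by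
    have h1 : ((stabilizer (P : Subgroup G) a).map (P : Subgroup G).subtype) ≤ stabilizer G a := by
      rintro _ ⟨x, hx, rfl⟩
      exact hx
    have := Subgroup.index_dvd_of_le h1
    rwa [Subgroup.index_map_subtype] at this
  have hcop : Nat.Coprime (stabilizer G a).index (P : Subgroup G).index := by
    rw [hidx, hcard]
    exact Nat.Coprime.pow_left f ((Fact.out : p.Prime).coprime_iff_not_dvd.mpr P.not_dvd_index)
  have hdvd := hcop.dvd_of_dvd_mul_right hP
  rw [hidx, index_stabilizer] at hdvd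
  have horb : MulAction.orbit (P : Subgroup G) a = Set.univ := by
    refine Set.eq_of_subset_of_ncard_le (Set.subset_univ _) ?_ (Set.toFinite _)
    rw [Set.ncard_univ]
    exact Nat.le_of_dvd ((Set.ncard_pos (Set.toFinite _)).mpr ⟨a, mem_orbit_self a⟩) hdvd
  intro b
  have hb : b ∈ MulAction.orbit (P : Subgroup G) a := horb ▸ Set.mem_univ b
  exact hb

theorem eq_const_of_fixed {P : Type*} [Group P] [MulAction P Ω] [IsPretransitive P Ω]
    {v : Ω → K} (h : ∀ g : P, Cfsg.permRep K P Ω g v = v) (x y : Ω) : v x = v y := by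
  obtain ⟨g, rfl⟩ := exists_smul_eq P y x
  have h' := congrFun (h g) (g • y)
  rw [permRep_apply, inv_smul_smul] at h'
  exact h'.symm

/-- In characteristic `p`, a `p`-group fixes a nonzero vector in each nonzero invariant subspace. -/
theorem exists_fixed_of_isPGroup {P : Type*} [Group P] [Finite P] {V : Type*} [AddCommGroup V]
    [Module K V] {p : ℕ} [Fact p.Prime] [CharP K p] (hP : IsPGroup p P) (ρ : Representation K P V)
    (W : Submodule K V) (hinv : ∀ g : P, ∀ v ∈ W, ρ g v ∈ W) (hW : W ≠ ⊥) :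
    ∃ v ∈ W, v ≠ 0 ∧ ∀ g : P, ρ g v = v := by
  classical
  letI : Fintype P := Fintype.ofFinite P
  obtain ⟨w, hw, hw0⟩ := Submodule.exists_mem_ne_zero_of_ne_bot hW
  -- the finite additive group generated by the orbit of `w`
  let φ : (P → ZMod p) →+ V :=
    { toFun := fun c => ∑ h : P, (ZMod.castHom dvd_rfl K (c h)) • ρ h w
      map_zero' := by simp
      map_add' := fun c d => by simp [add_smul, Finset.sum_add_distrib] }
  let A : AddSubgroup V := φ.range
  have hAW : ∀ v ∈ A, v ∈ W := by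
    rintro _ ⟨c, rfl⟩
    exact W.sum_mem fun h _ => W.smul_mem _ (hinv h w hw)
  have hwA : w ∈ A := ⟨Pi.single 1 1, by
    show ∑ h : P, (ZMod.castHom dvd_rfl K ((Pi.single 1 1 : P → ZMod p) h)) • ρ h w = w
    rw [Finset.sum_eq_single 1 (fun h _ hne => by rw [Pi.single_eq_of_ne hne, map_zero, zero_smul])
      (fun h => absurd (Finset.mem_univ 1) h), Pi.single_eq_same, map_one, one_smul, map_one]
    rfl⟩
  have hinvA : ∀ g : P, ∀ v ∈ A, ρ g v ∈ A := by
    rintro g _ ⟨c, rfl⟩
    refine ⟨fun h => c (g⁻¹ * h), ?_⟩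
    show ∑ h : P, _ = ρ g (∑ h : P, _)
    rw [map_sum]
    exact Fintype.sum_equiv (Equiv.mulLeft g⁻¹) _ _ fun h => by
      simp only [Equiv.coe_mulLeft, map_smul]
      rw [← Module.End.mul_apply, ← map_mul, mul_inv_cancel_left]
  letI act : MulAction P A :=
    { smul := fun g v => ⟨ρ g v, hinvA g v v.2⟩
      one_smul := fun v => Subtype.ext (by show ρ 1 (v : V) = v; rw [map_one]; rfl)
      mul_smul := fun g h v => Subtype.ext (by
        show ρ (g * h) (v : V) = ρ g (ρ h v); rw [map_mul]; rfl) }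
  haveI : Finite A := Set.finite_range φ |>.to_subtype
  have hpA : p ∣ Nat.card A := by
    have hd : Nat.card A ∣ Nat.card (P → ZMod p) :=
      AddSubgroup.card_dvd_of_surjective φ.rangeRestrict φ.rangeRestrict_surjective
    rw [Nat.card_fun, Nat.card_zmod] at hd
    obtain ⟨i, -, hi⟩ := (Nat.dvd_prime_pow Fact.out).mp hd
    rcases Nat.eq_zero_or_pos i with rfl | h
    · haveI : Subsingleton A := (Nat.card_eq_one_iff_unique.mp (by rw [hi, pow_zero])).1
      exact absurd (congrArg Subtype.val (Subsingleton.elim (⟨w, hwA⟩ : A) 0)) hw0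
    · exact hi ▸ dvd_pow_self p (by omega)
  obtain ⟨b, hb, hne⟩ := hP.exists_fixed_point_of_prime_dvd_card_of_fixed_point A hpA (a := 0)
    (fun g => Subtype.ext (map_zero (ρ g)))
  exact ⟨b, hAW b b.2, fun e => hne (Subtype.ext e).symm, fun g => congrArg Subtype.val (hb g)⟩

/-- The constants lie in every nonzero invariant subspace. -/
theorem constants_le [Finite G] [Fintype Ω] [IsPretransitive G Ω] {p f : ℕ} [Fact p.Prime]
    [CharP K p] (hcard : Fintype.card Ω = p ^ f) (W : Submodule K (Ω → K))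
    (hinv : ∀ g : G, ∀ v ∈ W, Cfsg.permRep K G Ω g v ∈ W) (hW : W ≠ ⊥) :
    (Cfsg.permConstants K G Ω).toSubmodule ≤ W := by
  obtain ⟨P⟩ := (Sylow.nonempty : Nonempty (Sylow p G))
  haveI := sylow_isPretransitive (Ω := Ω) (f := f) (by rw [Nat.card_eq_fintype_card, hcard]) P
  haveI hne : Nonempty Ω := Fintype.card_pos_iff.mp (hcard ▸ pow_pos (Fact.out : p.Prime).pos f)
  obtain ⟨v, hv, hv0, hfix⟩ := exists_fixed_of_isPGroup P.isPGroup' (Cfsg.permRep K (P : Subgroup G) Ω)
    W (fun g v hv => hinv g v hv) hW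
  obtain ⟨a⟩ := id hne
  have hc : v = fun _ => v a := funext fun x => eq_const_of_fixed (P := (P : Subgroup G)) hfix x a
  have hva : v a ≠ 0 := fun h => hv0 (by rw [hc, h]; rfl)
  rw [const_mem_iff]
  have h1 := W.smul_mem (v a)⁻¹ hv
  rw [hc] at h1
  convert h1 using 1
  funext x
  exact (inv_mul_cancel₀ hva).symm

/-- Every proper invariant subspace lies in the sum-zero functions. -/
theorem le_sumZero [Finite G] [Fintype Ω] [IsPretransitive G Ω] {p f : ℕ} [Fact p.Prime]
    [CharP K p] (hcard : Fintype.card Ω = p ^ f) (W : Submodule K (Ω → K))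
    (hinv : ∀ g : G, ∀ v ∈ W, Cfsg.permRep K G Ω g v ∈ W) (hW : W ≠ ⊤) :
    W ≤ (Cfsg.permSumZero K G Ω).toSubmodule := by
  classical
  let U : Submodule K (Ω → K) :=
    { carrier := {u | ∀ w ∈ W, ∑ x, u x * w x = 0}
      zero_mem' := by simp
      add_mem' := fun {u v} hu hv w hw => by
        simp only [Pi.add_apply, add_mul, Finset.sum_add_distrib, hu w hw, hv w hw, add_zero]
      smul_mem' := fun c u hu w hw => by
        simp only [Pi.smul_apply, smul_eq_mul, mul_assoc, ← Finset.mul_sum, hu w hw, mul_zero] }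
  have hUinv : ∀ g : G, ∀ u ∈ U, Cfsg.permRep K G Ω g u ∈ U := fun g u hu w hw => by
    have h := hu _ (hinv g⁻¹ w hw)
    refine Eq.trans (Fintype.sum_equiv (toPerm g⁻¹) _ (fun x => u x * w (g • x)) fun x => ?_) ?_
    · simp [permRep_apply]
    · simpa [permRep_apply] using h
  have hUne : U ≠ ⊥ := by
    obtain ⟨φ, hφ, hWφ⟩ := Submodule.exists_le_ker_of_lt_top W (lt_top_iff_ne_top.mpr hW)
    intro h
    apply hφ
    have hu : (fun x => φ (Pi.single x 1)) ∈ U := fun w hw => by
      have hw0 : φ w = 0 := hWφ hw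
      rw [pi_eq_sum_univ w, map_sum] at hw0
      rw [← hw0]
      refine Finset.sum_congr rfl fun x _ => ?_
      rw [map_smul, smul_eq_mul, mul_comm]
      congr 1
      show φ (Pi.single x 1) = _
      congr 1
      funext y
      simp [Pi.single_apply, eq_comm]
    rw [h, Submodule.mem_bot] at hu
    refine LinearMap.pi_ext fun x c => ?_
    rw [← mul_one c, ← smul_eq_mul, Pi.single_smul, map_smul, congrFun hu x]
    simp
  have h1 := constants_le hcard U hUinv hUne ((mem_permConstants_iff _).mpr ⟨1, rfl⟩)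
  intro w hw
  rw [mem_permSumZero_iff]
  simpa using h1 w hw

open scoped Classical in
/-- If the heart has no trivial composition factor then the group is doubly transitive. -/
theorem two_transitive_of_heart [Finite G] [Fintype Ω] [IsPretransitive G Ω] {p f : ℕ}
    [Fact p.Prime] [CharP K p] (hf : 1 ≤ f) (hcard : Fintype.card Ω = p ^ f)
    (h : ∀ W W' : Subrepresentation (Cfsg.permRep K G Ω),
      (Cfsg.permConstants K G Ω).toSubmodule ≤ W.toSubmodule → W.toSubmodule < W'.toSubmodule →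
      W'.toSubmodule ≤ (Cfsg.permSumZero K G Ω).toSubmodule →
      ∃ g : G, ∃ v ∈ W'.toSubmodule, Cfsg.permRep K G Ω g v - v ∉ W.toSubmodule) :
    IsMultiplyPretransitive G Ω 2 := by
  rw [is_two_pretransitive_iff]
  intro a b c d hab hcd
  by_contra hcon
  haveI : Nonempty Ω := ⟨a⟩
  -- the adjacency matrix of the orbital of `(a, b)`
  let A : Matrix Ω Ω K := Matrix.of fun x y => if ∃ g : G, g • a = x ∧ g • b = y then 1 else 0
  have hA : ∀ (g : G) x y, A (g • x) (g • y) = A x y := fun g x y => by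
    simp only [A, Matrix.of_apply]
    congr 1
    refine propext ⟨fun ⟨k, h1, h2⟩ => ⟨g⁻¹ * k, ?_, ?_⟩, fun ⟨k, h1, h2⟩ => ⟨g * k, ?_, ?_⟩⟩ <;>
      simp [mul_smul, h1, h2]
  let φ : (Ω → K) →ₗ[K] (Ω → K) := Matrix.toLin' A
  have hφ : ∀ (g : G) v, φ (Cfsg.permRep K G Ω g v) = Cfsg.permRep K G Ω g (φ v) := fun g v => by
    funext x
    show ∑ y, A x y * v (g⁻¹ • y) = ∑ y, A (g⁻¹ • x) y * v y
    exact Fintype.sum_equiv (toPerm g⁻¹) _ _ fun y => by simp [← hA g⁻¹ x y]
  set e : Ω → K := fun _ => (1 : K) with he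
  set k₀ := φ e a with hk₀
  have hk : φ e = k₀ • e := by
    funext x
    obtain ⟨g, rfl⟩ := exists_smul_eq G a x
    have h1 := congrFun (hφ g e) (g • a)
    rw [permRep_apply, inv_smul_smul] at h1
    show φ e (g • a) = k₀ * 1
    rw [mul_one, hk₀]
    exact h1
  let ψ : (Ω → K) →ₗ[K] (Ω → K) := φ - k₀ • LinearMap.id
  have hψ : ∀ (g : G) v, ψ (Cfsg.permRep K G Ω g v) = Cfsg.permRep K G Ω g (ψ v) := fun g v => by
    simp [ψ, hφ]
  set S := (Cfsg.permSumZero K G Ω).toSubmodule with hS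
  have hpn : p ∣ Fintype.card Ω := hcard ▸ dvd_pow_self p (by omega)
  have hψe : ψ e = 0 := by simp [ψ, hk]
  have hdecomp : ∀ v : Ω → K, v - (∑ x, v x) • Pi.single a 1 ∈ S := fun v => by
    rw [hS, mem_permSumZero_iff]
    simp [Finset.sum_sub_distrib, ← Finset.mul_sum]
  by_cases hψS : ∀ v ∈ S, ψ v = 0
  · -- `ψ` has rank at most one
    have hψv : ∀ v, ψ v = (∑ x, v x) • ψ (Pi.single a 1) := fun v => by
      have := hψS _ (hdecomp v)
      rwa [map_sub, map_smul, sub_eq_zero] at this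
    have hd : ∀ x : Ω, ψ (Pi.single x 1) = ψ (Pi.single a 1) := fun x => by
      rw [hψv (Pi.single x 1)]
      simp
    have hconst : ∀ x, ψ (Pi.single a 1) x = ψ (Pi.single a 1) a := fun x => by
      obtain ⟨g, rfl⟩ := exists_smul_eq G a x
      have h1 := congrFun (hψ g (Pi.single a 1)) (g • a)
      rw [permRep_apply, inv_smul_smul, permRep_single_eq, hd] at h1
      exact h1
    have hoff : ∀ x y : Ω, x ≠ y → A x y = ψ (Pi.single a 1) a := fun x y hxy => by
      rw [← hconst x, ← hd y]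
      simp [ψ, φ, hxy, Matrix.mulVec_single]
    have h1 := hoff a b hab
    have h2 := hoff c d hcd
    rw [show A a b = (1 : K) from if_pos ⟨1, one_smul _ _, one_smul _ _⟩] at h1
    rw [show A c d = (0 : K) from if_neg fun ⟨g, hg⟩ => hcon ⟨g, hg⟩, ← h1] at h2
    exact zero_ne_one h2
  -- the image of `ψ` gives a trivial composition factor
  push Not at hψS
  obtain ⟨s₀, hs₀, hs₀'⟩ := hψS
  let W : Subrepresentation (Cfsg.permRep K G Ω) :=
    ⟨S.map ψ, fun g v hv => by
      obtain ⟨u, hu, rfl⟩ := hv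
      exact ⟨_, (Cfsg.permSumZero K G Ω).apply_mem_toSubmodule g hu, hψ g u⟩⟩
  let W' : Subrepresentation (Cfsg.permRep K G Ω) :=
    ⟨LinearMap.range ψ, fun g v hv => by
      obtain ⟨u, rfl⟩ := hv
      exact ⟨_, hψ g u⟩⟩
  have hW : W.toSubmodule ≠ ⊥ := fun h0 => hs₀' (by
    have : ψ s₀ ∈ W.toSubmodule := ⟨s₀, hs₀, rfl⟩
    rwa [h0, Submodule.mem_bot] at this)
  have hW' : W'.toSubmodule ≠ ⊤ := fun h0 => by
    have hinj : Function.Injective ψ :=
      LinearMap.injective_iff_surjective.mpr (LinearMap.range_eq_top.mp h0)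
    exact one_ne_zero (congrFun (hinj (hψe.trans (map_zero ψ).symm)) a)
  have hker : LinearMap.ker ψ ≤ S := le_sumZero hcard _ (fun g v hv => by
    rw [LinearMap.mem_ker] at hv ⊢
    rw [hψ, hv, map_zero]) (fun h0 => hs₀' (LinearMap.mem_ker.mp (h0 ▸ Submodule.mem_top)))
  have hlt : W.toSubmodule < W'.toSubmodule := by
    refine lt_of_le_of_ne (LinearMap.map_le_range) fun h0 => ?_
    have h1 : ψ (Pi.single a 1) ∈ W.toSubmodule := h0 ▸ ⟨_, rfl⟩
    obtain ⟨s, hs, hsa⟩ := h1
    have h2 := hker (LinearMap.mem_ker.mpr (show ψ (Pi.single a 1 - s) = 0 by rw [map_sub, hsa, sub_self]))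
    have h3 : (Pi.single a 1 : Ω → K) ∈ S := by simpa using S.add_mem h2 hs
    rw [hS, mem_permSumZero_iff] at h3
    simp at h3
  obtain ⟨g, _, ⟨u, rfl⟩, hgu⟩ := h W W'
    (constants_le hcard _ (fun g v hv => W.apply_mem_toSubmodule g hv) hW) hlt
    (le_sumZero hcard _ (fun g v hv => W'.apply_mem_toSubmodule g hv) hW')
  apply hgu
  refine ⟨Cfsg.permRep K G Ω g u - u, ?_, by rw [map_sub, hψ]⟩
  rw [SetLike.mem_coe, hS, mem_permSumZero_iff]
  simp only [Pi.sub_apply, permRep_apply, Finset.sum_sub_distrib]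
  rw [sub_eq_zero]
  exact Fintype.sum_equiv (toPerm g⁻¹) _ _ fun x => rfl

end PermModule

end CfsgLib.Perm
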