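import Mathlib.GroupTheory.GroupAction.MultipleTransitivity

/-!
A criterion for triple transitivity.
-/

namespace CfsgLib.Perm

open MulAction

theorem three_pretransitive_of_pairs {G : Type*} [Group G] {α : Type*} [MulAction G α]
    (h2 : IsMultiplyPretransitive G α 2)
    (key : ∀ a b c d : α, a ≠ b → c ≠ a → c ≠ b → d ≠ a → d ≠ b →
      ∃ g : G, g • a = a ∧ g • b = b ∧ g • c = d) :
    IsMultiplyPretransitive G α 3 := by
  refine ⟨fun x y => ?_⟩
  have h2' : ∀ {a b c d : α}, a ≠ b → c ≠ d → ∃ g : G, g • a = c ∧ g • b = d :=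
    (is_two_pretransitive_iff (G := G) (α := α)).mp h2
  obtain ⟨g, hg0, hg1⟩ := h2' (a := x 0) (b := x 1) (c := y 0) (d := y 1)
    (fun e => absurd (x.injective e) (by decide)) (fun e => absurd (y.injective e) (by decide))
  obtain ⟨g', h0, h1, h3⟩ := key (y 0) (y 1) (g • x 2) (y 2)
    (fun e => absurd (y.injective e) (by decide))
    (by rw [← hg0]; exact fun e => absurd (x.injective (MulAction.injective g e)) (by decide))
    (by rw [← hg1]; exact fun e => absurd (x.injective (MulAction.injective g e)) (by decide))
    (fun e => absurd (y.injective e) (by decide)) (fun e => absurd (y.injective e) (by decide))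
  refine ⟨g' * g, Function.Embedding.ext fun i => ?_⟩
  show (g' * g) • x i = y i
  fin_cases i
  · exact (mul_smul _ _ _).trans ((congrArg (g' • ·) hg0).trans h0)
  · exact (mul_smul _ _ _).trans ((congrArg (g' • ·) hg1).trans h1)
  · exact (mul_smul _ _ _).trans h3

end CfsgLib.Perm
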