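import Cfsg.Agent.Lib.Perm.PrimeHalfPrimitive
import Cfsg.Agent.Lib.DihB.Main
import Cfsg.Agent.Lib.Solvable.Hall
import Cfsg.Agent.Lib.PSL2Sub.Bounds
import Cfsg.Agent.S0676
import Cfsg.Agent.S2475
import Mathlib.GroupTheory.SpecificGroups.Dihedral
import Mathlib.GroupTheory.Perm.Cycle.Basic

/-!
Even groups of degree `p + 1` with a proper doubly transitive subgroup `PSL(2, p)`.
-/

set_option autoImplicit false
set_option linter.style.haveILetI false

namespace CfsgLib.Perm

open MulAction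
open scoped Pointwise

variable {p : ℕ}

theorem card_sylow_of_faithful {G Ω : Type*} [Group G] [Finite G] [MulAction G Ω]
    [FaithfulSMul G Ω] [Fintype Ω] [IsPretransitive G Ω] [Fact p.Prime]
    (hΩ : Fintype.card Ω = p) (P : Sylow p G) : Nat.card (P : Subgroup G) = p := by
  have hp : p.Prime := Fact.out
  obtain ⟨n, hn⟩ := IsPGroup.iff_card.mp P.isPGroup'
  have hdvd : p ∣ Nat.card G := by
    obtain ⟨a⟩ : Nonempty Ω := Fintype.card_pos_iff.mp (hΩ ▸ hp.pos)
    rw [← hΩ, ← Nat.card_eq_fintype_card (α := Ω), ← index_stabilizer_of_transitive G a]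
    exact Subgroup.index_dvd_card _
  have hn1 : 1 ≤ n := by
    by_contra h
    exact P.ne_bot_of_dvd_card hdvd (Subgroup.card_eq_one.mp (by
      rw [hn, show n = 0 by omega, pow_zero]))
  have hn2 : n ≤ 1 := by
    by_contra h
    have h1 : p ^ n ∣ (Nat.card Ω).factorial := by
      rw [← hn, ← Nat.card_perm]
      exact Subgroup.card_dvd_of_injective
        ((toPermHom G Ω).comp (P : Subgroup G).subtype)
        (MulAction.toPerm_injective.comp Subtype.val_injective)
    have h2 := (pow_dvd_pow p (show 2 ≤ n by omega)).trans h1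
    rw [Nat.card_eq_fintype_card, hΩ, ← Nat.mul_factorial_pred hp.ne_zero, pow_two] at h2
    have := hp.dvd_factorial.mp (Nat.dvd_of_mul_dvd_mul_left hp.pos h2)
    have := hp.pos
    omega
  rw [hn, show n = 1 by omega, pow_one]

/-- In a solvable transitive group of prime degree the Sylow subgroup is normal. -/
theorem sylow_normal_of_isSolvable {G Ω : Type*} [Group G] [Finite G] [MulAction G Ω]
    [FaithfulSMul G Ω] [Fintype Ω] [IsPretransitive G Ω] [Fact p.Prime] [Group.IsSolvable G]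
    (hΩ : Fintype.card Ω = p) (P : Sylow p G) : (P : Subgroup G).Normal := by
  have hp : p.Prime := Fact.out
  obtain ⟨a⟩ : Nonempty Ω := Fintype.card_pos_iff.mp (hΩ ▸ hp.pos)
  haveI : IsPreprimitive G Ω :=
    IsPreprimitive.of_prime_card (by rw [Nat.card_eq_fintype_card, hΩ]; exact hp)
  haveI : Nontrivial G := by
    by_contra h
    rw [not_nontrivial_iff_subsingleton] at h
    obtain ⟨b, hb⟩ := Fintype.exists_ne_of_one_lt_card (hΩ ▸ hp.one_lt) a
    obtain ⟨g, hg⟩ := exists_smul_eq G a b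
    rw [Subsingleton.elim g 1, one_smul] at hg
    exact hb hg.symm
  obtain ⟨r, N, hr, hNn, hN, hN1⟩ := CfsgLib.Solvable.exists_normal_pgroup_ne_bot (G := G)
  haveI : IsPretransitive N Ω := IsQuasiPreprimitive.isPretransitive_of_normal fun h => by
    obtain ⟨⟨n, hn⟩, hn1'⟩ := (Subgroup.ne_bot_iff_exists_ne_one).mp hN1
    have hn1 : n ≠ 1 := fun h' => hn1' (Subtype.ext h')
    refine hn1 (FaithfulSMul.eq_of_smul_eq_smul (M := G) (α := Ω) fun b => ?_)
    rw [one_smul]
    exact (h ▸ Set.mem_univ b : b ∈ fixedPoints N Ω) ⟨n, hn⟩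
  have hdvd : p ∣ Nat.card N := by
    rw [← hΩ, ← Nat.card_eq_fintype_card (α := Ω), ← index_stabilizer_of_transitive N a]
    exact Subgroup.index_dvd_card _
  haveI := Fact.mk hr
  obtain ⟨k, hk⟩ := IsPGroup.iff_card.mp hN
  obtain rfl : p = r := (Nat.prime_dvd_prime_iff_eq hp hr).mp (hp.dvd_of_dvd_pow (hk ▸ hdvd))
  obtain ⟨Q, hQ⟩ := hN.exists_le_sylow
  have hNQ : N = (Q : Subgroup G) := Subgroup.eq_of_le_of_card_ge hQ (by
    rw [card_sylow_of_faithful hΩ Q]
    exact Nat.le_of_dvd Nat.card_pos hdvd)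
  haveI : (Q : Subgroup G).Normal := hNQ ▸ hNn
  haveI := Sylow.unique_of_normal Q this
  rwa [Subsingleton.elim P Q]

/-- An automorphism-like multiplier of maximal order is an odd permutation. -/
theorem sign_eq_neg_one_of_generator {Ω : Type*} [Fintype Ω] [DecidableEq Ω] [Fact p.Prime]
    (hp2 : 2 < p) (hΩ : Fintype.card Ω = p + 1) (π : Equiv.Perm Ω) (w : Ω)
    (e : ZMod p → Ω) (hinj : Function.Injective e) (hw : ∀ j, e j ≠ w)
    (hfix : π w = w) (u : (ZMod p)ˣ) (hu : ∀ d : (ZMod p)ˣ, d ∈ Subgroup.zpowers u)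
    (hπ : ∀ j, π (e j) = e ((u : ZMod p) * j)) : Equiv.Perm.sign π = -1 := by
  have hsurj : ∀ y, y ≠ w → ∃ j, e j = y := by
    intro y hy
    by_contra h
    push Not at h
    have := Fintype.card_le_of_injective (α := ZMod p ⊕ Bool)
      (Sum.elim e (fun b => bif b then w else y)) (by
        rintro (i | b) (j | c) hij
        · simp only [Sum.elim_inl] at hij; rw [hinj hij]
        · cases c
          · exact absurd hij (h i)
          · exact absurd hij (hw i)
        · cases b
          · exact absurd hij.symm (h j)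
          · exact absurd hij.symm (hw j)
        · cases b <;> cases c
          · rfl
          · exact absurd hij hy
          · exact absurd hij.symm hy
          · rfl)
    rw [Fintype.card_sum, ZMod.card, Fintype.card_bool, hΩ] at this
    omega
  have hpow : ∀ (n : ℕ) j, (π ^ n) (e j) = e (((u ^ n : (ZMod p)ˣ) : ZMod p) * j) := by
    intro n
    induction n with
    | zero => simp
    | succ n ih =>
      intro j
      rw [pow_succ', Equiv.Perm.mul_apply, ih, hπ, pow_succ' u n, Units.val_mul, mul_assoc]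
  have hu1 : (u : ZMod p) ≠ 1 := fun h => by
    have h1 : u = 1 := Units.ext h
    have hn := Fintype.exists_ne_of_one_lt_card
      (show 1 < Fintype.card (ZMod p)ˣ by rw [ZMod.card_units]; omega) 1
    obtain ⟨d, hd⟩ := hn
    have := hu d
    rw [h1, Subgroup.zpowers_one_eq_bot, Subgroup.mem_bot] at this
    exact hd this
  have hsupp : π.support = Finset.univ \ {w, e 0} := by
    ext y
    simp only [Equiv.Perm.mem_support, Finset.mem_sdiff, Finset.mem_univ, true_and,
      Finset.mem_insert, Finset.mem_singleton, not_or]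
    refine ⟨fun hy => ⟨fun h => hy (h ▸ hfix), fun h => hy (by rw [h, hπ, mul_zero])⟩, ?_⟩
    rintro ⟨hyw, hy0⟩ hy
    obtain ⟨j, rfl⟩ := hsurj y hyw
    rw [hπ] at hy
    have hj : j ≠ 0 := fun h => hy0 (by rw [h])
    exact hu1 (mul_right_cancel₀ hj (by rw [one_mul]; exact hinj hy))
  have hcyc : π.IsCycle := by
    refine ⟨e 1, fun h => hu1 ?_, fun y hy => ?_⟩
    · rw [hπ, mul_one] at h
      exact hinj h
    · have hy' : y ∈ π.support := Equiv.Perm.mem_support.mpr hy
      rw [hsupp, Finset.mem_sdiff, Finset.mem_insert, Finset.mem_singleton, not_or] at hy'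
      obtain ⟨j, rfl⟩ := hsurj y hy'.2.1
      have hj : j ≠ 0 := fun h => hy'.2.2 (by rw [h])
      obtain ⟨n, hn⟩ := mem_powers_iff_mem_zpowers.mpr (hu (Units.mk0 j hj))
      refine ⟨(n : ℤ), ?_⟩
      simp only [zpow_natCast, hpow, mul_one]
      have hn' : u ^ n = Units.mk0 j hj := hn
      rw [hn', Units.val_mk0]
  rw [hcyc.sign, hsupp, Finset.card_sdiff_of_subset (Finset.subset_univ _),
    Finset.card_pair (fun h => hw 0 h.symm), Finset.card_univ, hΩ]
  have hodd : Odd p := (Fact.out : p.Prime).odd_of_ne_two (by omega)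
  obtain ⟨k, hk⟩ := hodd
  rw [show p + 1 - 2 = 2 * k by omega, pow_mul, neg_one_sq, one_pow]

/-- If a group normalises a subgroup of index at most two and moves all points of a set of odd
size in one orbit, the subgroup is transitive on it. -/
theorem transitive_of_index_two {G Y : Type*} [Group G] [MulAction G Y] [Fintype Y]
    (hY : Odd (Fintype.card Y)) (K H : Set G) (hH1 : (1 : G) ∈ H)
    (hinv : ∀ h ∈ H, h⁻¹ ∈ H) (hmul : ∀ a ∈ H, ∀ b ∈ H, a * b ∈ H)
    (htwo : ∀ a ∈ K, a ∉ H → ∀ b ∈ K, b ∉ H → a⁻¹ * b ∈ H)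
    (hnorm : ∀ a ∈ K, ∀ h ∈ H, a * h * a⁻¹ ∈ H)
    (htr : ∀ y z : Y, ∃ a ∈ K, a • y = z) (y z : Y) : ∃ h ∈ H, h • y = z := by
  classical
  by_contra hz
  obtain ⟨k, hk, hky⟩ := htr y z
  have hkH : k ∉ H := fun h => hz ⟨k, h, hky⟩
  let O : Finset Y := Finset.univ.filter fun u => ∃ h ∈ H, h • y = u
  have himg : ∀ u, u ∉ O → ∃ h ∈ H, k • h • y = u := fun u hu => by
    obtain ⟨a, ha, hau⟩ := htr y u
    have haH : a ∉ H := fun h => hu (Finset.mem_filter.mpr ⟨Finset.mem_univ _, a, h, hau⟩)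
    exact ⟨k⁻¹ * a, htwo k hk hkH a ha haH, by rw [← mul_smul, mul_inv_cancel_left, hau]⟩
  have hout : ∀ u ∈ O, k • u ∉ O := by
    intro u hu hku
    simp only [O, Finset.mem_filter, Finset.mem_univ, true_and] at hu hku
    obtain ⟨h₁, hh₁, rfl⟩ := hu
    obtain ⟨h₂, hh₂, h₂e⟩ := hku
    refine hz ⟨(k * h₁ * k⁻¹)⁻¹ * h₂, hmul _ (hinv _ (hnorm k hk h₁ hh₁)) _ hh₂, ?_⟩
    rw [mul_smul, h₂e, inv_smul_eq_iff, ← hky, ← mul_smul, ← mul_smul, inv_mul_cancel_right]
  have hcompl : Oᶜ = O.image (k • ·) := by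
    ext u
    simp only [Finset.mem_compl, Finset.mem_image]
    constructor
    · intro hu
      obtain ⟨h, hh, rfl⟩ := himg u hu
      exact ⟨h • y, Finset.mem_filter.mpr ⟨Finset.mem_univ _, h, hh, rfl⟩, rfl⟩
    · rintro ⟨v, hv, rfl⟩
      exact hout v hv
  have h1 := congrArg Finset.card hcompl
  rw [Finset.card_compl, Finset.card_image_of_injective _ (MulAction.injective k)] at h1
  have h2 := O.card_le_univ
  obtain ⟨m, hm⟩ := hY
  omega

/-- An even group of degree `p + 1`, `p > 7`, properly containing a doubly transitive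
`PSL(2, p)` is quadruply transitive. -/
theorem four_transitive_even_overgroup {X Ω : Type*} [Group X] [Finite X] [MulAction X Ω]
    [FaithfulSMul X Ω] [Fintype Ω] [DecidableEq Ω] [Fact p.Prime] (hp7 : 7 < p)
    (hΩ : Fintype.card Ω = p + 1)
    (heven : ∀ x : X, Equiv.Perm.sign (MulAction.toPerm x : Equiv.Perm Ω) = 1)
    (L : Subgroup X) (ψ : ↥L ≃* Matrix.ProjectiveSpecialLinearGroup (Fin 2) (ZMod p))
    (hLt : IsMultiplyPretransitive ↥L Ω 2) (hLX : L ≠ ⊤) :
    IsMultiplyPretransitive X Ω 4 := by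
  classical
  have hp : p.Prime := Fact.out
  obtain ⟨k₀, hk₀⟩ : Odd p := hp.odd_of_ne_two (by omega)
  set q := (p - 1) / 2 with hqdef
  have hq : p = 2 * q + 1 := by omega
  haveI : NeZero q := ⟨by omega⟩
  have h2L : ∀ {a b c d : Ω}, a ≠ b → c ≠ d → ∃ g : L, g • a = c ∧ g • b = d :=
    fun {a b c d} h h' => is_two_pretransitive_iff.mp inferInstance h h'
  haveI hne : Nonempty Ω := Fintype.card_pos_iff.mp (by omega)
  haveI : IsPretransitive L Ω := ⟨fun a b => by
    obtain ⟨c, hc⟩ := Fintype.exists_ne_of_one_lt_card (show 1 < Fintype.card Ω by omega) a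
    obtain ⟨d, hd⟩ := Fintype.exists_ne_of_one_lt_card (show 1 < Fintype.card Ω by omega) b
    obtain ⟨g, h1, -⟩ := h2L hc.symm hd.symm
    exact ⟨g, h1⟩⟩
  haveI : IsPretransitive X Ω := ⟨fun a b => by
    obtain ⟨g, hg⟩ := exists_smul_eq L a b
    exact ⟨g, hg⟩⟩
  -- orders
  have hcardL : Nat.card L = (p + 1) * (p * q) := by
    have h := CfsgLib.PSL2Sub.gcd_mul_card_PS (F := ZMod p)
    rw [ZMod.card, ← Nat.card_congr ψ.toEquiv] at h
    rw [show Nat.gcd 2 (p - 1) = 2 from Nat.gcd_eq_left ⟨q, by omega⟩] at h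
    have h' : p * (p ^ 2 - 1) = 2 * ((p + 1) * (p * q)) := by
      rw [show p ^ 2 - 1 = (p + 1) * (p - 1) by rw [← Nat.sq_sub_sq, one_pow],
        show p - 1 = 2 * q by omega]
      ring
    rw [h'] at h
    exact Nat.eq_of_mul_eq_mul_left two_pos h
  have hstab : ∀ y : Ω, Nat.card (stabilizer L y) = p * q := fun y => by
    have h := (stabilizer L y).card_mul_index
    rw [index_stabilizer_of_transitive L y, Nat.card_eq_fintype_card (α := Ω), hΩ, hcardL,
      mul_comm] at h
    exact Nat.eq_of_mul_eq_mul_left (by omega) h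
  -- a point and its stabiliser
  obtain ⟨w⟩ := id hne
  set M := stabilizer X w with hM
  set Ω' := ↥(SubMulAction.ofStabilizer X w) with hΩ'def
  have hΩ' : Fintype.card Ω' = p := by
    have h : Nat.card Ω' + 1 = Nat.card Ω := SubMulAction.nat_card_ofStabilizer_add_one_eq (G := X) w
    rw [Nat.card_eq_fintype_card (α := Ω'), Nat.card_eq_fintype_card (α := Ω), hΩ] at h
    omega
  haveI : FaithfulSMul M Ω' := ⟨fun {m m'} h => Subtype.ext
    (FaithfulSMul.eq_of_smul_eq_smul (α := Ω) fun y => by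
      by_cases hy : y = w
      · subst hy
        exact (m.2 : (m : X) • y = y).trans (m'.2 : (m' : X) • y = y).symm
      · exact congrArg Subtype.val (h ⟨y, hy⟩))⟩
  let LW : Subgroup M := L.subgroupOf M
  haveI hLWt : IsPretransitive LW Ω' := ⟨fun a b => by
    obtain ⟨g, h1, h2⟩ := h2L (Ne.symm ((SubMulAction.mem_ofStabilizer_iff X w).mp a.2))
      (Ne.symm ((SubMulAction.mem_ofStabilizer_iff X w).mp b.2))
    exact ⟨⟨⟨g, h1⟩, g.2⟩, Subtype.ext h2⟩⟩
  haveI : IsPretransitive M Ω' := ⟨fun a b => by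
    obtain ⟨g, hg⟩ := exists_smul_eq LW a b
    exact ⟨g, hg⟩⟩
  haveI : FaithfulSMul LW Ω' := ⟨fun {m m'} h => Subtype.ext
    (FaithfulSMul.eq_of_smul_eq_smul (α := Ω') fun y => h y)⟩
  have hLWcard : Nat.card LW = p * q := by
    rw [← hstab w]
    exact Nat.card_congr
      { toFun := fun g => ⟨⟨g.1.1, g.2⟩, g.1.2⟩
        invFun := fun g => ⟨⟨g.1.1, g.2⟩, g.1.2⟩
        left_inv := fun _ => rfl
        right_inv := fun _ => rfl }
  -- the Sylow subgroup
  obtain ⟨P₀⟩ := (Sylow.nonempty : Nonempty (Sylow p LW))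
  have hP₀card := card_sylow_of_faithful hΩ' P₀
  haveI hP₀n : (P₀ : Subgroup LW).Normal := by
    have h1 : Nat.card (Sylow p LW) ∣ q := by
      have h := P₀.card_dvd_index
      have h' := (P₀ : Subgroup LW).card_mul_index
      rw [hP₀card, hLWcard] at h'
      rwa [Nat.eq_of_mul_eq_mul_left hp.pos h'] at h
    have h2 := Nat.le_of_dvd (by omega) h1
    have h3 := card_sylow_modEq_one p LW
    rw [Nat.ModEq, Nat.mod_eq_of_lt (by omega), Nat.mod_eq_of_lt hp.one_lt] at h3
    haveI : Subsingleton (Sylow p LW) := (Nat.card_eq_one_iff_unique.mp h3).1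
    exact P₀.normal_of_subsingleton
  obtain ⟨P, hP⟩ := ((P₀.isPGroup').map LW.subtype).exists_le_sylow
  have hPeq : (P₀ : Subgroup LW).map LW.subtype = (P : Subgroup M) :=
    Subgroup.eq_of_le_of_card_ge hP (by
      rw [card_sylow_of_faithful hΩ' P, Subgroup.card_subtype, hP₀card])
  have hLWN : LW ≤ Subgroup.normalizer ((P : Subgroup M) : Set M) := by
    intro g hg
    rw [Subgroup.mem_normalizer_iff, ← hPeq]
    intro x
    constructor
    · rintro ⟨z, hz, rfl⟩
      exact ⟨⟨g, hg⟩ * z * ⟨g, hg⟩⁻¹, hP₀n.conj_mem z hz _, rfl⟩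
    · rintro ⟨z, hz, hzx⟩
      refine ⟨⟨g, hg⟩⁻¹ * z * ⟨g, hg⟩, hP₀n.conj_mem' z hz _, ?_⟩
      show g⁻¹ * (z : M) * g = x
      rw [show (z : M) = g * x * g⁻¹ from hzx]
      group
  have hN : p * (p - 1) ≤ 2 * Nat.card ↥(Subgroup.normalizer ((P : Subgroup M) : Set M)) := by
    have h1 := Subgroup.card_le_of_le hLWN
    rw [hLWcard] at h1
    rw [show p - 1 = 2 * q by omega, mul_left_comm]
    omega
  -- coordinates
  obtain ⟨x₀, e, he, hmult⟩ := exists_coords_normalizer hΩ' P₀
  rw [Subgroup.normalizer_eq_top, Subgroup.card_top, hLWcard] at hmult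
  have hCL : Nat.card (multGroup LW e) = q := by
    refine le_antisymm ?_ (Nat.le_of_mul_le_mul_left hmult hp.pos)
    have hst : Nat.card (stabilizer LW (e 0)) = q := by
      have h := (stabilizer LW (e 0)).card_mul_index
      rw [index_stabilizer_of_transitive LW (e 0), Nat.card_eq_fintype_card (α := Ω'), hΩ',
        hLWcard, mul_comm] at h
      exact Nat.eq_of_mul_eq_mul_left hp.pos h
    rw [← hst]
    refine Nat.card_le_card_of_injective (fun c => ⟨c.2.choose,
      mem_stabilizer_iff.mpr (by rw [c.2.choose_spec, mul_zero])⟩) fun c d h => ?_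
    have h' : c.2.choose = d.2.choose := congrArg Subtype.val h
    have h1 := c.2.choose_spec 1
    rw [h', d.2.choose_spec, mul_one, mul_one] at h1
    exact Subtype.ext (Units.ext (e.injective h1).symm)
  -- the point stabiliser is insoluble
  have hins : ¬ Group.IsSolvable M := by
    intro hsol
    haveI := sylow_normal_of_isSolvable hΩ' P
    obtain ⟨x₁, e₁, -, hmult₁⟩ := exists_coords_normalizer hΩ' P
    rw [Subgroup.normalizer_eq_top, Subgroup.card_top] at hmult₁
    have hnotfull : multGroup M e₁ ≠ ⊤ := by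
      intro htop
      obtain ⟨u, hu⟩ := IsCyclic.exists_generator (α := (ZMod p)ˣ)
      obtain ⟨g, hg⟩ : u ∈ multGroup M e₁ := htop ▸ Subgroup.mem_top u
      have h := sign_eq_neg_one_of_generator (by omega) hΩ (MulAction.toPerm (g : X)) w
        (fun j => (e₁ j).1) (fun i j h => e₁.injective (Subtype.ext h))
        (fun j => (SubMulAction.mem_ofStabilizer_iff X w).mp (e₁ j).2) g.2 u hu
        (fun j => congrArg Subtype.val (hg j))
      rw [heven] at h
      exact absurd h (by decide)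
    have hle : 2 * Nat.card (multGroup M e₁) ≤ p - 1 := by
      have h := (multGroup M e₁).card_mul_index
      rw [Nat.card_eq_fintype_card (α := (ZMod p)ˣ), ZMod.card_units] at h
      rw [← h, mul_comm]
      exact Nat.mul_le_mul_left _ (Subgroup.one_lt_index_of_ne_top hnotfull)
    have hMle : Nat.card M ≤ p * q :=
      hmult₁.trans (Nat.mul_le_mul_left p (by omega))
    have htop : LW = ⊤ := Subgroup.eq_top_of_card_eq LW
      (le_antisymm (Subgroup.card_le_card_group LW) (hLWcard ▸ hMle))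
    refine hLX ((Subgroup.eq_top_iff' L).mpr fun x => ?_)
    obtain ⟨l, hl⟩ := exists_smul_eq L w (x • w)
    have hmem : (l : X)⁻¹ * x ∈ M := by
      rw [hM, mem_stabilizer_iff, mul_smul, inv_smul_eq_iff]
      exact hl.symm
    have := Subgroup.mem_subgroupOf.mp (htop ▸ Subgroup.mem_top (⟨_, hmem⟩ : M) : _ ∈ LW)
    have := L.mul_mem l.2 this
    rwa [mul_inv_cancel_left] at this
  -- it suffices that the point stabiliser is triply transitive
  rw [show (4 : ℕ) = Nat.succ 3 from rfl, SubMulAction.ofStabilizer.isMultiplyPretransitive (a := w)]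
  rcases Nat.even_or_odd q with hqe | hqo
  · -- even normaliser
    let H : Subgroup (Equiv.Perm Ω') := (toPermHom M Ω').range
    let φ := MonoidHom.ofInjective (f := toPermHom M Ω') MulAction.toPerm_injective
    haveI : IsPretransitive H Ω' := ⟨fun a b => by
      obtain ⟨g, hg⟩ := exists_smul_eq M a b
      exact ⟨φ g, hg⟩⟩
    have hHins : ¬ Group.IsSolvable H := fun h => hins
      (Group.isSolvable_of_isSolvable_injective (f := φ.toMonoidHom) φ.injective)
    let P' : Sylow p H := Sylow.mapSurjective (f := φ.toMonoidHom) φ.surjective P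
    have heQ : Even (Nat.card (Subgroup.normalizer ((P' : Subgroup H) : Set H))) := by
      have hle : LW.map φ.toMonoidHom ≤
          Subgroup.normalizer ((P' : Subgroup H) : Set H) :=
        le_trans (Subgroup.map_mono hLWN) (Subgroup.le_normalizer_map _)
      refine even_iff_two_dvd.mpr (dvd_trans ?_ (Subgroup.card_dvd_of_le hle))
      rw [show Nat.card ↥(LW.map φ.toMonoidHom) = Nat.card LW from
        (Nat.card_congr (LW.equivMapOfInjective φ.toMonoidHom φ.injective).toEquiv).symm, hLWcard]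
      exact dvd_mul_of_dvd_right hqe.two_dvd p
    have h3 := Cfsg.Agent.S0676.result hΩ' H hHins P' heQ
    refine (isMultiplyPretransitive_iff).mpr fun a b => ?_
    obtain ⟨⟨_, g, rfl⟩, hg⟩ := (isMultiplyPretransitive_iff.mp h3) a b
    exact ⟨g, hg⟩
  -- `q` odd
  have h2M := (two_transitive_of_not_isSolvable' (G := M) hΩ' hins).1
  haveI hprim : IsPreprimitive ↥(stabilizer M (e 0)) ↥(SubMulAction.ofStabilizer M (e 0)) :=
    isPreprimitive_stabilizer_of_half hΩ' hins P hN hp7 (e 0)
  -- the pair stabiliser of `L`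
  set o : Ω := (e 0).1 with ho
  set one : Ω := (e 1).1 with hone
  have how : o ≠ w := (SubMulAction.mem_ofStabilizer_iff X w).mp (e 0).2
  have h1w : one ≠ w := (SubMulAction.mem_ofStabilizer_iff X w).mp (e 1).2
  have h1o : one ≠ o := fun h => one_ne_zero (e.injective (Subtype.ext h))
  obtain ⟨c, hc⟩ : ∃ c : multGroup LW e, ∀ d, d ∈ Subgroup.zpowers c :=
    IsCyclic.exists_generator
  obtain ⟨r', hr'⟩ := c.2
  let r : L := ⟨(r' : M).1, r'.2⟩
  have hr : ∀ j, r • (e j).1 = (e (((c : (ZMod p)ˣ) : ZMod p) * j)).1 :=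
    fun j => congrArg Subtype.val (hr' j)
  have hrw : r • w = w := (r' : M).2
  have hrpow : ∀ (n : ℕ) j, r ^ n • (e j).1 = (e ((((c ^ n : multGroup LW e) : (ZMod p)ˣ) : ZMod p) * j)).1 := by
    intro n
    induction n with
    | zero => intro j; simp
    | succ n ih =>
      intro j
      rw [pow_succ', mul_smul, ih, hr, pow_succ' c n, Subgroup.coe_mul, Units.val_mul, mul_assoc]
  have hrq : r ^ q = 1 := by
    have hcq : c ^ q = 1 := hCL ▸ pow_card_eq_one'
    refine Subtype.ext (FaithfulSMul.eq_of_smul_eq_smul (α := Ω) fun y => ?_)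
    show r ^ q • y = (1 : X) • y
    rw [one_smul]
    by_cases hy : y = w
    · rw [hy]
      exact (stabilizer L w).pow_mem (mem_stabilizer_iff.mpr hrw) q
    · obtain ⟨j, hj⟩ := e.surjective ⟨y, hy⟩
      have hj' : (e j).1 = y := congrArg Subtype.val hj
      rw [← hj', hrpow, hcq]
      simp
  -- every element of `L` interchanging `w` and `o` is an involution without fixed points
  have hswap : ∀ t : L, t • w = o → t • o = w → t * t = 1 := by
    intro t h1 h2
    have hsq : t * t ∈ stabilizer L w ⊓ stabilizer L o :=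
      ⟨show (t * t) • w = w by rw [mul_smul, h1, h2],
        show (t * t) • o = o by rw [mul_smul, h2, h1]⟩
    have hcard : Nat.card ↥(stabilizer L w ⊓ stabilizer L o : Subgroup L) = q := by
      have e' : ↥(stabilizer L w ⊓ stabilizer L o : Subgroup L) ≃ stabilizer LW (e 0) :=
        { toFun := fun g => ⟨⟨⟨g.1.1, g.2.1⟩, g.1.2⟩, Subtype.ext g.2.2⟩
          invFun := fun g => ⟨⟨g.1.1.1, g.1.2⟩, g.1.1.2, congrArg Subtype.val g.2⟩
          left_inv := fun _ => rfl
          right_inv := fun _ => rfl }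
      rw [Nat.card_congr e']
      have h := (stabilizer LW (e 0)).card_mul_index
      rw [index_stabilizer_of_transitive LW (e 0), Nat.card_eq_fintype_card (α := Ω'), hΩ',
        hLWcard, mul_comm] at h
      exact Nat.eq_of_mul_eq_mul_left hp.pos h
    have hd1 : orderOf t ∣ 2 * q := by
      rw [orderOf_dvd_iff_pow_eq_one, pow_mul, pow_two]
      have := Subgroup.orderOf_dvd_natCard _ hsq
      rw [hcard] at this
      exact orderOf_dvd_iff_pow_eq_one.mp this
    have hd2 : 2 ∣ orderOf t := by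
      by_contra hodd
      have ht : t ∈ Subgroup.zpowers (t * t) := by
        obtain ⟨m, hm⟩ := Nat.odd_iff.mpr (by omega : orderOf t % 2 = 1)
        refine ⟨((m + 1 : ℕ) : ℤ), ?_⟩
        show (t * t) ^ ((m + 1 : ℕ) : ℤ) = t
        rw [zpow_natCast, ← pow_two, ← pow_mul, show 2 * (m + 1) = orderOf t + 1 by omega,
          pow_succ, pow_orderOf_eq_one, one_mul]
      have : t • w = w := (Subgroup.zpowers_le.mpr hsq.1 ht : t ∈ stabilizer L w)
      exact how (h1.symm.trans this)
    obtain ⟨m, hm⟩ := hd2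
    have hmq : m ∣ q := by
      rw [hm] at hd1
      exact Nat.dvd_of_mul_dvd_mul_left two_pos hd1
    have hrange : orderOf (ψ t) ∈ Set.range
        (orderOf : Matrix.ProjectiveSpecialLinearGroup (Fin 2) (ZMod p) → ℕ) := ⟨_, rfl⟩
    rw [Cfsg.Agent.S2475.result p (by rw [ZMod.card]; omega), Set.mem_setOf_eq, ZMod.card,
      MulEquiv.orderOf_eq, hm] at hrange
    rw [show Nat.gcd 2 (p - 1) = 2 from Nat.gcd_eq_left ⟨q, by omega⟩,
      show (p - 1) / 2 = q by omega, show (p + 1) / 2 = q + 1 by omega] at hrange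
    have hm1 : m = 1 := by
      rcases hrange with h | h | h
      · rcases hp.eq_two_or_odd with h' | h'
        · omega
        · exact absurd ((dvd_mul_right 2 m).trans h) (by omega)
      · obtain ⟨j, hj⟩ := hqo
        exact absurd ((dvd_mul_right 2 m).trans h) (by omega)
      · exact Nat.eq_one_of_dvd_one ((Nat.dvd_add_right hmq).mp ((dvd_mul_left m 2).trans h))
    rw [← pow_two, show (2 : ℕ) = orderOf t by rw [hm, hm1]]
    exact pow_orderOf_eq_one t
  have hswapfix : ∀ t : L, t • w = o → t • o = w → ∀ y : Ω, t • y ≠ y := by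
    intro t h1 h2 y hy
    have hto : orderOf t = 2 := orderOf_eq_prime (by rw [pow_two]; exact hswap t h1 h2)
      (fun h => how (by rw [← h1, h, one_smul]))
    have hd := Subgroup.orderOf_dvd_natCard (stabilizer L y) (mem_stabilizer_iff.mpr hy)
    rw [hto, hstab y] at hd
    obtain ⟨j, hj⟩ := hqo
    rcases Nat.prime_two.dvd_mul.mp hd with h | h <;> omega
  obtain ⟨s, hsw, hso⟩ := h2L how.symm how
  have hsr : s * r * s = r⁻¹ := by
    have hfix : (r : L) • w = w ∧ (r : L) • o = o := ⟨hrw, by rw [ho, hr, mul_zero]⟩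
    have h := hswap (s * r) (by rw [mul_smul, hfix.1, hsw]) (by rw [mul_smul, hfix.2, hso])
    exact eq_inv_of_mul_eq_one_left (by rw [← h]; group)
  have hss : s * s = 1 := hswap s hsw hso
  -- the dihedral group
  have hrz : ∀ (a : ℤ), s * r ^ a = r ^ (-a) * s := by
    intro a
    have h1 : MulAut.conj s r = r⁻¹ := by
      rw [MulAut.conj_apply, inv_eq_of_mul_eq_one_right hss, hsr]
    have h2 : MulAut.conj s (r ^ a) = r ^ (-a) := by rw [map_zpow, h1, inv_zpow, zpow_neg]
    rw [MulAut.conj_apply, mul_inv_eq_iff_eq_mul] at h2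
    exact h2
  have hrcast : ∀ i j : ℤ, (i : ZMod q) = (j : ZMod q) → r ^ i = r ^ j := by
    intro i j h
    obtain ⟨t, ht⟩ := (ZMod.intCast_eq_intCast_iff_dvd_sub i j q).mp h
    rw [show j = i + (q : ℤ) * t by omega, zpow_add, zpow_mul, zpow_natCast, hrq, one_zpow,
      mul_one]
  let f : DihedralGroup q → L := fun k => match k with
    | .r i => r ^ (i.val : ℤ)
    | .sr i => s * r ^ (i.val : ℤ)
  have hf : ∀ a b, f (a * b) = f a * f b := by
    rintro (i | i) (j | j) <;>
      simp only [f, DihedralGroup.r_mul_r, DihedralGroup.r_mul_sr, DihedralGroup.sr_mul_r,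
        DihedralGroup.sr_mul_sr]
    · rw [← zpow_add]
      exact hrcast _ _ (by push_cast; simp)
    · rw [← mul_assoc, ← neg_neg (i.val : ℤ), ← hrz, mul_assoc, ← zpow_add]
      congr 1
      exact hrcast _ _ (by push_cast; simp [sub_eq_neg_add])
    · rw [mul_assoc, ← zpow_add]
      congr 1
      exact hrcast _ _ (by push_cast; simp)
    · rw [mul_assoc, ← mul_assoc (r ^ (i.val : ℤ)), ← neg_neg (i.val : ℤ), ← hrz, ← mul_assoc,
        ← mul_assoc, hss, one_mul, ← zpow_add]
      exact hrcast _ _ (by push_cast; simp [sub_eq_neg_add])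
  have hfr : ∀ i, f (.r i) • w = w ∧ f (.r i) • o = o := fun i =>
    ⟨(stabilizer L w).zpow_mem (mem_stabilizer_iff.mpr hrw) _,
      (stabilizer L o).zpow_mem (mem_stabilizer_iff.mpr (by rw [ho, hr, mul_zero])) _⟩
  have hfsr : ∀ i, f (.sr i) • w = o ∧ f (.sr i) • o = w := fun i => by
    show (s * r ^ (i.val : ℤ)) • w = o ∧ (s * r ^ (i.val : ℤ)) • o = w
    rw [mul_smul, mul_smul]
    exact ⟨((congrArg (s • ·) (hfr i).1).trans hsw), ((congrArg (s • ·) (hfr i).2).trans hso)⟩
  have hfix1 : ∀ k, f k • one = one → k = 1 := by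
    rintro (i | i) h
    · have h' : r ^ i.val • one = one := by rw [← zpow_natCast]; exact h
      rw [hone, hrpow, mul_one] at h'
      have hci : c ^ i.val = 1 := Subtype.ext (Units.ext (e.injective (Subtype.ext h')))
      have hoc : orderOf c = q := by rw [orderOf_eq_card_of_forall_mem_zpowers hc, hCL]
      have hdvd := orderOf_dvd_iff_pow_eq_one.mpr hci
      rw [hoc] at hdvd
      have := Nat.eq_zero_of_dvd_of_lt hdvd (ZMod.val_lt i)
      rw [(ZMod.val_eq_zero i).mp this]
      rfl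
    · exact absurd h (hswapfix _ (hfsr i).1 (hfsr i).2 one)
  -- the setwise stabiliser of the pair
  let G2 : Subgroup X :=
    { carrier := {g | (g • w = w ∧ g • o = o) ∨ (g • w = o ∧ g • o = w)}
      one_mem' := Or.inl ⟨one_smul _ _, one_smul _ _⟩
      mul_mem' := fun {a b} ha hb => by
        rcases ha with ⟨a1, a2⟩ | ⟨a1, a2⟩ <;> rcases hb with ⟨b1, b2⟩ | ⟨b1, b2⟩ <;>
          simp only [Set.mem_setOf_eq, mul_smul, b1, b2, a1, a2, true_and, and_true, true_or,
            or_true]
      inv_mem' := fun {a} ha => by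
        rcases ha with ⟨a1, a2⟩ | ⟨a1, a2⟩
        · exact Or.inl ⟨inv_smul_eq_iff.mpr a1.symm, inv_smul_eq_iff.mpr a2.symm⟩
        · exact Or.inr ⟨inv_smul_eq_iff.mpr a2.symm, inv_smul_eq_iff.mpr a1.symm⟩ }
  have hG2 : ∀ g ∈ G2, ∀ y, y ≠ w → y ≠ o → g • y ≠ w ∧ g • y ≠ o := by
    rintro g (⟨g1, g2⟩ | ⟨g1, g2⟩) y hyw hyo
    · exact ⟨fun h => hyw (MulAction.injective g (h.trans g1.symm)),
        fun h => hyo (MulAction.injective g (h.trans g2.symm))⟩
    · exact ⟨fun h => hyo (MulAction.injective g (h.trans g2.symm)),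
        fun h => hyw (MulAction.injective g (h.trans g1.symm))⟩
  have hfG2 : ∀ k, (f k : X) ∈ G2 := by
    rintro (i | i)
    · exact Or.inl (hfr i)
    · exact Or.inr (hfsr i)
  let Y := {y : Ω // y ≠ w ∧ y ≠ o}
  have hYcard : Fintype.card Y = p - 1 := by
    have h : (Finset.univ.filter fun y : Ω => y ≠ w ∧ y ≠ o) = Finset.univ \ {w, o} := by
      ext y; simp
    rw [Fintype.card_subtype, h, Finset.card_sdiff_of_subset (Finset.subset_univ _),
      Finset.card_pair how.symm, Finset.card_univ, hΩ]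
    omega
  let φ₀ : DihedralGroup q → Y := fun k => ⟨f k • one, hG2 _ (hfG2 k) one h1w h1o⟩
  have hφ₀ : Function.Bijective φ₀ := by
    refine (Fintype.bijective_iff_injective_and_card φ₀).mpr ⟨fun a b h => ?_, ?_⟩
    · have h' : f a • one = f b • one := congrArg Subtype.val h
      have h2 : f (b⁻¹ * a) • one = one := by
        have hfinv : f b⁻¹ * f b = 1 := by
          rw [← hf, inv_mul_cancel]
          show r ^ (((0 : ZMod q)).val : ℤ) = 1
          simp
        rw [hf, mul_smul, h', ← mul_smul, hfinv, one_smul]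
      exact (inv_mul_eq_one.mp (hfix1 _ h2)).symm
    · rw [DihedralGroup.card, hYcard]; omega
  let φ := Equiv.ofBijective φ₀ hφ₀
  letI actY : MulAction G2 Y :=
    { smul := fun g y => ⟨(g : X) • y.1, hG2 g g.2 y.1 y.2.1 y.2.2⟩
      one_smul := fun y => Subtype.ext (one_smul X y.1)
      mul_smul := fun g h y => Subtype.ext (mul_smul (g : X) (h : X) y.1) }
  have hactY : ∀ (g : G2) (y : Y), (g • y).1 = (g : X) • y.1 := fun g y => rfl
  letI act : MulAction G2 (DihedralGroup q) :=
    { smul := fun g k => φ.symm (g • φ k)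
      one_smul := fun k => by
        show φ.symm ((1 : G2) • φ k) = k
        rw [one_smul, Equiv.symm_apply_apply]
      mul_smul := fun g h k => by
        show φ.symm ((g * h) • φ k) = φ.symm (g • φ (φ.symm (h • φ k)))
        rw [Equiv.apply_symm_apply, mul_smul] }
  have hact : ∀ (g : G2) k, (φ (g • k)).1 = (g : X) • (φ k).1 := fun g k => by
    show (φ (φ.symm (g • φ k))).1 = _
    rw [Equiv.apply_symm_apply, hactY]
  have htrans : CfsgLib.DihB.Trans G2 (DihedralGroup q) := fun k => ⟨⟨f k, hfG2 k⟩, fun x => by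
    apply φ.injective
    apply Subtype.ext
    rw [hact]
    show (f k : X) • (f x : X) • one = (f (k * x) : X) • one
    rw [hf, Subgroup.coe_mul, mul_smul]⟩
  -- it is primitive
  have hS : ∀ y : ↥(SubMulAction.ofStabilizer M (e 0)), y.1.1 ≠ w ∧ y.1.1 ≠ o := fun y =>
    ⟨(SubMulAction.mem_ofStabilizer_iff X w).mp y.1.2,
      fun h => (SubMulAction.mem_ofStabilizer_iff M (e 0)).mp y.2 (Subtype.ext h)⟩
  let incl : stabilizer M (e 0) → G2 := fun g =>
    ⟨g.1.1, Or.inl ⟨g.1.2, congrArg Subtype.val g.2⟩⟩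
  let F : ↥(SubMulAction.ofStabilizer M (e 0)) →ₑ[incl] DihedralGroup q :=
    { toFun := fun y => φ.symm ⟨y.1.1, hS y⟩
      map_smul' := fun g y => by
        apply φ.injective
        apply Subtype.ext
        rw [hact, Equiv.apply_symm_apply, Equiv.apply_symm_apply]
        rfl }
  haveI : IsPreprimitive G2 (DihedralGroup q) := IsPreprimitive.of_surjective (f := F) (by
    intro k
    refine ⟨⟨⟨(φ k).1, (SubMulAction.mem_ofStabilizer_iff X w).mpr (φ k).2.1⟩,
      (SubMulAction.mem_ofStabilizer_iff M (e 0)).mpr fun h => (φ k).2.2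
        (congrArg Subtype.val h)⟩, ?_⟩
    show φ.symm _ = k
    rw [Equiv.symm_apply_eq])
  -- transitivity off three points
  have hthree : ∀ y z, y ≠ w → y ≠ o → y ≠ one → z ≠ w → z ≠ o → z ≠ one →
      ∃ g : X, g • w = w ∧ g • o = o ∧ g • one = one ∧ g • y = z := by
    let G3 : Subgroup X := G2 ⊓ stabilizer X one
    let Z := {y : Ω // y ≠ w ∧ y ≠ o ∧ y ≠ one}
    letI actZ : MulAction G3 Z :=
      { smul := fun g y => ⟨(g : X) • y.1, (hG2 g g.2.1 y.1 y.2.1 y.2.2.1).1,
          (hG2 g g.2.1 y.1 y.2.1 y.2.2.1).2, fun h => y.2.2.2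
            (MulAction.injective (g : X) (h.trans (g.2.2 : (g : X) • one = one).symm))⟩
        one_smul := fun y => Subtype.ext (one_smul X y.1)
        mul_smul := fun g h y => Subtype.ext (mul_smul (g : X) (h : X) y.1) }
    have hZ : Odd (Fintype.card Z) := by
      have h : (Finset.univ.filter fun y : Ω => y ≠ w ∧ y ≠ o ∧ y ≠ one) =
          Finset.univ \ {w, o, one} := by
        ext y; simp
      rw [Fintype.card_subtype, h, Finset.card_sdiff_of_subset (Finset.subset_univ _),
        Finset.card_insert_of_notMem (by simp [how.symm, h1w.symm]),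
        Finset.card_pair h1o.symm, Finset.card_univ, hΩ]
      exact ⟨q - 1, by omega⟩
    intro y z hyw hyo hy1 hzw hzo hz1
    obtain ⟨g, ⟨g1, g2⟩, hg⟩ := transitive_of_index_two (G := G3) (Y := Z) hZ Set.univ
      {g | (g : X) • w = w ∧ (g : X) • o = o} ⟨one_smul _ _, one_smul _ _⟩
      (fun g hg => ⟨inv_smul_eq_iff.mpr hg.1.symm, inv_smul_eq_iff.mpr hg.2.symm⟩)
      (fun a ha b hb => ⟨by rw [Subgroup.coe_mul, mul_smul, hb.1, ha.1],
        by rw [Subgroup.coe_mul, mul_smul, hb.2, ha.2]⟩)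
      (fun a _ ha b _ hb => by
        obtain ⟨a1, a2⟩ := (a.2.1 : (a : X) ∈ G2).resolve_left ha
        obtain ⟨b1, b2⟩ := (b.2.1 : (b : X) ∈ G2).resolve_left hb
        exact ⟨by rw [Subgroup.coe_mul, Subgroup.coe_inv, mul_smul, b1, inv_smul_eq_iff, a1],
          by rw [Subgroup.coe_mul, Subgroup.coe_inv, mul_smul, b2, inv_smul_eq_iff, a2]⟩)
      (fun a _ h hh => by
        show (↑(a * h * a⁻¹) : X) • w = w ∧ (↑(a * h * a⁻¹) : X) • o = o
        rw [Subgroup.coe_mul, Subgroup.coe_mul, Subgroup.coe_inv]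
        simp only [mul_smul]
        rcases (a.2.1 : (a : X) ∈ G2) with ⟨a1, a2⟩ | ⟨a1, a2⟩
        · rw [inv_smul_eq_iff.mpr a1.symm, inv_smul_eq_iff.mpr a2.symm, hh.1, hh.2]
          exact ⟨a1, a2⟩
        · rw [inv_smul_eq_iff.mpr a2.symm, inv_smul_eq_iff.mpr a1.symm, hh.1, hh.2]
          exact ⟨a2, a1⟩)
      (fun u v => by
        obtain ⟨k, hk⟩ := φ.surjective ⟨u.1, u.2.1, u.2.2.1⟩
        obtain ⟨l, hl⟩ := φ.surjective ⟨v.1, v.2.1, v.2.2.1⟩
        have hφ1 : (φ 1).1 = one := by
          show ((r ^ (((0 : ZMod q)).val : ℤ) : L) : X) • one = one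
          simp
        have hk1 : k ≠ 1 := fun h => u.2.2.2
          ((congrArg Subtype.val hk).symm.trans ((congrArg (fun z => (φ z).1) h).trans hφ1))
        have hl1 : l ≠ 1 := fun h => v.2.2.2
          ((congrArg Subtype.val hl).symm.trans ((congrArg (fun z => (φ z).1) h).trans hφ1))
        obtain ⟨g, hg1, hgk⟩ := CfsgLib.DihB.transitive_stabilizer htrans (by omega) hk1 hl1
        have hgone : (g : X) • one = one := by
          have := hact g 1
          rw [hg1, hφ1] at this
          exact this.symm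
        refine ⟨⟨g, g.2, hgone⟩, Set.mem_univ _, Subtype.ext ?_⟩
        show (g : X) • u.1 = v.1
        have := hact g k
        rw [hgk, hl, hk] at this
        exact this.symm)
      ⟨y, hyw, hyo, hy1⟩ ⟨z, hzw, hzo, hz1⟩
    exact ⟨g, g1, g2, g.2.2, congrArg Subtype.val hg⟩
  -- triple transitivity of the point stabiliser
  have h2t : ∀ {a b c d : Ω'}, a ≠ b → c ≠ d → ∃ g : M, g • a = c ∧ g • b = d :=
    fun {a b c d} h h' => is_two_pretransitive_iff.mp h2M h h'
  have h01 : e 0 ≠ e 1 := e.injective.ne zero_ne_one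
  have key : ∀ u : Fin 3 ↪ Ω', ∃ g : M, g • u 0 = e 0 ∧ g • u 1 = e 1 ∧
      ∀ y : Ω', y ≠ e 0 → y ≠ e 1 → ∃ k : M, k • e 0 = e 0 ∧ k • e 1 = e 1 ∧ k • g • u 2 = y := by
    intro u
    obtain ⟨g, hg0, hg1⟩ := h2t (u.injective.ne (by decide : (0 : Fin 3) ≠ 1)) h01
    refine ⟨g, hg0, hg1, fun y hy0 hy1 => ?_⟩
    have hz0 : g • u 2 ≠ e 0 := fun h => u.injective.ne (by decide : (2 : Fin 3) ≠ 0)
      (MulAction.injective g (h.trans hg0.symm))
    have hz1 : g • u 2 ≠ e 1 := fun h => u.injective.ne (by decide : (2 : Fin 3) ≠ 1)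
      (MulAction.injective g (h.trans hg1.symm))
    obtain ⟨k, k1, k2, k3, k4⟩ := hthree (g • u 2).1 y.1
      ((SubMulAction.mem_ofStabilizer_iff X w).mp (g • u 2).2) (fun h => hz0 (Subtype.ext h))
      (fun h => hz1 (Subtype.ext h)) ((SubMulAction.mem_ofStabilizer_iff X w).mp y.2)
      (fun h => hy0 (Subtype.ext h)) (fun h => hy1 (Subtype.ext h))
    exact ⟨⟨k, k1⟩, Subtype.ext k2, Subtype.ext k3, Subtype.ext k4⟩
  refine (isMultiplyPretransitive_iff).mpr fun u v => ?_
  obtain ⟨g, g0, g1, -⟩ := key v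
  obtain ⟨h, h0, h1, hk⟩ := key u
  obtain ⟨k, k0, k1, k2⟩ := hk (g • v 2)
    (fun he' => v.injective.ne (by decide : (2 : Fin 3) ≠ 0) (MulAction.injective g (he'.trans g0.symm)))
    (fun he' => v.injective.ne (by decide : (2 : Fin 3) ≠ 1) (MulAction.injective g (he'.trans g1.symm)))
  refine ⟨g⁻¹ * (k * h), ?_⟩
  ext i
  show ((g⁻¹ * (k * h)) • u i).1 = (v i).1
  apply congrArg Subtype.val
  rw [mul_smul, mul_smul, inv_smul_eq_iff]
  fin_cases i
  · exact ((congrArg (k • ·) h0).trans k0).trans g0.symm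
  · exact ((congrArg (k • ·) h1).trans k1).trans g1.symm
  · exact k2

end CfsgLib.Perm
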