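import Mathlib.LinearAlgebra.Matrix.GeneralLinearGroup.Defs
import Mathlib.LinearAlgebra.Matrix.ToLinearEquiv
import Mathlib.LinearAlgebra.Matrix.Notation
import Mathlib.Algebra.Field.ZMod
import Mathlib.GroupTheory.OrderOfElement
import Mathlib.GroupTheory.Coset.Card
import Mathlib.Data.List.GetD
import Mathlib.Tactic

/-!
Certificates for subgroups of `GL(2, p)` regular on the nonzero vectors.
-/

set_option autoImplicit false
set_option linter.style.haveILetI false

namespace CfsgLib.Perm.MatrixClosure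

open Matrix

/-- A two by two matrix modulo `p` as four natural numbers. -/
abbrev Q := ℕ × ℕ × ℕ × ℕ

/-- The code of the identity. -/
def one : Q := (1, 0, 0, 1)

/-- Product of codes. -/
def mulc (p : ℕ) : Q → Q → Q
  | (a, b, c, d), (a', b', c', d') =>
    ((a * a' + b * c') % p, (a * b' + b * d') % p, (c * a' + d * c') % p, (c * b' + d * d') % p)

/-- Whether `s` times the coded matrix has no fixed vector. -/
def free (p s : ℕ) : Q → Bool
  | (a, b, c, d) => ((a * s + (p - 1)) * (d * s + (p - 1))) % p != (b * s * (c * s)) % p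

/-- Builds the element list from a certificate of parent pointers. -/
def build (p : ℕ) (gs : List Q) : List (ℕ × ℕ) → List Q → List Q
  | [], acc => acc
  | (i, j) :: r, acc => build p gs r (acc ++ [mulc p (gs.getD i one) (acc.getD j one)])

/-- The finite checks. -/
def check (p : ℕ) (gs : List Q) (L : List Q) (c m : ℕ) : Bool :=
  (gs.all fun g => L.all fun x => L.contains (mulc p g x)) &&
  (L.all fun x => (List.range m).all fun i => (x == one && i == 0) || free p (c ^ i % p) x) &&
  (c ^ m % p == 1) && (L.length * m + 1 == p * p) && L.Nodup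

variable {p : ℕ} [Fact p.Prime]

/-- The code of a matrix. -/
def code (M : Matrix (Fin 2) (Fin 2) (ZMod p)) : Q :=
  ((M 0 0).val, (M 0 1).val, (M 1 0).val, (M 1 1).val)

theorem code_mul (M N : Matrix (Fin 2) (Fin 2) (ZMod p)) : code (M * N) = mulc p (code M) (code N) := by
  simp [code, mulc, Matrix.mul_apply, ZMod.val_add, ZMod.val_mul, Nat.add_mod, Nat.mul_mod]

theorem code_one : code (1 : Matrix (Fin 2) (Fin 2) (ZMod p)) = one := by
  simp [code, one, ZMod.val_one p]

theorem code_injective : Function.Injective (code (p := p)) := by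
  intro M N h
  simp only [code, Prod.mk.injEq] at h
  obtain ⟨h1, h2, h3, h4⟩ := h
  ext i j
  fin_cases i <;> fin_cases j
  · exact ZMod.val_injective p h1
  · exact ZMod.val_injective p h2
  · exact ZMod.val_injective p h3
  · exact ZMod.val_injective p h4

local notation "GL2" => Matrix.GeneralLinearGroup (Fin 2) (ZMod p)

theorem mem_build (gens : List GL2) (gs : List Q) (hgs : gens.map (fun g : GL2 => code g.1) = gs) :
    ∀ (cert : List (ℕ × ℕ)) (acc : List Q),
      (∀ x ∈ acc, ∃ g ∈ Subgroup.closure {g | g ∈ gens}, code (g : GL2).1 = x) →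
      ∀ x ∈ build p gs cert acc, ∃ g ∈ Subgroup.closure {g | g ∈ gens}, code (g : GL2).1 = x := by
  intro cert
  induction cert with
  | nil => intro acc h x hx; exact h x hx
  | cons ij r ih =>
    intro acc h x hx
    obtain ⟨i, j⟩ := ij
    refine ih _ (fun y hy => ?_) x hx
    rcases List.mem_append.1 hy with hy | hy
    · exact h y hy
    rw [List.mem_singleton] at hy
    subst hy
    have hacc : ∃ g ∈ Subgroup.closure {g | g ∈ gens}, code (g : GL2).1 = acc.getD j one := by
      by_cases hj : j < acc.length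
      · rw [List.getD_eq_getElem _ _ hj]
        exact h _ (List.getElem_mem hj)
      · rw [List.getD_eq_default _ _ (by omega)]
        exact ⟨1, one_mem _, code_one⟩
    have hgen : ∃ g ∈ Subgroup.closure {g | g ∈ gens}, code (g : GL2).1 = gs.getD i one := by
      by_cases hi : i < gs.length
      · rw [List.getD_eq_getElem _ _ hi]
        subst hgs
        rw [List.getElem_map]
        exact ⟨_, Subgroup.subset_closure (List.getElem_mem _), rfl⟩
      · rw [List.getD_eq_default _ _ (by omega)]
        exact ⟨1, one_mem _, code_one⟩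
    obtain ⟨a, ha, ha'⟩ := hacc
    obtain ⟨b, hb, hb'⟩ := hgen
    exact ⟨b * a, mul_mem hb ha, by rw [Units.val_mul, code_mul, ha', hb']⟩

/-- A certified generating set of a group regular on nonzero vectors. -/
theorem regular_closure (gens : List GL2) (C : GL2) (c m : ℕ) (hC : C.1 = (c : ZMod p) • 1)
    (cert : List (ℕ × ℕ)) (gs : List Q) (hgs : gens.map (fun g : GL2 => code g.1) = gs)
    (hcheck : check p gs (build p gs cert [one]) c m = true) :
    Nat.card (Subgroup.closure ({g | g ∈ gens} ∪ {C} : Set GL2)) = p * p - 1 ∧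
      ∀ v w : Fin 2 → ZMod p, v ≠ 0 → w ≠ 0 →
        ∃! h : Subgroup.closure ({g | g ∈ gens} ∪ {C} : Set GL2), Matrix.mulVec ((h : GL2).1) v = w := by
  classical
  set L := build p gs cert [one] with hL
  simp only [check, Bool.and_eq_true, List.all_eq_true, List.contains_iff_mem, Bool.or_eq_true,
    beq_iff_eq, List.mem_range, decide_eq_true_eq] at hcheck
  obtain ⟨⟨⟨⟨hclosed, hfree⟩, hcm⟩, hcount⟩, hnodup⟩ := hcheck
  set S : Subgroup GL2 := Subgroup.closure {g | g ∈ gens}
  have hsub : ∀ x ∈ L, ∃ g ∈ S, code (g : GL2).1 = x :=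
    mem_build gens gs hgs cert [one] fun x hx => ⟨1, one_mem _, by
      rw [List.mem_singleton.1 hx]; exact code_one⟩
  have hm : 0 < m := by
    rcases Nat.eq_zero_or_pos m with rfl | h
    · have := (Fact.out : p.Prime).two_le
      nlinarith
    · exact h
  have hone : one ∈ L := by
    have key : ∀ (r : List (ℕ × ℕ)) (acc : List Q), one ∈ acc → one ∈ build p gs r acc := by
      intro r
      induction r with
      | nil => intro acc h; exact h
      | cons ij r ih => intro acc h; exact ih _ (List.mem_append_left _ h)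
    exact key cert [one] (List.mem_singleton.2 rfl)
  have hmem : ∀ g ∈ S, ∀ x : GL2, code x.1 ∈ L → code (g * x).1 ∈ L := by
    intro g hg
    have hmon : g ∈ Submonoid.closure {g : GL2 | g ∈ gens} := by
      rw [← Subgroup.closure_toSubmonoid_of_finite]
      exact hg
    induction hmon using Submonoid.closure_induction with
    | mem g hg' =>
      intro x hx
      rw [Units.val_mul, code_mul]
      exact hclosed _ (hgs ▸ List.mem_map.2 ⟨g, hg', rfl⟩) _ hx
    | one => intro x hx; rwa [one_mul]
    | mul a b ha hb iha ihb =>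
      intro x hx
      rw [mul_assoc]
      exact iha (Subgroup.closure_toSubmonoid_of_finite.symm.le ha) _
        (ihb (Subgroup.closure_toSubmonoid_of_finite.symm.le hb) x hx)
  have hcodeS : ∀ g ∈ S, code (g : GL2).1 ∈ L := fun g hg => by
    have := hmem g hg 1 (by rw [Units.val_one, code_one]; exact hone)
    rwa [mul_one] at this
  have hCpow : ∀ i : ℕ, (C ^ i).1 = ((c ^ i % p : ℕ) : ZMod p) • (1 : Matrix (Fin 2) (Fin 2) (ZMod p)) := by
    intro i
    rw [Units.val_pow_eq_pow_val, hC, smul_pow, one_pow, ZMod.natCast_mod, Nat.cast_pow]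
  have hCm : C ^ m = 1 := Units.ext (by rw [hCpow, hcm, Nat.cast_one, one_smul, Units.val_one])
  haveI hCn : (Subgroup.zpowers C).Normal := ⟨fun x hx g => by
    have hcg : Commute g C := Units.ext (by
      rw [Units.val_mul, Units.val_mul, hC, Matrix.smul_mul, Matrix.mul_smul, one_mul, mul_one])
    obtain ⟨i, rfl⟩ := hx
    show g * C ^ i * g⁻¹ ∈ _
    rw [(hcg.zpow_right i).eq, mul_inv_cancel_right]
    exact ⟨i, rfl⟩⟩
  set H : Subgroup GL2 := Subgroup.closure ({g | g ∈ gens} ∪ {C} : Set GL2)
  have hH : H = S ⊔ Subgroup.zpowers C := by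
    rw [Subgroup.zpowers_eq_closure]
    exact Subgroup.closure_union _ _
  have hdecomp : ∀ h ∈ H, ∃ g ∈ S, ∃ i < m, h = g * C ^ i := by
    intro h hh
    rw [hH, Subgroup.mem_sup_of_normal_right] at hh
    obtain ⟨g, hg, y, ⟨i, rfl⟩, rfl⟩ := hh
    refine ⟨g, hg, (i % m).toNat, ?_, ?_⟩
    · have h1 := Int.emod_nonneg i (show (m : ℤ) ≠ 0 by omega)
      have h2 := Int.emod_lt_of_pos i (show (0 : ℤ) < m by omega)
      omega
    · show g * C ^ i = _
      rw [← zpow_natCast, Int.toNat_of_nonneg (Int.emod_nonneg i (show (m : ℤ) ≠ 0 by omega))]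
      congr 1
      conv_lhs => rw [← Int.emod_add_mul_ediv i m, zpow_add, zpow_mul, zpow_natCast, hCm, one_zpow, mul_one]
  have hfix : ∀ g ∈ S, ∀ i < m, ∀ v : Fin 2 → ZMod p, v ≠ 0 → (g * C ^ i : GL2).1 *ᵥ v = v →
      g = 1 ∧ i = 0 := by
    intro g hg i hi v hv hvfix
    rcases hfree _ (hcodeS g hg) i hi with ⟨h1, h2⟩ | hf
    · exact ⟨Units.ext (code_injective (h1.trans code_one.symm)), h2⟩
    exfalso
    have hz : ((g * C ^ i : GL2).1 - 1) *ᵥ v = 0 := by
      rw [Matrix.sub_mulVec, Matrix.one_mulVec, hvfix, sub_self]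
    have hdet := Matrix.exists_mulVec_eq_zero_iff.1 ⟨v, hv, hz⟩
    rw [Units.val_mul, hCpow, Matrix.mul_smul, mul_one, Matrix.det_fin_two, sub_eq_zero] at hdet
    simp only [Matrix.sub_apply, Matrix.smul_apply, Matrix.one_apply_eq, smul_eq_mul,
      Matrix.one_apply_ne (show (0 : Fin 2) ≠ 1 by decide),
      Matrix.one_apply_ne (show (1 : Fin 2) ≠ 0 by decide), sub_zero] at hdet
    simp only [free, code, bne_iff_ne] at hf
    apply hf
    rw [← ZMod.natCast_eq_natCast_iff']
    have hp1 : ((p - 1 : ℕ) : ZMod p) = -1 := by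
      rw [Nat.cast_sub (Fact.out : p.Prime).one_le, ZMod.natCast_self, zero_sub, Nat.cast_one]
    simp only [Nat.cast_mul, Nat.cast_add, hp1, ZMod.natCast_zmod_val]
    linear_combination hdet
  have hfree' : ∀ h : H, ∀ v : Fin 2 → ZMod p, v ≠ 0 → (h : GL2).1 *ᵥ v = v → h = 1 := by
    intro h v hv hvfix
    obtain ⟨g, hg, i, hi, hgi⟩ := hdecomp h.1 h.2
    rw [hgi] at hvfix
    obtain ⟨rfl, rfl⟩ := hfix g hg i hi v hv hvfix
    exact Subtype.ext (by rw [hgi, pow_zero, one_mul]; rfl)
  -- injectivity
  have hv0 : (![1, 0] : Fin 2 → ZMod p) ≠ 0 := fun h => one_ne_zero (congrFun h 0)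
  have hcard : Nat.card H = L.length * m := by
    let f : {x // x ∈ L} × Fin m → H := fun xi => ⟨(hsub xi.1 xi.1.2).choose * C ^ (xi.2 : ℕ), by
      rw [hH]
      exact mul_mem (Subgroup.mem_sup_left (hsub xi.1 xi.1.2).choose_spec.1)
        (Subgroup.mem_sup_right (pow_mem (Subgroup.mem_zpowers C) _))⟩
    have hf : Function.Bijective f := by
      constructor
      · rintro ⟨x, i⟩ ⟨y, j⟩ h
        have h' : (hsub x x.2).choose * C ^ (i : ℕ) = (hsub y y.2).choose * C ^ (j : ℕ) :=
          congrArg Subtype.val h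
        have key : ∀ a b : GL2, ∀ k l : ℕ, a ∈ S → b ∈ S → l ≤ k → k < m → a * C ^ k = b * C ^ l →
            a = b ∧ k = l := by
          intro a b k l ha hb hlk hk hab
          have h1 : b⁻¹ * a * C ^ (k - l) = 1 := by
            rw [mul_assoc, inv_mul_eq_one]
            refine mul_right_cancel (b := C ^ l) ?_
            rw [mul_assoc, ← pow_add, Nat.sub_add_cancel hlk, hab]
          obtain ⟨h2, h3⟩ := hfix _ (mul_mem (inv_mem hb) ha) (k - l) (by omega) _ hv0
            (by rw [h1, Units.val_one, Matrix.one_mulVec])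
          exact ⟨(inv_mul_eq_one.1 h2).symm, by omega⟩
        have h1 : (hsub x x.2).choose = (hsub y y.2).choose ∧ (i : ℕ) = j := by
          rcases le_total (j : ℕ) i with hle | hle
          · exact key _ _ _ _ (hsub x x.2).choose_spec.1 (hsub y y.2).choose_spec.1 hle i.2 h'
          · obtain ⟨e1, e2⟩ := key _ _ _ _ (hsub y y.2).choose_spec.1 (hsub x x.2).choose_spec.1 hle j.2 h'.symm
            exact ⟨e1.symm, e2.symm⟩
        refine Prod.ext (Subtype.ext ?_) (Fin.ext h1.2)
        rw [← (hsub x x.2).choose_spec.2, ← (hsub y y.2).choose_spec.2, h1.1]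
      · rintro ⟨h, hh⟩
        obtain ⟨g, hg, i, hi, rfl⟩ := hdecomp h hh
        refine ⟨(⟨code g.1, hcodeS g hg⟩, ⟨i, hi⟩), Subtype.ext ?_⟩
        show (hsub (code g.1) (hcodeS g hg)).choose * C ^ i = g * C ^ i
        rw [Units.ext (code_injective (hsub (code g.1) (hcodeS g hg)).choose_spec.2)]
    rw [← Nat.card_eq_of_bijective f hf, Nat.card_prod, Nat.card_eq_fintype_card,
      Nat.card_eq_fintype_card, Fintype.card_fin, Fintype.card_of_subtype L.toFinset (fun _ => List.mem_toFinset),
      List.toFinset_card_of_nodup hnodup]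
  refine ⟨by omega, fun v w hv hw => ?_⟩
  have hnz : ∀ h : H, (h : GL2).1 *ᵥ v ≠ 0 := fun h e => hv (by
    have := congrArg (fun u => ((h : GL2)⁻¹).1 *ᵥ u) e
    simpa [Matrix.mulVec_mulVec, ← Units.val_mul] using this)
  have hb : Function.Bijective (fun h : H => (⟨(h : GL2).1 *ᵥ v, hnz h⟩ : {u : Fin 2 → ZMod p // u ≠ 0})) := by
    rw [Nat.bijective_iff_injective_and_card]
    refine ⟨fun g h e => ?_, ?_⟩
    · have e' : (g : GL2).1 *ᵥ v = (h : GL2).1 *ᵥ v := congrArg Subtype.val e
      have := hfree' (h⁻¹ * g) v hv (by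
        rw [Subgroup.coe_mul, Subgroup.coe_inv, Units.val_mul, ← Matrix.mulVec_mulVec, e',
          Matrix.mulVec_mulVec, ← Units.val_mul, inv_mul_cancel, Units.val_one, Matrix.one_mulVec])
      exact (inv_mul_eq_one.1 this).symm
    · rw [hcard, Nat.card_eq_fintype_card, Fintype.card_subtype_compl, Fintype.card_subtype_eq,
        Fintype.card_fun, ZMod.card, Fintype.card_fin, pow_two]
      omega
  obtain ⟨h, hh⟩ := hb.2 ⟨w, hw⟩
  refine ⟨h, congrArg Subtype.val hh, fun g hg => hb.1 (Subtype.ext ?_)⟩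
  exact hg.trans (congrArg Subtype.val hh).symm

end CfsgLib.Perm.MatrixClosure
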