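import Cfsg.Agent.Lib.Perm.Multiply

/-!
Nonregular normal subgroups of `k`-primitive groups are `k`-transitive; Jordan's theorem.
-/

namespace CfsgLib.Perm

open MulAction

universe u v

section NormalSubgroups

/-- A regular normal subgroup of a `4`-transitive group: degree at most `4`. -/
theorem four_transitive_regular_normal {G : Type*} [Group G] {α : Type*} [MulAction G α] [Finite α]
    [IsMultiplyPretransitive G α 4] (hX : 4 ≤ Nat.card α) (N : Subgroup G) [N.Normal]
    [IsPretransitive N α] (hreg : ∀ a : α, stabilizer N a = ⊥) : Nat.card α = 4 := by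
  by_contra hne
  haveI : IsMultiplyPreprimitive G α 3 := isMultiplyPreprimitive_pred (k := 3) (by omega)
  rcases three_primitive_regular_normal (G := G) (α := α) (by omega) N hreg with h | h
  · omega
  · exact hne h

theorem faithful_ofStabilizer {G : Type*} [Group G] {α : Type*} [MulAction G α] [FaithfulSMul G α]
    (a : α) : FaithfulSMul (stabilizer G a) (SubMulAction.ofStabilizer G a) := by
  refine ⟨fun {g h} hgh => Subtype.ext (FaithfulSMul.eq_of_smul_eq_smul (α := α) fun x => ?_)⟩
  by_cases hx : x = a
  · rw [hx]
    exact g.2.trans h.2.symm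
  · exact congrArg Subtype.val (hgh ⟨x, hx⟩)

theorem stabilizer_card_lt_factorial {G : Type*} [Group G] {α : Type*} [MulAction G α] [Finite α]
    [Finite G] [IsPretransitive G α] (a : α) (hG : Nat.card G < (Nat.card α).factorial) :
    Nat.card (stabilizer G a) < (Nat.card (SubMulAction.ofStabilizer G a)).factorial := by
  haveI : Nonempty α := ⟨a⟩
  rw [SubMulAction.nat_card_ofStabilizer_eq]
  have h := Subgroup.card_mul_index (stabilizer G a)
  rw [index_stabilizer_of_transitive] at h
  obtain ⟨m, hm⟩ : ∃ m, Nat.card α = m + 1 := ⟨Nat.card α - 1, by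
    have := (Nat.card_pos : 0 < Nat.card α); omega⟩
  rw [hm, Nat.factorial_succ, ← h, hm, mul_comm (m + 1)] at hG
  rw [hm, Nat.add_sub_cancel]
  exact Nat.lt_of_mul_lt_mul_right hG

/-- If a point stabiliser of `H` is `k`-transitive on the remaining points, then the transitive
`H` is `(k+1)`-transitive. -/
theorem isMultiplyPretransitive_succ_subgroup {G : Type*} [Group G] {α : Type*} [MulAction G α]
    (H : Subgroup G) [IsPretransitive H α] (a : α) {k : ℕ}
    (h : IsMultiplyPretransitive (H.subgroupOf (stabilizer G a)) (SubMulAction.ofStabilizer G a) k) :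
    IsMultiplyPretransitive H α (k + 1) := by
  refine (SubMulAction.ofStabilizer.isMultiplyPretransitive (a := a)).mpr ⟨fun x y => ?_⟩
  let cv : (Fin k ↪ SubMulAction.ofStabilizer H a) → (Fin k ↪ SubMulAction.ofStabilizer G a) :=
    fun z => ⟨fun i => ⟨(z i : α), (z i).2⟩, fun i j e =>
      z.injective (Subtype.ext (congrArg (fun w : SubMulAction.ofStabilizer G a => (w : α)) e))⟩
  obtain ⟨g, hg⟩ := exists_smul_eq (H.subgroupOf (stabilizer G a)) (cv x) (cv y)
  refine ⟨⟨⟨((g : stabilizer G a) : G), g.2⟩, (g : stabilizer G a).2⟩, ?_⟩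
  ext i
  exact congrArg (fun e : Fin k ↪ SubMulAction.ofStabilizer G a => ((e i) : α)) hg

/-- A nonregular normal subgroup of a `k`-primitive group which is not the symmetric group is
`k`-transitive. -/
theorem isMultiplyPretransitive_of_normal_aux (k : ℕ) :
    ∀ (G : Type u) [Group G] [Finite G] (α : Type v) [MulAction G α] [Finite α] [FaithfulSMul G α],
      k + 1 ≤ Nat.card α → IsMultiplyPreprimitive G α (k + 1) →
      Nat.card G < (Nat.card α).factorial →
      ∀ (H : Subgroup G) [H.Normal], H ≠ ⊥ → (k = 0 ∨ ∃ a : α, stabilizer H a ≠ ⊥) →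
      IsMultiplyPretransitive H α (k + 1) := by
  induction k with
  | zero =>
    intro G _ _ α _ _ _ _ hprim _ H _ hH _
    haveI : IsPreprimitive G α := (is_one_preprimitive_iff G α).mp hprim
    exact is_one_pretransitive_iff.mpr (isPretransitive_of_normal H hH)
  | succ k ih =>
    intro G _ _ α _ _ _ hcard hprim hlt H _ hH hnr
    haveI := hprim
    obtain ⟨a, ha⟩ := hnr.resolve_left (Nat.succ_ne_zero k)
    have hbound : k + 3 < Nat.card α := by
      have := lt_of_card_lt_factorial (G := G) (α := α) (k := k + 1 + 1) hcard hlt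
      omega
    haveI h2 : IsMultiplyPretransitive G α 2 :=
      isMultiplyPretransitive_of_le (n := k + 1 + 1) (by omega) hcard
    haveI : IsPreprimitive G α := isPreprimitive_of_is_two_pretransitive h2
    haveI : IsPretransitive H α := isPretransitive_of_normal H hH
    haveI : IsMultiplyPreprimitive G α (k + 1).succ := hprim
    haveI hPa : IsMultiplyPreprimitive (stabilizer G a) (SubMulAction.ofStabilizer G a) (k + 1) :=
      isMultiplyPreprimitive_ofStabilizer G α
    haveI := faithful_ofStabilizer (G := G) a
    set Ha : Subgroup (stabilizer G a) := H.subgroupOf (stabilizer G a) with hHa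
    have hHane : Ha ≠ ⊥ := by
      intro h
      apply ha
      rw [Subgroup.eq_bot_iff_forall]
      intro x hx
      have hmem : (⟨(x : G), hx⟩ : stabilizer G a) ∈ Ha := x.2
      rw [h, Subgroup.mem_bot] at hmem
      exact Subtype.ext (congrArg (fun z : stabilizer G a => (z : G)) hmem)
    have hcard' : Nat.card (SubMulAction.ofStabilizer G a) = Nat.card α - 1 :=
      SubMulAction.nat_card_ofStabilizer_eq G a
    have hlt' := stabilizer_card_lt_factorial a hlt
    by_cases hreg : k = 0 ∨ ∃ b : SubMulAction.ofStabilizer G a, stabilizer Ha b ≠ ⊥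
    · exact isMultiplyPretransitive_succ_subgroup H a
        (ih (stabilizer G a) (SubMulAction.ofStabilizer G a) (by omega) hPa hlt' Ha hHane hreg)
    exfalso
    rw [not_or] at hreg
    obtain ⟨hk0, hreg⟩ := hreg
    push Not at hreg
    haveI : IsMultiplyPretransitive (stabilizer G a) (SubMulAction.ofStabilizer G a) 2 :=
      isMultiplyPretransitive_of_le (n := k + 1) (by omega) (by omega)
    haveI : IsPreprimitive (stabilizer G a) (SubMulAction.ofStabilizer G a) :=
      isPreprimitive_of_is_two_pretransitive ‹_›
    haveI : IsPretransitive Ha (SubMulAction.ofStabilizer G a) := isPretransitive_of_normal Ha hHane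
    rcases Nat.lt_or_ge k 2 with hk | hk
    · -- `k = 1`: `H` is sharply two-transitive
      obtain rfl : k = 1 := by omega
      haveI : IsMultiplyPretransitive H α 2 :=
        isMultiplyPretransitive_succ_subgroup (k := 1) H a (is_one_pretransitive_iff.mpr ‹_›)
      haveI : Fintype α := Fintype.ofFinite α
      classical
      have hsharp : ∀ x : Fin 2 ↪ α, stabilizer H x = ⊥ := by
        intro x
        rw [Subgroup.eq_bot_iff_forall]
        intro h hh
        obtain ⟨u, hu⟩ := exists_smul_eq H (x 0) a
        have h0 : h • x 0 = x 0 := congrArg (fun e : Fin 2 ↪ α => e 0) hh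
        have h1 : h • x 1 = x 1 := congrArg (fun e : Fin 2 ↪ α => e 1) hh
        set h' : H := u * h * u⁻¹ with hh'
        have hfix : h' • a = a := by
          rw [hh', mul_smul, mul_smul, inv_smul_eq_iff.mpr hu.symm, h0, hu]
        have hfix1 : h' • (u • x 1) = u • x 1 := by
          rw [hh', mul_smul, mul_smul, inv_smul_smul, h1]
        have hne : u • x 1 ≠ a := fun e => by
          rw [← hu] at e
          exact absurd (x.injective (MulAction.injective u e)) (by decide)
        have hmem : (⟨⟨(h' : G), hfix⟩, h'.2⟩ : Ha) ∈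
            stabilizer Ha (⟨u • x 1, hne⟩ : SubMulAction.ofStabilizer G a) := Subtype.ext hfix1
        rw [hreg, Subgroup.mem_bot] at hmem
        have h'1 : h' = 1 := Subtype.ext (congrArg (fun z : Ha => ((z : stabilizer G a) : G)) hmem)
        exact conj_eq_one_iff.mp h'1
      obtain ⟨K, p, j, hKn, -, -, -, -, hKcard, -, -, hKt, hKr, hchar⟩ :=
        exists_regular_kernel (G := H) (α := α) hsharp (by rw [← Nat.card_eq_fintype_card]; omega)
      set K' : Subgroup G := K.map H.subtype with hK'
      haveI : K'.Normal := ⟨fun m hm g => by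
        obtain ⟨m', hm', rfl⟩ := hm
        refine ⟨⟨g * m' * g⁻¹, ‹H.Normal›.conj_mem _ m'.2 g⟩, (hchar _).mpr ?_, rfl⟩
        rcases (hchar m').mp hm' with rfl | h
        · left; exact Subtype.ext (by simp)
        · right
          intro b hb
          refine h (g⁻¹ • b) ?_
          have hb' : (g * (m' : G) * g⁻¹) • b = b := hb
          rw [mul_smul, mul_smul] at hb'
          exact eq_inv_smul_iff.mpr hb'⟩
      haveI := hKt
      haveI : IsPretransitive K' α := isPretransitive_map_subtype K
      have hK'r : ∀ b : α, stabilizer K' b = ⊥ := fun b => by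
        rw [Subgroup.eq_bot_iff_forall]
        rintro ⟨_, m, hm, rfl⟩ hmb
        have : (⟨m, hm⟩ : K) ∈ stabilizer K b := hmb
        rw [hKr b, Subgroup.mem_bot] at this
        exact Subtype.ext (congrArg (fun z : K => ((z : H) : G)) this)
      rcases three_primitive_regular_normal (G := G) (α := α) (by omega) K' hK'r with h | h <;> omega
    · rcases Nat.lt_or_ge k 3 with hk' | hk'
      · obtain rfl : k = 2 := by omega
        rcases three_primitive_regular_normal (G := stabilizer G a)
          (α := SubMulAction.ofStabilizer G a) (by omega) Ha hreg with h | h <;> omega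
      · haveI : IsMultiplyPretransitive (stabilizer G a) (SubMulAction.ofStabilizer G a) 4 :=
          isMultiplyPretransitive_of_le (n := k + 1) (by omega) (by omega)
        have := four_transitive_regular_normal (G := stabilizer G a)
          (α := SubMulAction.ofStabilizer G a) (by omega) Ha hreg
        omega

theorem isMultiplyPretransitive_of_normal {G : Type u} [Group G] [Finite G] {α : Type v}
    [MulAction G α] [Finite α] [FaithfulSMul G α] {k : ℕ} (hk : 1 ≤ k) (hkn : k ≤ Nat.card α)
    [IsMultiplyPreprimitive G α k] (hG : Nat.card G < (Nat.card α).factorial) (H : Subgroup G)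
    [H.Normal] (hH : H ≠ ⊥) (hnr : k = 1 ∨ ∃ a : α, stabilizer H a ≠ ⊥) :
    IsMultiplyPretransitive H α k := by
  obtain ⟨j, rfl⟩ : ∃ j, k = j + 1 := ⟨k - 1, by omega⟩
  exact isMultiplyPretransitive_of_normal_aux j G α hkn ‹_› hG H hH
    (hnr.imp_left (fun h => by omega))

/-- Jordan's theorem on normal subgroups of multiply transitive groups. -/
theorem jordan_normal {α : Type v} [Fintype α] [DecidableEq α] (G : Subgroup (Equiv.Perm α))
    {k : ℕ} (hk : 1 < k) (hdeg : k < Nat.card α) [IsMultiplyPretransitive G α k] (N : Subgroup G)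
    [N.Normal] (hN : N ≠ ⊥) :
    IsMultiplyPretransitive N α (k - 1) ∨
      (k = 3 ∧ IsMulCommutative N ∧ ∀ n ∈ N, n ^ 2 = 1) := by
  haveI h2 : IsMultiplyPretransitive G α 2 :=
    isMultiplyPretransitive_of_le (n := k) (by omega) (by omega)
  haveI : IsPreprimitive G α := isPreprimitive_of_is_two_pretransitive h2
  haveI hNt : IsPretransitive N α := isPretransitive_of_normal N hN
  haveI : IsMultiplyPretransitive G α (k - 1 + 1) := by rwa [show k - 1 + 1 = k by omega]
  haveI hprim : IsMultiplyPreprimitive G α (k - 1) := isMultiplyPreprimitive_pred (k := k - 1) (by omega)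
  rcases Nat.lt_or_ge k 3 with h3 | h3
  · left
    rw [show k - 1 = 1 by omega]
    exact is_one_pretransitive_iff.mpr hNt
  haveI : IsMultiplyPretransitive G α 3 :=
    isMultiplyPretransitive_of_le (n := k) h3 (by omega)
  by_cases hnr : ∃ a : α, stabilizer N a ≠ ⊥
  swap
  · push Not at hnr
    obtain ⟨hc, hexp, -⟩ := three_transitive_regular_normal (G := G) (α := α) (by omega) N hnr
    right
    refine ⟨?_, hc, hexp⟩
    by_contra hk3
    haveI : IsMultiplyPretransitive G α 4 :=
      isMultiplyPretransitive_of_le (n := k) (by omega) (by omega)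
    have := four_transitive_regular_normal (G := G) (α := α) (by omega) N hnr
    omega
  left
  by_cases htop : G = ⊤
  · subst htop
    rcases Nat.lt_or_ge (Nat.card α) 5 with h5 | h5
    · obtain rfl : k = 3 := by omega
      obtain ⟨a, ha⟩ := hnr
      haveI : IsMultiplyPretransitive ((⊤ : Subgroup (Equiv.Perm α))) α (1 + 1) := h2
      haveI : IsMultiplyPretransitive (stabilizer (⊤ : Subgroup (Equiv.Perm α)) a)
          (SubMulAction.ofStabilizer (⊤ : Subgroup (Equiv.Perm α)) a) 2 :=
        (SubMulAction.ofStabilizer.isMultiplyPretransitive (a := a)).mp ‹_›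
      haveI : IsPreprimitive (stabilizer (⊤ : Subgroup (Equiv.Perm α)) a)
          (SubMulAction.ofStabilizer (⊤ : Subgroup (Equiv.Perm α)) a) :=
        isPreprimitive_of_is_two_pretransitive ‹_›
      haveI := faithful_ofStabilizer (G := (⊤ : Subgroup (Equiv.Perm α))) a
      refine isMultiplyPretransitive_succ_subgroup (k := 1) N a
        (is_one_pretransitive_iff.mpr (isPretransitive_of_normal _ ?_))
      intro h
      apply ha
      rw [Subgroup.eq_bot_iff_forall]
      intro x hx
      have hmem : (⟨(x : (⊤ : Subgroup (Equiv.Perm α))), hx⟩ :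
          stabilizer (⊤ : Subgroup (Equiv.Perm α)) a) ∈ N.subgroupOf _ := x.2
      rw [h, Subgroup.mem_bot] at hmem
      exact Subtype.ext (congrArg (fun z : stabilizer (⊤ : Subgroup (Equiv.Perm α)) a =>
        (z : (⊤ : Subgroup (Equiv.Perm α)))) hmem)
    · let N' : Subgroup (Equiv.Perm α) := N.map (⊤ : Subgroup (Equiv.Perm α)).subtype
      haveI : N'.Normal := ⟨fun m hm g => by
        obtain ⟨m', hm', rfl⟩ := hm
        exact ⟨⟨g, trivial⟩ * m' * ⟨g, trivial⟩⁻¹, ‹N.Normal›.conj_mem _ hm' _, rfl⟩⟩
      have hN'ne : N' ≠ ⊥ := fun h =>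
        hN ((Subgroup.map_eq_bot_iff_of_injective _ Subtype.val_injective).mp h)
      have hA : alternatingGroup α ≤ N' :=
        Equiv.Perm.alternatingGroup_le_of_normal h5 ((Subgroup.nontrivial_iff_ne_bot N').mpr hN'ne)
      haveI := alternatingGroup.isMultiplyPretransitive α
      haveI : IsMultiplyPretransitive (alternatingGroup α) α (k - 1) :=
        isMultiplyPretransitive_of_le (n := Nat.card α - 2) (by omega) (by omega)
      refine ⟨fun x y => ?_⟩
      obtain ⟨g, hg⟩ := exists_smul_eq (alternatingGroup α) x y
      obtain ⟨n, hn, hng⟩ := hA g.2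
      refine ⟨⟨n, hn⟩, ?_⟩
      rw [← hg]
      ext i
      show (n : Equiv.Perm α) (x i) = (g : Equiv.Perm α) (x i)
      rw [show (n : Equiv.Perm α) = (g : Equiv.Perm α) from hng]
  · exact isMultiplyPretransitive_of_normal (by omega) (by omega) (card_lt_factorial_of_ne_top htop)
      N hN (Or.inr hnr)

end NormalSubgroups

end CfsgLib.Perm
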