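import Cfsg.Agent.Lib.Perm.SylowPrimeDegree
import Mathlib.GroupTheory.Index

/-!
Transitive groups of prime degree `p` whose Sylow normaliser induces a subgroup of index at most
two of `(ZMod p)ˣ`: a two point stabiliser has at most two orbits on the remaining points.

The equivariant maps from the permutation module into the functions on ordered pairs of points
are determined by three scalars modulo the maps killing the sum-zero functions.
-/

set_option autoImplicit false
set_option linter.style.haveILetI false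

namespace CfsgLib.Perm

open MulAction

variable {G Ω : Type*} [Group G] [MulAction G Ω] {p : ℕ}

/-- The multipliers of elements of `G` fixing the origin of a coordinate system. -/
def multGroup (G : Type*) [Group G] [MulAction G Ω] (e : ZMod p ≃ Ω) : Subgroup (ZMod p)ˣ where
  carrier := {c | ∃ g : G, ∀ j, g • e j = e ((c : ZMod p) * j)}
  one_mem' := ⟨1, fun j => by simp⟩
  mul_mem' := by
    rintro a b ⟨g, hg⟩ ⟨h, hh⟩
    exact ⟨g * h, fun j => by rw [mul_smul, hh, hg, Units.val_mul, mul_assoc]⟩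
  inv_mem' := by
    rintro a ⟨g, hg⟩
    refine ⟨g⁻¹, fun j => ?_⟩
    rw [inv_smul_eq_iff, hg, ← mul_assoc, Units.mul_inv, one_mul]

theorem smul_pow_coords {x : G} {e : ZMod p ≃ Ω} (he : ∀ j, x • e j = e (j + 1)) (n : ℕ)
    (i : ZMod p) : x ^ n • e i = e (i + n) := by
  induction n with
  | zero => simp
  | succ n ih => rw [pow_succ', mul_smul, ih, he, Nat.cast_succ, add_assoc]

/-- A faithful transitive action of degree `p` has coordinates for the generator of a Sylow
subgroup, and the normaliser of that subgroup is then affine. -/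
theorem exists_coords_normalizer [Finite G] [FaithfulSMul G Ω] [Fintype Ω] [Fact p.Prime]
    [IsPretransitive G Ω] (hΩ : Fintype.card Ω = p) (P : Sylow p G) :
    ∃ (x : G) (e : ZMod p ≃ Ω), (∀ j, x • e j = e (j + 1)) ∧
      Nat.card ↥(Subgroup.normalizer ((P : Subgroup G) : Set G)) ≤ p * Nat.card (multGroup G e) := by
  classical
  have hp : p.Prime := Fact.out
  obtain ⟨n, hn⟩ := IsPGroup.iff_card.mp P.isPGroup'
  have hdvd : p ∣ Nat.card G := by
    obtain ⟨a⟩ : Nonempty Ω := Fintype.card_pos_iff.mp (hΩ ▸ hp.pos)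
    rw [← hΩ, ← Nat.card_eq_fintype_card (α := Ω), ← index_stabilizer_of_transitive G a]
    exact Subgroup.index_dvd_card _
  have hn1 : 1 ≤ n := by
    by_contra h
    have h1 : (P : Subgroup G) = ⊥ := Subgroup.card_eq_one.mp (by
      rw [hn, show n = 0 by omega, pow_zero])
    exact P.ne_bot_of_dvd_card hdvd h1
  have hn2 : n ≤ 1 := by
    by_contra h
    have h1 : p ^ n ∣ (Nat.card Ω).factorial := by
      rw [← hn, ← Nat.card_perm]
      exact Subgroup.card_dvd_of_injective
        ((toPermHom G Ω).comp (P : Subgroup G).subtype)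
        (MulAction.toPerm_injective.comp Subtype.val_injective)
    have h2 := (pow_dvd_pow p (show 2 ≤ n by omega)).trans h1
    rw [Nat.card_eq_fintype_card, hΩ, ← Nat.mul_factorial_pred hp.ne_zero, pow_two] at h2
    have := hp.dvd_factorial.mp (Nat.dvd_of_mul_dvd_mul_left hp.pos h2)
    have := hp.pos
    omega
  have hcard : Nat.card (P : Subgroup G) = p := by rw [hn, show n = 1 by omega, pow_one]
  obtain ⟨⟨x, hxP⟩, hx⟩ := exists_prime_orderOf_dvd_card' (G := (P : Subgroup G)) p (by rw [hcard])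
  rw [Subgroup.orderOf_mk] at hx
  have hzp : Subgroup.zpowers x = (P : Subgroup G) :=
    Subgroup.eq_of_le_of_card_ge (Subgroup.zpowers_le.mpr hxP)
      (by rw [hcard, Nat.card_zpowers, hx])
  obtain ⟨e, he'⟩ := exists_coords hΩ (g := toPermHom G Ω x)
    (by rw [← map_pow, ← hx, pow_orderOf_eq_one, map_one])
    (fun h => hp.one_lt.ne (by
      rw [← hx, (MulAction.toPerm_injective (α := G) (β := Ω)) (h.trans (map_one (toPermHom G Ω)).symm),
        orderOf_one]))
  have he : ∀ j, x • e j = e (j + 1) := he'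
  refine ⟨x, e, he, ?_⟩
  -- every element of the normaliser is affine in the coordinates
  have haff : ∀ g : ↥(Subgroup.normalizer ((P : Subgroup G) : Set G)),
      ∃ q : ZMod p × multGroup G e, ∀ j, (g : G) • e j = e (q.1 + ((q.2 : (ZMod p)ˣ) : ZMod p) * j) := by
    rintro ⟨g, hg⟩
    have hmem : g * x * g⁻¹ ∈ Subgroup.zpowers x := by
      rw [hzp]; exact (Subgroup.mem_normalizer_iff.mp hg x).mp hxP
    rw [← mem_powers_iff_mem_zpowers, Submonoid.mem_powers_iff] at hmem
    obtain ⟨c, hc⟩ := hmem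
    set b := e.symm (g • e 0) with hb
    have hlin : ∀ i : ℕ, g • e (i : ZMod p) = e (b + (c : ZMod p) * i) := by
      intro i
      induction i with
      | zero => simp [hb]
      | succ i ih =>
        rw [Nat.cast_succ, ← he, ← mul_smul, show g * x = x ^ c * g by rw [hc]; group, mul_smul,
          ih, smul_pow_coords he]
        congr 1
        ring
    have hlin' : ∀ j, g • e j = e (b + (c : ZMod p) * j) := fun j => by
      rw [← ZMod.natCast_zmod_val j, hlin]
    have hc0 : (c : ZMod p) ≠ 0 := fun h => by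
      have h1 := hlin' 0
      have h2 := hlin' 1
      rw [h, zero_mul] at h1 h2
      exact zero_ne_one (e.injective (MulAction.injective g (h1.trans h2.symm)))
    refine ⟨(b, ⟨Units.mk0 _ hc0, x ^ (-b).val * g, fun j => ?_⟩), hlin'⟩
    rw [mul_smul, hlin', smul_pow_coords he, ZMod.natCast_zmod_val, Units.val_mk0]
    congr 1
    ring
  choose q hq using haff
  refine (Nat.card_le_card_of_injective q fun g g' h => ?_).trans (le_of_eq ?_)
  · refine Subtype.ext (MulAction.toPerm_injective (α := G) (β := Ω) (Equiv.ext fun w => ?_))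
    obtain ⟨j, rfl⟩ := e.surjective w
    show (g : G) • e j = (g' : G) • e j
    rw [hq g, hq g', h]
  · rw [Nat.card_prod, Nat.card_zmod]

/-- The heart is irreducible, for a group with a faithful action of prime degree. -/
theorem heart_irreducible' {K : Type*} [Field K] [CharP K p] [FaithfulSMul G Ω] [Fintype Ω]
    [Fact p.Prime] [IsPretransitive G Ω] (hΩ : Fintype.card Ω = p) (hins : ¬ Group.IsSolvable G)
    (W : Submodule K (Ω → K)) (hW : ∀ g : G, ∀ v ∈ W, (fun y => v (g⁻¹ • y)) ∈ W)
    (h₁ : (fun _ => (1 : K)) ∈ W) (h₂ : ∀ v ∈ W, ∑ y, v y = 0)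
    (v₀ : Ω → K) (hv₀ : v₀ ∈ W) (hnc : ∃ a b, v₀ a ≠ v₀ b) (v : Ω → K) (hv : ∑ y, v y = 0) :
    v ∈ W := by
  classical
  set H : Subgroup (Equiv.Perm Ω) := (toPermHom G Ω).range with hH
  haveI : IsPretransitive H Ω := ⟨fun a b => by
    obtain ⟨g, hg⟩ := exists_smul_eq G a b
    exact ⟨⟨toPermHom G Ω g, g, rfl⟩, hg⟩⟩
  have hnsol : ¬ Group.IsSolvable H := fun h => hins (Group.isSolvable_of_isSolvable_injective
    (f := (MonoidHom.ofInjective (f := toPermHom G Ω) MulAction.toPerm_injective).toMonoidHom)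
    (MonoidHom.ofInjective (f := toPermHom G Ω) MulAction.toPerm_injective).injective)
  haveI : Nonempty Ω := ⟨hnc.choose⟩
  rcases heart_irreducible (K := K) hΩ H hnsol W (fun g u hu => by
      obtain ⟨g', hg'⟩ := g.2
      have : Cfsg.permRep K H Ω g u = fun y => u (g'⁻¹ • y) := by
        funext y
        rw [permRep_apply]
        congr 1
        show (g : Equiv.Perm Ω)⁻¹ y = g'⁻¹ • y
        rw [← hg', ← map_inv]
        rfl
      rw [this]
      exact hW g' u hu)
    ((const_mem_iff W).mpr h₁) (fun u hu => (mem_permSumZero_iff u).mpr (h₂ u hu)) with h | h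
  · exfalso
    rw [h, mem_permConstants_iff] at hv₀
    obtain ⟨c, rfl⟩ := hv₀
    obtain ⟨a, b, hab⟩ := hnc
    exact hab rfl
  · rw [h, mem_permSumZero_iff]
    exact hv

theorem exists_two_cosets {A : Type*} [CommGroup A] [Finite A] (C : Subgroup A)
    (hC : Nat.card A ≤ 2 * Nat.card C) : ∃ δ : A, ∀ d : A, d ∈ C ∨ d * δ⁻¹ ∈ C := by
  by_cases h : C = ⊤
  · exact ⟨1, fun d => Or.inl (h ▸ Subgroup.mem_top d)⟩
  have h2 : C.index = 2 := by
    have h1 := C.card_mul_index
    have hpos : 0 < Nat.card C := Nat.card_pos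
    have hne : C.index ≠ 1 := fun h1 => h (Subgroup.index_eq_one.mp h1)
    have h0 : C.index ≠ 0 := Subgroup.index_ne_zero_of_finite
    have : C.index ≤ 2 := Nat.le_of_mul_le_mul_left (by rw [h1, mul_comm (Nat.card C) 2]; exact hC) hpos
    omega
  obtain ⟨δ, hδ⟩ : ∃ δ, δ ∉ C := by
    by_contra h'
    push Not at h'
    exact h ((Subgroup.eq_top_iff' C).mpr h')
  refine ⟨δ, fun d => ?_⟩
  by_cases hd : d ∈ C
  · exact Or.inl hd
  · exact Or.inr ((Subgroup.mul_mem_iff_of_index_two h2).mpr (by
      simp only [inv_mem_iff, hd, hδ]))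

/-- If the Sylow normaliser has order at least `p (p - 1) / 2`, then a two point stabiliser
cannot have three orbits outside the two points. -/
theorem two_point_stabilizer_not_three_orbits [Finite G] [FaithfulSMul G Ω] [Fintype Ω]
    [Fact p.Prime] [IsPretransitive G Ω] [IsMultiplyPretransitive G Ω 2]
    (hΩ : Fintype.card Ω = p) (hins : ¬ Group.IsSolvable G) (P : Sylow p G)
    (hN : p * (p - 1) ≤ 2 * Nat.card ↥(Subgroup.normalizer ((P : Subgroup G) : Set G)))
    (α β : Ω) (hαβ : α ≠ β) (γ : Fin 3 → Ω) (hγα : ∀ i, γ i ≠ α) (hγβ : ∀ i, γ i ≠ β)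
    (hsep : ∀ i j (g : G), g • α = α → g • β = β → g • γ i = γ j → i = j) : False := by
  classical
  have hp : p.Prime := Fact.out
  obtain ⟨x, e, he, hmult⟩ := exists_coords_normalizer hΩ P
  -- the multipliers have index at most two
  obtain ⟨δ, hδ⟩ := exists_two_cosets (multGroup G e) (by
    rw [Nat.card_eq_fintype_card (α := (ZMod p)ˣ), ZMod.card_units]
    have := hN.trans (Nat.mul_le_mul_left 2 hmult)
    rw [← mul_assoc, mul_comm 2 p, mul_assoc] at this
    exact Nat.le_of_mul_le_mul_left this hp.pos)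
  -- the orbits of triples
  let R : Fin 3 → Ω → Ω → Ω → ZMod p := fun i a b c =>
    if ∃ g : G, g • α = a ∧ g • β = b ∧ g • γ i = c then 1 else 0
  have hR : ∀ (g : G) i a b c, R i (g • a) (g • b) (g • c) = R i a b c := fun g i a b c => by
    refine if_congr ⟨fun ⟨k, h1, h2, h3⟩ => ⟨g⁻¹ * k, ?_, ?_, ?_⟩,
      fun ⟨k, h1, h2, h3⟩ => ⟨g * k, ?_, ?_, ?_⟩⟩ rfl rfl <;> simp [mul_smul, *]
  let f : (Fin 3 → ZMod p) × ZMod p × ZMod p → (Ω → ZMod p) → Ω → Ω → ZMod p := fun t v a b =>
    (∑ c, (∑ i, t.1 i * R i a b c) * v c) + (t.2.1 * v a + t.2.2 * v b)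
  have hfg : ∀ t (g : G) v a b, f t (fun y => v (g⁻¹ • y)) (g • a) (g • b) = f t v a b :=
    fun t g v a b => by
      simp only [f, inv_smul_smul]
      congr 1
      refine (Fintype.sum_equiv (toPerm g) _ _ fun c => ?_).symm
      simp only [toPerm_apply, inv_smul_smul, hR]
  have hfadd : ∀ t u v a b, f t (u + v) a b = f t u a b + f t v a b := fun t u v a b => by
    simp only [f, Pi.add_apply, mul_add, Finset.sum_add_distrib]
    ring
  have hfsmul : ∀ t (k : ZMod p) v a b, f t (k • v) a b = k * f t v a b := fun t k v a b => by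
    simp only [f, Pi.smul_apply, smul_eq_mul]
    rw [mul_add, Finset.mul_sum]
    congr 1
    · exact Finset.sum_congr rfl fun c _ => by ring
    · ring
  have hfsub : ∀ t t' v a b, f (t - t') v a b = f t v a b - f t' v a b := fun t t' v a b => by
    simp only [f, Prod.fst_sub, Prod.snd_sub, Pi.sub_apply, sub_mul, Finset.sum_sub_distrib]
    ring
  let one : Ω → ZMod p := fun _ => 1
  let v₀ : Ω → ZMod p := fun y => e.symm y
  let Φ : (Fin 3 → ZMod p) × ZMod p × ZMod p → ZMod p × ZMod p × ZMod p × ZMod p := fun t =>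
    (f t one α β, f t v₀ (e 0) (e 1), f t v₀ (e 0) (e (δ : ZMod p)), t.2.1)
  -- `Φ` is injective
  suffices hker : ∀ t, f t one α β = 0 → f t v₀ (e 0) (e 1) = 0 →
      f t v₀ (e 0) (e (δ : ZMod p)) = 0 → t.2.1 = 0 → t = 0 by
    have hinj : Function.Injective Φ := fun t t' h => by
      simp only [Φ, Prod.mk.injEq] at h
      obtain ⟨h1, h2, h3, h4⟩ := h
      exact sub_eq_zero.mp (hker (t - t') (by rw [hfsub, h1, sub_self])
        (by rw [hfsub, h2, sub_self]) (by rw [hfsub, h3, sub_self])
        (by rw [Prod.snd_sub, Prod.fst_sub, h4, sub_self]))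
    have hle := Fintype.card_le_of_injective Φ hinj
    simp only [Fintype.card_prod, Fintype.card_fun, Fintype.card_fin, ZMod.card] at hle
    have h1 : p ^ 5 ≤ p ^ 4 := by
      calc p ^ 5 = p ^ 3 * (p * p) := by ring
        _ ≤ p * (p * (p * p)) := hle
        _ = p ^ 4 := by ring
    exact absurd h1 (not_le_of_gt (Nat.pow_lt_pow_right hp.one_lt (by norm_num)))
  intro t ht1 ht01 htδ ht4
  have h2t : ∀ {a b c d : Ω}, a ≠ b → c ≠ d → ∃ g : G, g • a = c ∧ g • b = d :=
    fun {a b c d} h h' => is_two_pretransitive_iff.mp inferInstance h h'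
  have hone : ∀ a b, a ≠ b → f t one a b = 0 := fun a b hab => by
    obtain ⟨g, rfl, rfl⟩ := h2t hαβ hab
    exact (hfg t g one α β).trans ht1
  -- translations
  have hxv : (fun y => v₀ (x⁻¹ • y)) = v₀ + (-1 : ZMod p) • one := by
    funext y
    obtain ⟨j, rfl⟩ := e.surjective y
    have : x⁻¹ • e j = e (j - 1) := by rw [inv_smul_eq_iff, he, sub_add_cancel]
    simp [v₀, one, this, sub_eq_add_neg]
  have htr : ∀ i j, i ≠ j → f t v₀ (e (i + 1)) (e (j + 1)) = f t v₀ (e i) (e j) := fun i j hij => by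
    have h := hfg t x v₀ (e i) (e j)
    rw [hxv, he, he, hfadd, hfsmul,
      hone _ _ (fun h => hij (add_right_cancel (e.injective h))), mul_zero, add_zero] at h
    exact h
  have htr' : ∀ (n : ℕ) i j, i ≠ j → f t v₀ (e (i + n)) (e (j + n)) = f t v₀ (e i) (e j) := by
    intro n
    induction n with
    | zero => simp
    | succ n ih =>
      intro i j hij
      rw [Nat.cast_succ, ← add_assoc, ← add_assoc, htr _ _ (fun h => hij (add_right_cancel h)),
        ih i j hij]
  -- multipliers
  have hmul : ∀ c ∈ multGroup G e, ∀ d, f t v₀ (e 0) (e d) = 0 →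
      f t v₀ (e 0) (e ((c : ZMod p) * d)) = 0 := by
    rintro c ⟨g, hg⟩ d hd
    have hgv : (fun y => v₀ (g⁻¹ • y)) = ((c⁻¹ : (ZMod p)ˣ) : ZMod p) • v₀ := by
      funext y
      obtain ⟨j, rfl⟩ := e.surjective y
      have : g⁻¹ • e j = e (((c⁻¹ : (ZMod p)ˣ) : ZMod p) * j) := by
        rw [inv_smul_eq_iff, hg, ← mul_assoc, Units.mul_inv, one_mul]
      simp only [v₀, this, Pi.smul_apply, smul_eq_mul, Equiv.symm_apply_apply]
    have h := hfg t g v₀ (e 0) (e d)
    rw [hgv, hfsmul, hg, hg, mul_zero, hd] at h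
    exact (mul_eq_zero.mp h).resolve_left (Units.ne_zero _)
  have hF : ∀ a b, a ≠ b → f t v₀ a b = 0 := by
    intro a b hab
    obtain ⟨i, rfl⟩ := e.surjective a
    obtain ⟨j, rfl⟩ := e.surjective b
    have hij : j - i ≠ 0 := sub_ne_zero.mpr fun h => hab (h ▸ rfl)
    have h := htr' i.val 0 (j - i) hij.symm
    rw [ZMod.natCast_zmod_val, zero_add, sub_add_cancel] at h
    rw [h]
    rcases hδ (Units.mk0 _ hij) with hd | hd
    · simpa using hmul _ hd 1 ht01
    · have := hmul _ hd (δ : ZMod p) htδ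
      rwa [← Units.val_mul, inv_mul_cancel_right, Units.val_mk0] at this
  -- the kernel contains all sum-zero functions
  let W : Submodule (ZMod p) (Ω → ZMod p) :=
    { carrier := {v | ∑ y, v y = 0 ∧ ∀ a b, a ≠ b → f t v a b = 0}
      zero_mem' := ⟨by simp, fun a b _ => by simp [f]⟩
      add_mem' := fun {u v} hu hv => ⟨by simp [Finset.sum_add_distrib, hu.1, hv.1],
        fun a b hab => by rw [hfadd, hu.2 a b hab, hv.2 a b hab, add_zero]⟩
      smul_mem' := fun k v hv => ⟨by simp [← Finset.mul_sum, hv.1],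
        fun a b hab => by rw [hfsmul, hv.2 a b hab, mul_zero]⟩ }
  have hW : ∀ g : G, ∀ v ∈ W, (fun y => v (g⁻¹ • y)) ∈ W := fun g v hv => by
    refine ⟨?_, fun a b hab => ?_⟩
    · exact (Fintype.sum_equiv (toPerm g⁻¹) _ _ fun y => rfl).trans hv.1
    · have := hfg t g v (g⁻¹ • a) (g⁻¹ • b)
      rw [smul_inv_smul, smul_inv_smul] at this
      rw [this]
      exact hv.2 _ _ fun h => hab (MulAction.injective _ h)
  have hp2 : 2 < p := by
    rcases hp.eq_two_or_odd' with h | h
    · exfalso
      have := Fintype.card_le_of_injective (α := Fin 3) (β := Ω) ![α, β, γ 0] (by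
        intro i j h
        fin_cases i <;> fin_cases j <;>
          first | rfl | exact absurd h hαβ | exact absurd h hαβ.symm | exact absurd h (hγα 0) |
            exact absurd h (hγα 0).symm | exact absurd h (hγβ 0) | exact absurd h (hγβ 0).symm)
      simp [hΩ, h] at this
    · exact lt_of_le_of_ne hp.two_le fun h' => by subst h'; exact absurd h (by decide)
  have hsum : ∑ y, v₀ y = 0 := by
    rw [← Fintype.sum_equiv e (fun j : ZMod p => j ^ 1) v₀ (fun j => by simp [v₀])]
    exact FiniteField.sum_pow_lt_card_sub_one (ZMod p) 1 (by rw [ZMod.card]; omega)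
  have hall : ∀ v : Ω → ZMod p, ∑ y, v y = 0 → f t v α β = 0 := fun v hv =>
    (heart_irreducible' hΩ hins W hW
      ⟨by simp [hΩ], fun a b hab => hone a b hab⟩ (fun u hu => hu.1) v₀ ⟨hsum, hF⟩
      ⟨e 0, e 1, by simp [v₀]⟩ v hv).2 α β hαβ
  -- evaluate at point masses
  have hk : ∀ c, f t (Pi.single c 1) α β = f t (Pi.single α 1) α β := fun c => by
    have h := hall (Pi.single c 1 + (-1 : ZMod p) • Pi.single α 1)
      (by simp [Finset.sum_add_distrib])
    rw [hfadd, hfsmul] at h
    linear_combination h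
  have hval : ∀ c, f t (Pi.single c 1) α β =
      (∑ i, t.1 i * R i α β c) + (t.2.1 * (Pi.single c 1 : Ω → ZMod p) α +
        t.2.2 * (Pi.single c 1 : Ω → ZMod p) β) := fun c => by
    simp [f, Pi.single_apply]
  have hR0 : ∀ i, R i α β α = 0 ∧ R i α β β = 0 := fun i =>
    ⟨if_neg fun ⟨g, h1, _, h3⟩ => hγα i (MulAction.injective g (h3.trans h1.symm)),
      if_neg fun ⟨g, _, h2, h3⟩ => hγβ i (MulAction.injective g (h3.trans h2.symm))⟩
  have hkα : f t (Pi.single α 1) α β = 0 := by
    rw [hval]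
    simp [hR0, ht4, Pi.single_eq_of_ne hαβ.symm]
  have ht5 : t.2.2 = 0 := by
    have := (hk β).trans hkα
    rw [hval] at this
    simpa [hR0, ht4] using this
  have ht : ∀ j, t.1 j = 0 := fun j => by
    have := (hk (γ j)).trans hkα
    rw [hval] at this
    have hR1 : ∀ i, R i α β (γ j) = if i = j then 1 else 0 := fun i =>
      if_congr ⟨fun ⟨g, h1, h2, h3⟩ => hsep i j g h1 h2 h3,
        fun h => ⟨1, one_smul _ _, one_smul _ _, by rw [h, one_smul]⟩⟩ rfl rfl
    simpa [hR1, ht4, ht5] using this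
  exact Prod.ext (funext ht) (Prod.ext ht4 ht5)

/-- An insoluble group of prime degree is doubly transitive. -/
theorem two_transitive_of_not_isSolvable' [FaithfulSMul G Ω] [Fintype Ω] [Fact p.Prime]
    [IsPretransitive G Ω] (hΩ : Fintype.card Ω = p) (hins : ¬ Group.IsSolvable G) :
    IsMultiplyPretransitive G Ω 2 ∧ 5 ≤ p := by
  set H : Subgroup (Equiv.Perm Ω) := (toPermHom G Ω).range with hH
  haveI : IsPretransitive H Ω := ⟨fun a b => by
    obtain ⟨g, hg⟩ := exists_smul_eq G a b
    exact ⟨⟨toPermHom G Ω g, g, rfl⟩, hg⟩⟩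
  have hnsol : ¬ Group.IsSolvable H := fun h => hins (Group.isSolvable_of_isSolvable_injective
    (f := (MonoidHom.ofInjective (f := toPermHom G Ω) MulAction.toPerm_injective).toMonoidHom)
    (MonoidHom.ofInjective (f := toPermHom G Ω) MulAction.toPerm_injective).injective)
  refine ⟨is_two_pretransitive_iff.mpr fun {a b c d} hab hcd => ?_,
    five_le_of_not_isSolvable (by rw [Nat.card_eq_fintype_card]; exact hΩ) H hnsol⟩
  obtain ⟨⟨_, g, rfl⟩, h1, h2⟩ :=
    is_two_pretransitive_iff.mp (two_transitive_of_not_isSolvable hΩ H hnsol) hab hcd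
  exact ⟨g, h1, h2⟩

end CfsgLib.Perm
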