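import Cfsg.Agent.Lib.Perm.PrimeHalfTriple

/-!
In an insoluble group of prime degree `p > 7` with Sylow normaliser of order `p (p - 1) / 2`, a
point stabiliser is primitive on the other points.

Blocks give an invariant linear space; summing the coordinates over a line shows that its lines
have three points.
-/

set_option autoImplicit false
set_option linter.style.haveILetI false

namespace CfsgLib.Perm

open MulAction
open scoped Pointwise

variable {G Ω : Type*} [Group G] [MulAction G Ω] {p : ℕ}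

/-- Among three points outside `a, b` two are related by the stabiliser of `a` and `b`. -/
theorem related_of_three [Finite G] [FaithfulSMul G Ω] [Fintype Ω] [Fact p.Prime]
    [IsPretransitive G Ω] [IsMultiplyPretransitive G Ω 2] (hΩ : Fintype.card Ω = p)
    (hins : ¬ Group.IsSolvable G) (P : Sylow p G)
    (hN : p * (p - 1) ≤ 2 * Nat.card ↥(Subgroup.normalizer ((P : Subgroup G) : Set G)))
    {a b u v w : Ω} (hab : a ≠ b) (hua : u ≠ a) (hub : u ≠ b) (hva : v ≠ a) (hvb : v ≠ b)
    (hwa : w ≠ a) (hwb : w ≠ b) :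
    ∃ g : G, g • a = a ∧ g • b = b ∧ (g • u = v ∨ g • u = w ∨ g • v = w) := by
  by_contra hcon
  push Not at hcon
  refine two_point_stabilizer_not_three_orbits hΩ hins P hN a b hab ![u, v, w]
    (fun i => by fin_cases i <;> assumption) (fun i => by fin_cases i <;> assumption) ?_
  intro i j g ha hb h
  have ha' : g⁻¹ • a = a := by rw [inv_smul_eq_iff, ha]
  have hb' : g⁻¹ • b = b := by rw [inv_smul_eq_iff, hb]
  have h' : g⁻¹ • ![u, v, w] j = ![u, v, w] i := by rw [inv_smul_eq_iff, h]
  obtain ⟨n1, n2, n3⟩ := hcon g ha hb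
  obtain ⟨m1, m2, m3⟩ := hcon g⁻¹ ha' hb'
  fin_cases i <;> fin_cases j <;>
    first
      | rfl
      | exact absurd h n1
      | exact absurd h n2
      | exact absurd h n3
      | exact absurd h' m1
      | exact absurd h' m2
      | exact absurd h' m3

/-- A point stabiliser is primitive on the remaining points. -/
theorem isPreprimitive_stabilizer_of_half [Finite G] [FaithfulSMul G Ω] [Fintype Ω]
    [Fact p.Prime] [IsPretransitive G Ω] (hΩ : Fintype.card Ω = p)
    (hins : ¬ Group.IsSolvable G) (P : Sylow p G)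
    (hN : p * (p - 1) ≤ 2 * Nat.card ↥(Subgroup.normalizer ((P : Subgroup G) : Set G)))
    (hp7 : 7 < p) (α : Ω) :
    IsPreprimitive ↥(stabilizer G α) ↥(SubMulAction.ofStabilizer G α) := by
  classical
  have hp : p.Prime := Fact.out
  haveI := (two_transitive_of_not_isSolvable' (G := G) hΩ hins).1
  have h2t : ∀ {a b c d : Ω}, a ≠ b → c ≠ d → ∃ g : G, g • a = c ∧ g • b = d :=
    fun {a b c d} h h' => is_two_pretransitive_iff.mp inferInstance h h'
  haveI : IsPretransitive ↥(stabilizer G α) ↥(SubMulAction.ofStabilizer G α) := ⟨fun u v => by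
    obtain ⟨g, h1, h2⟩ := h2t (Ne.symm (SubMulAction.mem_ofStabilizer_iff G α |>.mp u.2))
      (Ne.symm (SubMulAction.mem_ofStabilizer_iff G α |>.mp v.2))
    exact ⟨⟨g, h1⟩, Subtype.ext h2⟩⟩
  refine IsPreprimitive.mk fun {B} hB => ?_
  by_contra htriv
  obtain ⟨b₁, hb₁, c₁, hc₁, hbc₁⟩ : ∃ b ∈ B, ∃ c ∈ B, b ≠ c := by
    by_contra h
    push Not at h
    exact htriv (Or.inl fun x hx y hy => h x hx y hy)
  obtain ⟨d₁, hd₁⟩ : ∃ d, d ∉ B := by
    by_contra h
    push Not at h
    exact htriv (Or.inr (Set.eq_univ_of_forall h))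
  -- the block as a set of points
  let B' : Set Ω := Subtype.val '' B
  set b₀ := b₁.1 with hb₀def
  set c₀ := c₁.1 with hc₀def
  set d₀ := d₁.1 with hd₀def
  have hB'α : ∀ y ∈ B', y ≠ α := by
    rintro _ ⟨y, -, rfl⟩
    exact (SubMulAction.mem_ofStabilizer_iff G α).mp y.2
  have hb₀ : b₀ ∈ B' := ⟨b₁, hb₁, rfl⟩
  have hc₀ : c₀ ∈ B' := ⟨c₁, hc₁, rfl⟩
  have hd₀ : d₀ ∉ B' := fun ⟨y, hy, h⟩ => hd₁ (Subtype.ext (p := fun z => z ∈ SubMulAction.ofStabilizer G α) h ▸ hy)
  have hd₀α : d₀ ≠ α := (SubMulAction.mem_ofStabilizer_iff G α).mp d₁.2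
  have hαb : α ≠ b₀ := (hB'α _ hb₀).symm
  have hbc : b₀ ≠ c₀ := fun h => hbc₁ (Subtype.ext h)
  have hdb : d₀ ≠ b₀ := fun h => hd₀ (h ▸ hb₀)
  have hBg : ∀ g : G, g • α = α → ∀ y ∈ B', g • y ∈ B' → ∀ z ∈ B', g • z ∈ B' := by
    rintro g hg _ ⟨y, hy, rfl⟩ ⟨y', hy', hyy⟩ _ ⟨z, hz, rfl⟩
    let g' : ↥(stabilizer G α) := ⟨g, hg⟩
    have hne : (g' • B ∩ B).Nonempty :=
      ⟨g' • y, Set.smul_mem_smul_set hy, by rw [← (Subtype.ext hyy : y' = g' • y)]; exact hy'⟩
    have := (isBlock_iff_smul_eq_of_nonempty.mp hB) hne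
    exact ⟨g' • z, this ▸ Set.smul_mem_smul_set hz, rfl⟩
  -- the third points of a line
  let T : Ω → Ω → Ω → Prop := fun a b y => ∃ g : G, g • α = a ∧ g • b₀ = b ∧ g • c₀ = y
  have hTg : ∀ (g : G) a b y, T a b y → T (g • a) (g • b) (g • y) := by
    rintro g a b y ⟨h, h1, h2, h3⟩
    exact ⟨g * h, by rw [mul_smul, h1], by rw [mul_smul, h2], by rw [mul_smul, h3]⟩
  have hTne : ∀ a b y, T a b y → a ≠ b ∧ y ≠ a ∧ y ≠ b := by
    rintro a b y ⟨h, rfl, rfl, rfl⟩
    exact ⟨(MulAction.injective h).ne hαb, (MulAction.injective h).ne (hB'α _ hc₀),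
      (MulAction.injective h).ne hbc.symm⟩
  have hbase : ∀ y, T α b₀ y ↔ y ∈ B' ∧ y ≠ b₀ := by
    refine fun y => ⟨fun h => ⟨?_, (hTne _ _ _ h).2.2⟩, fun ⟨hy, hyb⟩ => ?_⟩
    · obtain ⟨g, h1, h2, rfl⟩ := h
      exact hBg g h1 b₀ hb₀ (by rwa [h2]) c₀ hc₀
    · obtain ⟨g, h1, h2, h3⟩ := related_of_three hΩ hins P hN hαb (hB'α _ hc₀) hbc.symm
        (hB'α _ hy) hyb hd₀α hdb
      rcases h3 with h3 | h3 | h3
      · exact ⟨g, h1, h2, h3⟩
      · exact absurd (h3 ▸ hBg g h1 b₀ hb₀ (by rwa [h2]) c₀ hc₀) hd₀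
      · exact absurd (h3 ▸ hBg g h1 b₀ hb₀ (by rwa [h2]) y hy) hd₀
  have hTcases : ∀ a b y, T a b y → ∃ g : G, g • α = a ∧ g • b₀ = b ∧
      ∀ z, T a b z ↔ g⁻¹ • z ∈ B' ∧ g⁻¹ • z ≠ b₀ := by
    rintro a b y ⟨g, rfl, rfl, rfl⟩
    refine ⟨g, rfl, rfl, fun z => ⟨fun h => ?_, fun h => ?_⟩⟩
    · have := hTg g⁻¹ _ _ _ h
      rw [inv_smul_smul, inv_smul_smul] at this
      exact (hbase _).mp this
    · have := hTg g _ _ _ ((hbase _).mpr h)
      rwa [smul_inv_smul] at this
  have hTblock : ∀ a b y, T a b y → T a y b := by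
    rintro a b y ⟨g, rfl, rfl, rfl⟩
    refine hTg g α c₀ b₀ ?_
    obtain ⟨g₁, h1, h2⟩ := h2t hαb (hB'α _ hc₀).symm
    have h1' : g₁⁻¹ • α = α := by rw [inv_smul_eq_iff, h1]
    have hmem : g₁⁻¹ • b₀ ∈ B' := hBg g₁⁻¹ h1' c₀ hc₀ (by rw [← h2, inv_smul_smul]; exact hb₀) b₀ hb₀
    have hne : g₁⁻¹ • b₀ ≠ b₀ := fun h => hbc (by rw [inv_smul_eq_iff] at h; rw [h, h2])
    have := hTg g₁ _ _ _ ((hbase _).mpr ⟨hmem, hne⟩)
    rwa [h1, h2, smul_inv_smul] at this
  have hTtrans : ∀ a b y z, T a b y → T a b z → y ≠ z → T a y z := by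
    intro a b y z hy hz hyz
    obtain ⟨g, rfl, rfl, hg⟩ := hTcases a b y hy
    obtain ⟨hyB, hyb⟩ := (hg y).mp hy
    obtain ⟨hzB, hzb⟩ := (hg z).mp hz
    have key : T α (g⁻¹ • y) (g⁻¹ • z) := by
      obtain ⟨g₁, h1, h2⟩ := h2t hαb (hB'α _ hyB).symm
      have h1' : g₁⁻¹ • α = α := by rw [inv_smul_eq_iff, h1]
      have hmem : g₁⁻¹ • g⁻¹ • z ∈ B' :=
        hBg g₁⁻¹ h1' _ hyB (by rw [← h2, inv_smul_smul]; exact hb₀) _ hzB
      have hne : g₁⁻¹ • g⁻¹ • z ≠ b₀ := fun h =>
        hyz (MulAction.injective g⁻¹ (by rw [inv_smul_eq_iff, h2] at h; exact h.symm))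
      have := hTg g₁ _ _ _ ((hbase _).mpr ⟨hmem, hne⟩)
      rwa [h1, h2, smul_inv_smul] at this
    have := hTg g _ _ _ key
    rwa [smul_inv_smul, smul_inv_smul] at this
  -- the two orbits have different sizes, so are fixed by interchanging the two points
  have hTsymm : ∀ a b y, T a b y → T b a y := by
    obtain ⟨h, hh1, hh2⟩ := h2t hαb hαb.symm
    suffices hk : T α b₀ (h • c₀) by
      rintro a b y ⟨g, rfl, rfl, rfl⟩
      obtain ⟨k, k1, k2, k3⟩ := hk
      refine ⟨g * h⁻¹ * k, ?_, ?_, ?_⟩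
      · rw [mul_smul, mul_smul, k1, show h⁻¹ • α = b₀ by rw [inv_smul_eq_iff, hh2]]
      · rw [mul_smul, mul_smul, k2, show h⁻¹ • b₀ = α by rw [inv_smul_eq_iff, hh1]]
      · rw [mul_smul, mul_smul, k3, inv_smul_smul]
    by_contra hk
    let Oc := Finset.univ.filter fun y => T α b₀ y
    let Od := Finset.univ.filter fun y => y ≠ α ∧ y ≠ b₀ ∧ ¬ T α b₀ y
    have hcd : ∀ y ∈ Od, ∃ k : G, k • α = α ∧ k • b₀ = b₀ ∧ k • h • c₀ = y := by
      intro y hy
      simp only [Od, Finset.mem_filter, Finset.mem_univ, true_and] at hy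
      obtain ⟨k, k1, k2, k3⟩ := related_of_three hΩ hins P hN hαb (hB'α _ hc₀) hbc.symm
        (u := c₀) (v := h • c₀) (w := y)
        (fun e => hbc.symm (MulAction.injective h (e.trans hh2.symm)))
        (fun e => (hB'α _ hc₀) (MulAction.injective h (e.trans hh1.symm))) hy.1 hy.2.1
      rcases k3 with k3 | k3 | k3
      · exact absurd ⟨k, k1, k2, k3⟩ hk
      · exact absurd ⟨k, k1, k2, k3⟩ hy.2.2
      · exact ⟨k, k1, k2, k3⟩
    have hmap1 : ∀ y ∈ Oc, h • y ∈ Od := by
      intro y hy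
      simp only [Oc, Finset.mem_filter, Finset.mem_univ, true_and] at hy
      simp only [Od, Finset.mem_filter, Finset.mem_univ, true_and]
      refine ⟨fun e => (hTne _ _ _ hy).2.2 (MulAction.injective h (e.trans hh2.symm)),
        fun e => (hTne _ _ _ hy).2.1 (MulAction.injective h (e.trans hh1.symm)), fun hT' => hk ?_⟩
      obtain ⟨g, g1, g2, rfl⟩ := hy
      have := hTg (h * g⁻¹ * h⁻¹) _ _ _ hT'
      rwa [show (h * g⁻¹ * h⁻¹) • α = α by
          rw [mul_smul, mul_smul, show h⁻¹ • α = b₀ by rw [inv_smul_eq_iff, hh2],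
            show g⁻¹ • b₀ = b₀ by rw [inv_smul_eq_iff, g2], hh2],
        show (h * g⁻¹ * h⁻¹) • b₀ = b₀ by
          rw [mul_smul, mul_smul, show h⁻¹ • b₀ = α by rw [inv_smul_eq_iff, hh1],
            show g⁻¹ • α = α by rw [inv_smul_eq_iff, g1], hh1],
        mul_smul, mul_smul, inv_smul_smul, inv_smul_smul] at this
    have hmap2 : ∀ y ∈ Od, h • y ∈ Oc := by
      intro y hy
      obtain ⟨k, k1, k2, rfl⟩ := hcd y hy
      simp only [Oc, Finset.mem_filter, Finset.mem_univ, true_and]
      refine ⟨h * k * h, ?_, ?_, by rw [mul_smul, mul_smul]⟩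
      · rw [mul_smul, mul_smul, hh1, k2, hh2]
      · rw [mul_smul, mul_smul, hh2, k1, hh1]
    have hle1 : Oc.card ≤ Od.card :=
      Finset.card_le_card_of_injOn (h • ·) hmap1 (MulAction.injective h).injOn
    have hle2 : Od.card ≤ Oc.card :=
      Finset.card_le_card_of_injOn (h • ·) hmap2 (MulAction.injective h).injOn
    have hdisj : Disjoint Oc Od := Finset.disjoint_left.mpr fun y h1 h2 => by
      simp only [Oc, Od, Finset.mem_filter, Finset.mem_univ, true_and] at h1 h2
      exact h2.2.2 h1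
    have hunion : Oc ∪ Od = Finset.univ \ {α, b₀} := by
      ext y
      simp only [Oc, Od, Finset.mem_union, Finset.mem_filter, Finset.mem_univ, true_and,
        Finset.mem_sdiff, Finset.mem_insert, Finset.mem_singleton, not_or]
      constructor
      · rintro (hy | hy)
        · exact (hTne _ _ _ hy).2
        · exact ⟨hy.1, hy.2.1⟩
      · intro hy
        by_cases hT' : T α b₀ y
        · exact Or.inl hT'
        · exact Or.inr ⟨hy.1, hy.2, hT'⟩
    have hcard := congrArg Finset.card hunion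
    rw [Finset.card_union_of_disjoint hdisj, Finset.card_sdiff_of_subset (Finset.subset_univ _),
      Finset.card_pair hαb, Finset.card_univ, hΩ] at hcard
    rcases hp.eq_two_or_odd with h' | h' <;> omega
  -- the lines
  let L : Ω → Ω → Finset Ω := fun a b => insert a (insert b (Finset.univ.filter (T a b)))
  have hLmem : ∀ a b y, y ∈ L a b ↔ y = a ∨ y = b ∨ T a b y := fun a b y => by simp [L]
  have hLswap : ∀ a b, L b a = L a b := fun a b => by
    ext y
    simp only [hLmem]
    exact ⟨fun h => h.elim (fun h => Or.inr (Or.inl h)) (fun h => h.elim Or.inl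
        fun h => Or.inr (Or.inr (hTsymm _ _ _ h))),
      fun h => h.elim (fun h => Or.inr (Or.inl h)) (fun h => h.elim Or.inl
        fun h => Or.inr (Or.inr (hTsymm _ _ _ h)))⟩
  have hLthird : ∀ a b y, T a b y → L a y = L a b := fun a b y hy => by
    ext z
    simp only [hLmem]
    constructor
    · rintro (rfl | rfl | hz)
      · exact Or.inl rfl
      · exact Or.inr (Or.inr hy)
      · by_cases hzb : z = b
        · exact Or.inr (Or.inl hzb)
        · exact Or.inr (Or.inr (hTtrans _ _ _ _ (hTblock _ _ _ hy) hz (Ne.symm hzb)))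
    · rintro (rfl | rfl | hz)
      · exact Or.inl rfl
      · exact Or.inr (Or.inr (hTblock _ _ _ hy))
      · by_cases hzy : z = y
        · exact Or.inr (Or.inl hzy)
        · exact Or.inr (Or.inr (hTtrans _ _ _ _ hy hz (Ne.symm hzy)))
  have hLeq : ∀ a b y z, y ∈ L a b → z ∈ L a b → y ≠ z → L y z = L a b := by
    have h1 : ∀ a b z, z ∈ L a b → z ≠ a → L a z = L a b := fun a b z hz hza => by
      rcases (hLmem _ _ _).mp hz with rfl | rfl | hz
      · exact absurd rfl hza
      · rfl
      · exact hLthird _ _ _ hz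
    intro a b y z hy hz hyz
    by_cases hya : y = a
    · subst hya; exact h1 _ _ _ hz hyz.symm
    · have hay := h1 a b y hy hya
      rw [← hay, ← hLswap a y]
      exact h1 y a z (by rw [hLswap a y, hay]; exact hz) hyz.symm
  have hLg : ∀ (g : G) a b, L (g • a) (g • b) = (L a b).image (g • ·) := fun g a b => by
    ext y
    simp only [Finset.mem_image, hLmem]
    constructor
    · intro hy
      refine ⟨g⁻¹ • y, ?_, smul_inv_smul g y⟩
      rcases hy with rfl | rfl | hy
      · exact Or.inl (inv_smul_smul g a)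
      · exact Or.inr (Or.inl (inv_smul_smul g b))
      · have := hTg g⁻¹ _ _ _ hy
        rw [inv_smul_smul, inv_smul_smul] at this
        exact Or.inr (Or.inr this)
    · rintro ⟨z, rfl | rfl | hz, rfl⟩
      · exact Or.inl rfl
      · exact Or.inr (Or.inl rfl)
      · exact Or.inr (Or.inr (hTg g _ _ _ hz))
  set k := (L α b₀).card with hkdef
  have hLcard : ∀ a b, a ≠ b → (L a b).card = k := fun a b hab => by
    obtain ⟨g, rfl, rfl⟩ := h2t hαb hab
    rw [hLg, Finset.card_image_of_injective _ (MulAction.injective g)]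
  have hTαc : T α b₀ c₀ := ⟨1, one_smul _ _, one_smul _ _, one_smul _ _⟩
  have hk3 : 3 ≤ k := by
    rw [hkdef]
    refine le_trans (le_of_eq ?_) (Finset.card_le_card (s := ({α, b₀, c₀} : Finset Ω)) ?_)
    · rw [Finset.card_insert_of_notMem (by simp [hαb, (hB'α _ hc₀).symm]),
        Finset.card_pair hbc]
    · intro y hy
      simp only [Finset.mem_insert, Finset.mem_singleton] at hy
      rcases hy with rfl | rfl | rfl
      · exact (hLmem _ _ _).mpr (Or.inl rfl)
      · exact (hLmem _ _ _).mpr (Or.inr (Or.inl rfl))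
      · exact (hLmem _ _ _).mpr (Or.inr (Or.inr hTαc))
  have hd₀L : d₀ ∉ L α b₀ := fun h => by
    rcases (hLmem _ _ _).mp h with h | h | h
    · exact hd₀α h
    · exact hdb h
    · exact hd₀ ((hbase _).mp h).1
  have hkp : k < p := by
    rw [hkdef, ← hΩ, ← Finset.card_univ]
    exact Finset.card_lt_card (Finset.ssubset_univ_iff.mpr fun h => hd₀L (h ▸ Finset.mem_univ _))
  have hk0 : (k : ZMod p) ≠ 0 := fun h => by
    rw [ZMod.natCast_eq_zero_iff] at h
    exact absurd (Nat.le_of_dvd (by omega) h) (by omega)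
  -- coordinates
  obtain ⟨x, e, he, hmult⟩ := exists_coords_normalizer hΩ P
  have hC0 : Nat.card (ZMod p)ˣ ≤ 2 * Nat.card (multGroup G e) := by
    rw [Nat.card_eq_fintype_card (α := (ZMod p)ˣ), ZMod.card_units]
    have := hN.trans (Nat.mul_le_mul_left 2 hmult)
    rw [← mul_assoc, mul_comm 2 p, mul_assoc] at this
    exact Nat.le_of_mul_le_mul_left this hp.pos
  let S : ZMod p → ZMod p → ZMod p := fun i j => ∑ z ∈ L (e i) (e j), e.symm z
  have hSg : ∀ (g : G) (c t : ZMod p), (∀ j, g • e j = e (c * j + t)) → ∀ i j, i ≠ j →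
      S (c * i + t) (c * j + t) = c * S i j + k * t := fun g c t hg i j hij => by
    simp only [S]
    rw [← hg, ← hg, hLg, Finset.sum_image (MulAction.injective g).injOn,
      Finset.sum_congr rfl (fun z _ => show e.symm (g • z) = c * e.symm z + t by
        obtain ⟨l, rfl⟩ := e.surjective z; rw [hg]; simp),
      Finset.sum_add_distrib, ← Finset.mul_sum, Finset.sum_const, hLcard _ _ (e.injective.ne hij),
      nsmul_eq_mul]
  have hshift : ∀ t i j, i ≠ j → S (i + t) (j + t) = S i j + k * t := fun t i j hij => by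
    simpa using hSg (x ^ t.val) 1 t
      (fun j => by rw [smul_pow_coords he, ZMod.natCast_zmod_val, one_mul]) i j hij
  set β := S 0 1 with hβ
  have hS : ∀ d : (ZMod p)ˣ, d ∈ multGroup G e → ∀ i, S i (i + d) = β * d + k * i := by
    rintro d ⟨s, hs⟩ i
    have h1 := hSg s d 0 (fun j => by rw [hs, add_zero]) 0 1 zero_ne_one
    rw [mul_zero, add_zero, mul_one, mul_zero, add_zero] at h1
    have h2 := hshift i 0 d d.ne_zero.symm
    rw [zero_add, add_comm (d : ZMod p) i, h1] at h2
    rw [h2, ← hβ]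
    ring
  have hSsymm : ∀ i j, S j i = S i j := fun i j => by simp only [S, hLswap]
  have h2 : (2 : ZMod p) ≠ 0 := fun h => by
    have h2c : ((2 : ℕ) : ZMod p) = 0 := by exact_mod_cast h
    rw [ZMod.natCast_eq_zero_iff] at h2c
    exact absurd (Nat.le_of_dvd two_pos h2c) (by omega)
  by_cases hneg : (-1 : (ZMod p)ˣ) ∈ multGroup G e
  · -- the sum over a line is then proportional to the sum of any two of its points
    have hlin : ∀ i j, i ≠ j → 2 * S i j = k * (i + j) := by
      intro i j hij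
      obtain ⟨s, hs⟩ := hneg
      have hg : ∀ l, (x ^ (i + j).val * s) • e l = e (-1 * l + (i + j)) := fun l => by
        rw [mul_smul, hs, smul_pow_coords he, ZMod.natCast_zmod_val, Units.val_neg, Units.val_one]
      have h1 := hSg _ (-1) (i + j) hg i j hij
      rw [show (-1 : ZMod p) * i + (i + j) = j by ring,
        show (-1 : ZMod p) * j + (i + j) = i by ring, hSsymm] at h1
      linear_combination h1
    obtain ⟨i, hi⟩ := e.surjective α
    obtain ⟨j, hj⟩ := e.surjective b₀
    obtain ⟨l, hl⟩ := e.surjective c₀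
    have hij : i ≠ j := fun h => hαb (by rw [← hi, h, hj])
    have hil : i ≠ l := fun h => hB'α _ hc₀ (by rw [← hl, ← h, hi])
    have h3 : S i l = S i j := by
      show ∑ z ∈ L (e i) (e l), e.symm z = ∑ z ∈ L (e i) (e j), e.symm z
      rw [hi, hj, hl, hLthird _ _ _ hTαc]
    have h4 := hlin i j hij
    have h5 := hlin i l hil
    rw [h3, h4] at h5
    exact hbc (by rw [← hj, ← hl, add_left_cancel (mul_left_cancel₀ hk0 h5)])
  -- otherwise every pair of points is oriented
  have hC : ∀ d : (ZMod p)ˣ, d ∈ multGroup G e ∨ -d ∈ multGroup G e := by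
    obtain ⟨δ, hδ⟩ := exists_two_cosets (multGroup G e) hC0
    intro d
    rcases hδ d with hd | hd
    · exact Or.inl hd
    rcases hδ (-1) with hm | hm
    · exact absurd hm hneg
    right
    have := (multGroup G e).mul_mem hd ((multGroup G e).inv_mem hm)
    rwa [mul_inv_rev, inv_inv, mul_assoc, inv_mul_cancel_left, inv_neg, inv_one, mul_neg,
      mul_one] at this
  have harc : ∀ i j (h : i ≠ j), Units.mk0 (j - i) (sub_ne_zero.mpr h.symm) ∈ multGroup G e →
      S i j = β * (j - i) + k * i := fun i j h hd => by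
    have := hS _ hd i
    rwa [Units.val_mk0, add_sub_cancel] at this
  have hk : k = 3 := by
    refine le_antisymm ?_ hk3
    set Lc := (L α b₀).image e.symm with hLc
    have hLck : Lc.card = k := Finset.card_image_of_injective _ e.symm.injective
    have hline : ∀ i j, i ∈ Lc → j ∈ Lc → i ≠ j → S i j = ∑ z ∈ L α b₀, e.symm z := by
      intro i j hi hj hij
      obtain ⟨a, ha, rfl⟩ := Finset.mem_image.mp hi
      obtain ⟨b, hb, rfl⟩ := Finset.mem_image.mp hj
      simp only [S, Equiv.apply_symm_apply]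
      rw [hLeq α b₀ a b ha hb (fun h => hij (h ▸ rfl))]
    let Q := Lc.offDiag.filter fun q => ∃ h : q.1 ≠ q.2,
      Units.mk0 (q.2 - q.1) (sub_ne_zero.mpr h.symm) ∈ multGroup G e
    have hQcard : Q.card ≤ k := by
      by_cases hβ0 : β = 0
      · -- all arcs have the same tail
        refine le_trans ?_ hLck.le
        refine Finset.card_le_card_of_injOn Prod.snd ?_ ?_
        · intro q hq
          simp only [Q, Finset.coe_filter, Finset.mem_offDiag, Set.mem_setOf_eq] at hq
          exact hq.1.2.1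
        · intro q hq q' hq' hqq
          simp only [Q, Finset.coe_filter, Finset.mem_offDiag, Set.mem_setOf_eq] at hq hq'
          obtain ⟨⟨h1, h2, -⟩, h3, h4⟩ := hq
          obtain ⟨⟨h1', h2', -⟩, h3', h4'⟩ := hq'
          have e1 := (harc _ _ h3 h4).symm.trans (hline _ _ h1 h2 h3)
          have e2 := (harc _ _ h3' h4').symm.trans (hline _ _ h1' h2' h3')
          rw [hβ0, zero_mul, zero_add] at e1 e2
          exact Prod.ext (mul_left_cancel₀ hk0 (e1.trans e2.symm)) hqq
      · -- each tail has one head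
        refine le_trans ?_ hLck.le
        refine Finset.card_le_card_of_injOn Prod.fst ?_ ?_
        · intro q hq
          simp only [Q, Finset.coe_filter, Finset.mem_offDiag, Set.mem_setOf_eq] at hq
          exact hq.1.1
        · intro q hq q' hq' hqq
          simp only [Q, Finset.coe_filter, Finset.mem_offDiag, Set.mem_setOf_eq] at hq hq'
          obtain ⟨⟨h1, h2, -⟩, h3, h4⟩ := hq
          obtain ⟨⟨h1', h2', -⟩, h3', h4'⟩ := hq'
          have e1 := (harc _ _ h3 h4).symm.trans (hline _ _ h1 h2 h3)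
          have e2 := (harc _ _ h3' h4').symm.trans (hline _ _ h1' h2' h3')
          have e3 := e1.trans e2.symm
          replace hqq : q.1 = q'.1 := hqq
          rw [← hqq] at e3
          exact Prod.ext hqq (sub_left_inj.mp (mul_left_cancel₀ hβ0 (add_right_cancel e3)))
    have hsub : Lc.offDiag ⊆ Q ∪ Q.image Prod.swap := by
      intro q hq
      obtain ⟨h1, h2, h3⟩ := Finset.mem_offDiag.mp hq
      rcases hC (Units.mk0 (q.2 - q.1) (sub_ne_zero.mpr (Ne.symm h3))) with hd | hd
      · exact Finset.mem_union_left _ (Finset.mem_filter.mpr ⟨hq, h3, hd⟩)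
      · refine Finset.mem_union_right _ (Finset.mem_image.mpr ⟨(q.2, q.1),
          Finset.mem_filter.mpr ⟨Finset.mem_offDiag.mpr ⟨h2, h1, Ne.symm h3⟩, Ne.symm h3, ?_⟩,
          rfl⟩)
        convert hd using 1
        ext
        simp
    have h6 := (Finset.card_le_card hsub).trans (Finset.card_union_le _ _)
    rw [Finset.offDiag_card, hLck] at h6
    have h7 := Finset.card_image_le (s := Q) (f := Prod.swap)
    by_contra h8
    have h9 : 4 * k ≤ k * k := Nat.mul_le_mul_right k (by omega)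
    omega
  -- three points on each line
  let third : Ω → Ω → Ω := fun a b => if h : ∃ y, T a b y then h.choose else a
  have hex : ∀ a b, a ≠ b → T a b (third a b) := fun a b hab => by
    have h : ∃ y, T a b y := by
      obtain ⟨g, rfl, rfl⟩ := h2t hαb hab
      exact ⟨_, hTg g _ _ _ hTαc⟩
    simp only [third, dif_pos h]
    exact h.choose_spec
  have huniq : ∀ a b y, T a b y → y = third a b := fun a b y hy => by
    by_contra hne
    have hab := (hTne _ _ _ hy).1
    have hz := hex a b hab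
    have h4 : ({a, b, y, third a b} : Finset Ω).card ≤ (L a b).card := Finset.card_le_card (by
      intro z hz'
      simp only [Finset.mem_insert, Finset.mem_singleton] at hz'
      rcases hz' with rfl | rfl | rfl | rfl
      · exact (hLmem _ _ _).mpr (Or.inl rfl)
      · exact (hLmem _ _ _).mpr (Or.inr (Or.inl rfl))
      · exact (hLmem _ _ _).mpr (Or.inr (Or.inr hy))
      · exact (hLmem _ _ _).mpr (Or.inr (Or.inr hz)))
    rw [hLcard a b hab, hk, Finset.card_insert_of_notMem, Finset.card_insert_of_notMem,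
      Finset.card_pair hne] at h4
    · omega
    · simp [(hTne _ _ _ hy).2.2.symm, (hTne _ _ _ hz).2.2.symm]
    · simp [hab, (hTne _ _ _ hy).2.1.symm, (hTne _ _ _ hz).2.1.symm]
  refine not_triple_system hp7 e x he hC hneg third
    (fun a b hab => (hTne _ _ _ (hex a b hab)).2)
    (fun a b hab => (huniq _ _ _ (hTsymm _ _ _ (hex a b hab))).symm)
    (fun a b hab => (huniq _ _ _ (hTblock _ _ _ (hex a b hab))).symm)
    (fun g a b hab => (huniq _ _ _ (hTg g _ _ _ (hex a b hab))).symm) ?_
  intro a b u v hab hua hub hu hva hvb hv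
  have hz := hTne _ _ _ (hex a b hab)
  obtain ⟨g, h1, h2', h3⟩ := related_of_three hΩ hins P hN hab hz.2.1 hz.2.2 hua hub hva hvb
  have hfix : g • third a b = third a b := huniq _ _ _ (by
    have := hTg g _ _ _ (hex a b hab)
    rwa [h1, h2'] at this)
  rcases h3 with h3 | h3 | h3
  · exact absurd (h3.symm.trans hfix) hu
  · exact absurd (h3.symm.trans hfix) hv
  · exact ⟨g, h1, h2', h3⟩

end CfsgLib.Perm
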