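import Cfsg.Agent.Lib.Perm.PrimeHalf

/-!
A group of prime degree `p > 7` with multipliers of index two has no invariant Steiner triple
system in which a two point stabiliser is transitive off the line of the two points.

The rotation of a line acts without fixed points on the centraliser of that stabiliser, so the
three involutions belonging to the points of the line multiply to the identity; this is
impossible as they are piecewise affine.
-/

set_option autoImplicit false
set_option linter.style.haveILetI false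

namespace CfsgLib.Perm

open MulAction

variable {G Ω : Type*} [Group G] [MulAction G Ω] {p : ℕ}

theorem not_triple_system [Fact p.Prime] (hp7 : 7 < p) (e : ZMod p ≃ Ω) (x : G)
    (he : ∀ j, x • e j = e (j + 1))
    (hC : ∀ d : (ZMod p)ˣ, d ∈ multGroup G e ∨ -d ∈ multGroup G e)
    (hneg : (-1 : (ZMod p)ˣ) ∉ multGroup G e)
    (third : Ω → Ω → Ω)
    (hne : ∀ a b, a ≠ b → third a b ≠ a ∧ third a b ≠ b)
    (hcomm : ∀ a b, a ≠ b → third b a = third a b)
    (hinv : ∀ a b, a ≠ b → third a (third a b) = b)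
    (heq : ∀ (g : G) a b, a ≠ b → third (g • a) (g • b) = g • third a b)
    (htr : ∀ a b u v, a ≠ b → u ≠ a → u ≠ b → u ≠ third a b → v ≠ a → v ≠ b → v ≠ third a b →
      ∃ g : G, g • a = a ∧ g • b = b ∧ g • u = v) : False := by
  classical
  let τ : ZMod p → ZMod p → ZMod p := fun i j => e.symm (third (e i) (e j))
  have hτe : ∀ i j, e (τ i j) = third (e i) (e j) := fun i j => e.apply_symm_apply _
  have hne' : ∀ i j, i ≠ j → τ i j ≠ i ∧ τ i j ≠ j := fun i j hij =>
    ⟨fun h => (hne _ _ (e.injective.ne hij)).1 (by rw [← hτe, h]),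
      fun h => (hne _ _ (e.injective.ne hij)).2 (by rw [← hτe, h])⟩
  have hcomm' : ∀ i j, i ≠ j → τ j i = τ i j := fun i j hij =>
    e.injective (by rw [hτe, hτe, hcomm _ _ (e.injective.ne hij)])
  have hinv' : ∀ i j, i ≠ j → τ i (τ i j) = j := fun i j hij =>
    e.injective (by rw [hτe, hτe, hinv _ _ (e.injective.ne hij)])
  have hequiv : ∀ (g : G) (A : ZMod p → ZMod p), (∀ j, g • e j = e (A j)) →
      ∀ i j, i ≠ j → τ (A i) (A j) = A (τ i j) := fun g A hA i j hij =>
    e.injective (by rw [hτe, ← hA, ← hA, ← hA, hτe, heq g _ _ (e.injective.ne hij)])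
  have hshift : ∀ k i j, i ≠ j → τ (i + k) (j + k) = τ i j + k := fun k =>
    hequiv (x ^ k.val) (· + k) fun j => by rw [smul_pow_coords he, ZMod.natCast_zmod_val]
  set γ := τ 0 1 with hγdef
  -- the system in coordinates
  have hpos : ∀ d : (ZMod p)ˣ, d ∈ multGroup G e → ∀ i : ZMod p,
      τ i (i + d) = i + γ * d := by
    rintro d ⟨s, hs⟩ i
    have h1 := hequiv s (fun j => (d : ZMod p) * j) hs 0 1 zero_ne_one
    rw [mul_zero, mul_one] at h1
    have h2 := hshift i 0 d d.ne_zero.symm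
    rw [h1, zero_add, add_comm (d : ZMod p) i] at h2
    rw [h2, ← hγdef]
    ring
  have hmin : ∀ d : (ZMod p)ˣ, -d ∈ multGroup G e → ∀ i : ZMod p,
      τ i (i + d) = i + (1 - γ) * d := by
    intro d hd i
    have h1 := hpos _ hd (i + d)
    rw [Units.val_neg, add_neg_cancel_right] at h1
    rw [hcomm' (i + d) i (fun h => d.ne_zero (by linear_combination h)), h1]
    ring
  have hform : ∀ i j, i ≠ j →
      τ i j = i + γ * (j - i) ∨ τ i j = i + (1 - γ) * (j - i) := by
    intro i j hij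
    have h0 : j - i ≠ 0 := sub_ne_zero.mpr hij.symm
    rcases hC (Units.mk0 _ h0) with h | h
    · left; simpa using hpos _ h i
    · right; simpa using hmin _ h i
  have hγ0 : γ ≠ 0 := (hne' 0 1 zero_ne_one).1
  have hγ1 : γ ≠ 1 := (hne' 0 1 zero_ne_one).2
  have h0γ : τ 0 γ = 1 := hinv' 0 1 zero_ne_one
  have hγq : γ * (1 - γ) = 1 ∧ -Units.mk0 γ hγ0 ∈ multGroup G e := by
    rcases hC (Units.mk0 γ hγ0) with h | h
    · exfalso
      have h1 := hpos _ h 0
      rw [Units.val_mk0, zero_add, h0γ, zero_add] at h1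
      rcases mul_self_eq_one_iff.mp h1.symm with h2 | h2
      · exact hγ1 h2
      · exact hneg (by convert h; ext; simp [h2])
    · refine ⟨?_, h⟩
      have h1 := hmin _ h 0
      rw [Units.val_mk0, zero_add, h0γ, zero_add] at h1
      rw [mul_comm]; exact h1.symm
  obtain ⟨hq, hγC⟩ := hγq
  -- the rotation of the line through `0` and `1`
  obtain ⟨s, hs⟩ : ∃ s : G, ∀ j, s • e j = e ((γ - 1) * j) := by
    obtain ⟨s, hs⟩ := (multGroup G e).mul_mem hγC hγC
    refine ⟨s, fun j => (hs j).trans ?_⟩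
    congr 2
    simp only [Units.val_mul, Units.val_neg, Units.val_mk0]
    linear_combination (-1 : ZMod p) * hq
  let A : ZMod p → ZMod p := fun j => (γ - 1) * j + 1
  have hA : ∀ j, (x * s) • e j = e (A j) := fun j => by rw [mul_smul, hs, he]
  have hA3 : ∀ j, A (A (A j)) = j := fun j => by
    simp only [A]
    linear_combination (j * (-(γ) + 2) - 1) * hq
  have hAinj : Function.Injective A := Function.LeftInverse.injective (g := A ∘ A) hA3
  have hA0 : A 0 = 1 := by simp [A]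
  have hA1 : A 1 = γ := by simp [A]
  have hAγ : A γ = 0 := by simp only [A]; linear_combination (-1 : ZMod p) * hq
  -- the points off the line
  let onLine : ZMod p → Prop := fun j => j = 0 ∨ j = 1 ∨ j = γ
  have hline : ∀ a b, onLine a → onLine b → a ≠ b → onLine (τ a b) := by
    have h01 : τ 0 1 = γ := rfl
    have h1γ : τ 1 γ = 0 := by
      rw [← hA0, ← hA1, hequiv _ A hA 0 1 zero_ne_one, ← hγdef, hAγ]
    rintro a b (rfl | rfl | rfl) (rfl | rfl | rfl) hab
    all_goals first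
      | exact absurd rfl hab
      | (rw [h01]; exact Or.inr (Or.inr rfl))
      | (rw [h0γ]; exact Or.inr (Or.inl rfl))
      | (rw [h1γ]; exact Or.inl rfl)
      | (rw [hcomm' _ _ hab.symm, h01]; exact Or.inr (Or.inr rfl))
      | (rw [hcomm' _ _ hab.symm, h0γ]; exact Or.inr (Or.inl rfl))
      | (rw [hcomm' _ _ hab.symm, h1γ]; exact Or.inl rfl)
  let R := {j : ZMod p // ¬ onLine j}
  have hAR : ∀ r : R, ¬ onLine (A r.1) := fun r h => r.2 (by
    rcases h with h | h | h
    · exact Or.inr (Or.inr (hAinj (h.trans hAγ.symm)))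
    · exact Or.inl (hAinj (h.trans hA0.symm))
    · exact Or.inr (Or.inl (hAinj (h.trans hA1.symm))))
  let σ : Equiv.Perm R :=
    { toFun := fun r => ⟨A r.1, hAR r⟩
      invFun := fun r => ⟨A (A r.1), hAR ⟨A r.1, hAR r⟩⟩
      left_inv := fun r => Subtype.ext (hA3 r.1)
      right_inv := fun r => Subtype.ext (hA3 r.1) }
  have hσ : ∀ r, (σ r).1 = A r.1 := fun r => rfl
  have hσ3 : σ * σ * σ = 1 := Equiv.ext fun r => Subtype.ext (hA3 r.1)
  have hneR : ∀ a (r : R), onLine a → a ≠ r.1 := fun a r ha h => r.2 (h ▸ ha)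
  have hTR : ∀ a, onLine a → ∀ r : R, ¬ onLine (τ a r.1) := fun a ha r h => r.2 (by
    rw [← hinv' a r.1 (hneR a r ha)]
    exact hline a _ ha h (hne' a r.1 (hneR a r ha)).1.symm)
  let T : ∀ a, onLine a → Equiv.Perm R := fun a ha => Function.Involutive.toPerm
    (fun r => ⟨τ a r.1, hTR a ha r⟩) (fun r => Subtype.ext (hinv' a r.1 (hneR a r ha)))
  have hT : ∀ a ha r, (T a ha r).1 = τ a r.1 := fun a ha r => rfl
  have hTσ : ∀ a ha (ha' : onLine (A a)), T (A a) ha' = σ * T a ha * σ⁻¹ := fun a ha ha' => by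
    rw [eq_mul_inv_iff_mul_eq]
    refine Equiv.ext fun r => Subtype.ext ?_
    rw [Equiv.Perm.mul_apply, Equiv.Perm.mul_apply, hT (A a) ha', hσ, hσ, hT a ha,
      hequiv _ A hA a r.1 (hneR a r ha)]
  -- the centraliser of the stabiliser of the line
  have hfix : ∀ k : G, k • e 0 = e 0 → k • e 1 = e 1 → ∀ a, onLine a → k • e a = e a := by
    rintro k h0 h1 a (rfl | rfl | rfl)
    · exact h0
    · exact h1
    · rw [hγdef, hτe, ← heq k _ _ (e.injective.ne zero_ne_one), h0, h1]
  have hkR : ∀ k : G, k • e 0 = e 0 → k • e 1 = e 1 → ∀ r : R, ∃ r' : R, k • e r.1 = e r'.1 :=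
    fun k h0 h1 r => by
      obtain ⟨j, hj⟩ := e.surjective (k • e r.1)
      refine ⟨⟨j, fun h => r.2 ?_⟩, hj.symm⟩
      have h' : k • e r.1 = k • e j := by rw [← hj, hfix k h0 h1 j h]
      rw [e.injective (MulAction.injective k h')]
      exact h
  let M : Subgroup (Equiv.Perm R) :=
    { carrier := {m | ∀ k : G, k • e 0 = e 0 → k • e 1 = e 1 → ∀ r r' : R,
        k • e r.1 = e r'.1 → k • e (m r).1 = e (m r').1}
      one_mem' := fun k _ _ r r' h => h
      mul_mem' := fun {m n} hm hn k h0 h1 r r' h => hm k h0 h1 _ _ (hn k h0 h1 r r' h)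
      inv_mem' := fun {m} hm k h0 h1 r r' h => by
        obtain ⟨q', hq'⟩ := hkR k h0 h1 (m⁻¹ r)
        have h2 := hm k h0 h1 _ _ hq'
        rw [Equiv.Perm.coe_inv, Equiv.apply_symm_apply] at h2
        have h3 : r' = m q' := Subtype.ext (e.injective (h.symm.trans h2))
        rw [h3, Equiv.Perm.coe_inv, Equiv.symm_apply_apply]
        exact hq' }
  have hTM : ∀ a ha, T a ha ∈ M := fun a ha k h0 h1 r r' h => by
    rw [hT a ha, hT a ha, hτe, hτe, ← heq k _ _ (e.injective.ne (hneR a r ha)), hfix k h0 h1 a ha, h]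
  have hσM : ∀ m ∈ M, σ * m * σ⁻¹ ∈ M := fun m hm k h0 h1 r r' h => by
    set g := x * s with hg
    have hg0 : g⁻¹ • e 1 = e 0 := by rw [inv_smul_eq_iff, hg, hA, hA0]
    have hg1 : g⁻¹ • e γ = e 1 := by rw [inv_smul_eq_iff, hg, hA, hA1]
    have hgσ : ∀ q : R, g • e q.1 = e (σ q).1 := fun q => hA q.1
    have hk := hm (g⁻¹ * k * g) ?_ ?_ (σ⁻¹ r) (σ⁻¹ r') ?_
    · rw [mul_smul, mul_smul, inv_smul_eq_iff, hgσ, hgσ] at hk
      exact hk
    · rw [mul_smul, mul_smul, hA 0, hA0, h1, hg0]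
    · rw [mul_smul, mul_smul, hA 1, hA1, hfix k h0 h1 γ (Or.inr (Or.inr rfl)), hg1]
    · rw [mul_smul, mul_smul, inv_smul_eq_iff, hgσ, hgσ, Equiv.Perm.coe_inv,
        Equiv.apply_symm_apply, Equiv.apply_symm_apply, h]
  have hsemi : ∀ m ∈ M, ∀ r₀ : R, m r₀ = r₀ → m = 1 := fun m hm r₀ hr₀ => Equiv.ext fun r => by
    have hoff : ∀ q : R, e q.1 ≠ e 0 ∧ e q.1 ≠ e 1 ∧ e q.1 ≠ third (e 0) (e 1) := fun q =>
      ⟨fun h => q.2 (Or.inl (e.injective h)), fun h => q.2 (Or.inr (Or.inl (e.injective h))),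
        fun h => q.2 (Or.inr (Or.inr (e.injective (h.trans (hτe 0 1).symm))))⟩
    obtain ⟨k, h0, h1, hk⟩ := htr (e 0) (e 1) (e r₀.1) (e r.1) (e.injective.ne zero_ne_one)
      (hoff r₀).1 (hoff r₀).2.1 (hoff r₀).2.2 (hoff r).1 (hoff r).2.1 (hoff r).2.2
    have h2 := hm k h0 h1 r₀ r hk
    rw [hr₀, hk] at h2
    exact Subtype.ext (e.injective h2).symm
  -- the centre of the rotation
  have hγ2 : (2 : ZMod p) - γ ≠ 0 := fun h => by
    have h3 : ((3 : ℕ) : ZMod p) = 0 := by
      push_cast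
      linear_combination (γ + 1) * h - hq
    rw [ZMod.natCast_eq_zero_iff] at h3
    exact absurd (Nat.le_of_dvd (by norm_num) h3) (by omega)
  have hzR : ¬ onLine ((2 - γ)⁻¹) := by
    rintro (h | h | h)
    · exact inv_ne_zero hγ2 h
    · rw [inv_eq_one] at h
      exact hγ1 (by linear_combination (-1 : ZMod p) * h)
    · have h' : γ * (2 - γ) = 1 := by
        have := inv_mul_cancel₀ hγ2
        rwa [h] at this
      exact hγ0 (by linear_combination h' - hq)
  have hzfix : σ ⟨(2 - γ)⁻¹, hzR⟩ = ⟨(2 - γ)⁻¹, hzR⟩ := Subtype.ext (by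
    show (γ - 1) * (2 - γ)⁻¹ + 1 = (2 - γ)⁻¹
    linear_combination (-1 : ZMod p) * inv_mul_cancel₀ hγ2)
  have hzuniq : ∀ r : R, σ r = r → r = ⟨(2 - γ)⁻¹, hzR⟩ := fun r h => Subtype.ext (by
    have h' : (γ - 1) * r.1 + 1 = r.1 := congrArg Subtype.val h
    show r.1 = (2 - γ)⁻¹
    refine eq_inv_of_mul_eq_one_left ?_
    linear_combination (-1 : ZMod p) * h')
  have hfpf : ∀ m ∈ M, σ * m = m * σ → m = 1 := fun m hm hc =>
    hsemi m hm ⟨(2 - γ)⁻¹, hzR⟩ (hzuniq _ (by
      rw [← Equiv.Perm.mul_apply, hc, Equiv.Perm.mul_apply, hzfix]))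
  let ψ : M → M := fun m =>
    ⟨(m : Equiv.Perm R)⁻¹ * (σ * m * σ⁻¹), M.mul_mem (M.inv_mem m.2) (hσM m m.2)⟩
  have hψ : Function.Surjective ψ := by
    refine Finite.surjective_of_injective fun m m' h => ?_
    have h' : (m : Equiv.Perm R)⁻¹ * (σ * m * σ⁻¹) = (m' : Equiv.Perm R)⁻¹ * (σ * m' * σ⁻¹) :=
      congrArg Subtype.val h
    rw [← mul_assoc, ← mul_assoc, ← mul_assoc, ← mul_assoc, mul_left_inj] at h'
    have h1 := hfpf ((m' : Equiv.Perm R) * (m : Equiv.Perm R)⁻¹) (M.mul_mem m'.2 (M.inv_mem m.2))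
      (by
        calc σ * ((m' : Equiv.Perm R) * (m : Equiv.Perm R)⁻¹)
            = (m' : Equiv.Perm R) * ((m' : Equiv.Perm R)⁻¹ * σ * m') * (m : Equiv.Perm R)⁻¹ := by
              group
          _ = (m' : Equiv.Perm R) * ((m : Equiv.Perm R)⁻¹ * σ * m) * (m : Equiv.Perm R)⁻¹ := by
              rw [h']
          _ = _ := by group)
    exact Subtype.ext (mul_inv_eq_one.mp h1).symm
  have hon0 : onLine 0 := Or.inl rfl
  have hon1 : onLine (A 0) := Or.inr (Or.inl hA0)
  have honγ : onLine (A (A 0)) := Or.inr (Or.inr (by rw [hA0, hA1]))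
  have hprod : T 0 hon0 * T (A 0) hon1 * T (A (A 0)) honγ = 1 := by
    obtain ⟨m, hm⟩ := hψ ⟨T 0 hon0, hTM 0 hon0⟩
    have hm' : (m : Equiv.Perm R)⁻¹ * (σ * m * σ⁻¹) = T 0 hon0 := congrArg Subtype.val hm
    rw [hTσ (A 0) hon1 honγ, hTσ 0 hon0 hon1, ← hm']
    calc _ = (m : Equiv.Perm R)⁻¹ * (σ * σ * σ) * m * (σ * σ * σ)⁻¹ := by group
      _ = 1 := by rw [hσ3]; group
  -- the piecewise affine equation has at most eight solutions
  have hkey : ∀ r : R, τ 0 (τ 1 (τ γ r.1)) = r.1 := fun r => by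
    have h := congrArg Subtype.val (DFunLike.congr_fun hprod r)
    simp only [Equiv.Perm.mul_apply, Equiv.Perm.one_apply, hT] at h
    rwa [hA0, hA1] at h
  let u : ZMod p → ZMod p → ZMod p := fun a j =>
    if τ a j = a + γ * (j - a) then γ else 1 - γ
  have hu : ∀ a j, a ≠ j → τ a j = a + u a j * (j - a) := fun a j haj => by
    simp only [u]
    split_ifs with h
    · exact h
    · exact (hform a j haj).resolve_left h
  let code : R → Bool × Bool × Bool := fun r =>
    (decide (τ γ r.1 = γ + γ * (r.1 - γ)),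
      decide (τ 1 (τ γ r.1) = 1 + γ * (τ γ r.1 - 1)),
      decide (τ 0 (τ 1 (τ γ r.1)) = 0 + γ * (τ 1 (τ γ r.1) - 0)))
  have hcode : Function.Injective code := by
    intro r r' h
    simp only [code, Prod.mk.injEq, decide_eq_decide] at h
    obtain ⟨h1, h2, h3⟩ := h
    have honγ' : onLine γ := Or.inr (Or.inr rfl)
    have hon1' : onLine 1 := Or.inr (Or.inl rfl)
    have hval : ∀ q : R, q.1 = u 0 (τ 1 (τ γ q.1)) *
        (1 + u 1 (τ γ q.1) * (γ + u γ q.1 * (q.1 - γ) - 1)) := fun q => by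
      have e1 := hu γ q.1 (hneR γ q honγ')
      have e2 := hu 1 (τ γ q.1) (hneR 1 ⟨_, hTR γ honγ' q⟩ hon1')
      have e3 := hu 0 (τ 1 (τ γ q.1)) (hneR 0 ⟨_, hTR 1 hon1' ⟨_, hTR γ honγ' q⟩⟩ hon0)
      rw [hkey q, zero_add, sub_zero] at e3
      conv_lhs => rw [e3]
      congr 1
      conv_lhs => rw [e2]
      rw [← e1]
    have hu1 : u γ r.1 = u γ r'.1 := if_congr h1 rfl rfl
    have hu2 : u 1 (τ γ r.1) = u 1 (τ γ r'.1) := if_congr h2 rfl rfl
    have hu3 : u 0 (τ 1 (τ γ r.1)) = u 0 (τ 1 (τ γ r'.1)) := if_congr h3 rfl rfl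
    have hr := hval r
    have hr' := hval r'
    rw [← hu1, ← hu2, ← hu3] at hr'
    have hlin : (u 0 (τ 1 (τ γ r.1)) * (u 1 (τ γ r.1) * u γ r.1) - 1) * (r.1 - r'.1) = 0 := by
      linear_combination (-1 : ZMod p) * hr + hr'
    refine Subtype.ext (sub_eq_zero.mp ((mul_eq_zero.mp hlin).resolve_left ?_))
    have huval : ∀ a j, u a j = γ ∨ u a j = 1 - γ := fun a j => by
      simp only [u]; split_ifs <;> simp
    have h2' : (2 : ZMod p) ≠ 0 := fun h => by
      have h2c : ((2 : ℕ) : ZMod p) = 0 := by exact_mod_cast h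
      rw [ZMod.natCast_eq_zero_iff] at h2c
      exact absurd (Nat.le_of_dvd two_pos h2c) (by omega)
    intro hK
    rcases huval 0 (τ 1 (τ γ r.1)) with a1 | a1 <;> rcases huval 1 (τ γ r.1) with a2 | a2 <;>
      rcases huval γ r.1 with a3 | a3 <;> rw [a1, a2, a3] at hK <;>
      first
        | exact h2' (by linear_combination (-1 : ZMod p) * hK - (γ + 1) * hq)
        | exact h2' (by linear_combination (-1 : ZMod p) * hK - (2 - γ) * hq)
        | exact hγ1 (by linear_combination hK - γ * hq)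
        | exact hγ0 (by linear_combination (-1 : ZMod p) * hK + (1 - γ) * hq)
  have hR : Fintype.card R = p - 3 := by
    have h3 : (Finset.univ.filter onLine).card = 3 := by
      rw [show Finset.univ.filter onLine = ({0, 1, γ} : Finset (ZMod p)) by
        ext j; simp [onLine]]
      rw [Finset.card_eq_three]
      exact ⟨0, 1, γ, zero_ne_one, hγ0.symm, hγ1.symm, rfl⟩
    rw [Fintype.card_subtype_compl, ZMod.card, Fintype.card_subtype, h3]
  have hle := Fintype.card_le_of_injective code hcode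
  rw [hR] at hle
  simp only [Fintype.card_prod, Fintype.card_bool] at hle
  have hp := (Fact.out : p.Prime)
  have : p = 11 := by
    have : p ≤ 11 := by omega
    rcases (show p = 8 ∨ p = 9 ∨ p = 10 ∨ p = 11 by omega) with h | h | h | h <;>
      first | exact h | (rw [h] at hp; exact absurd hp (by decide))
  have h10 := ZMod.pow_card_sub_one_eq_one hγ0
  rw [show p - 1 = 10 by omega] at h10
  have hcube : γ ^ 3 = -1 := by linear_combination (-1 - γ) * hq
  have hγm : γ = -1 := by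
    have h9 : γ ^ 10 = -γ := by
      calc γ ^ 10 = (γ ^ 3) ^ 3 * γ := by ring
        _ = -γ := by rw [hcube]; ring
    rw [h10] at h9
    linear_combination h9
  have h3 : ((3 : ℕ) : ZMod p) = 0 := by
    rw [hγm] at hq
    push_cast
    linear_combination (-1 : ZMod p) * hq
  rw [ZMod.natCast_eq_zero_iff] at h3
  exact absurd (Nat.le_of_dvd (by norm_num) h3) (by omega)

end CfsgLib.Perm
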