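import Mathlib.Data.Nat.Prime.Basic
import Mathlib.Tactic

/-!
The orders of the exceptional regular linear groups.
-/

set_option autoImplicit false

namespace CfsgLib.Perm.RegularLinear

theorem mul_lt_pow {m c K : ℕ} (hm : 2 ≤ m) (hK : 1 ≤ K) (h : c * K < m ^ K) :
    ∀ k, K ≤ k → c * k < m ^ k := by
  intro k hk
  induction k, hk using Nat.le_induction with
  | base => exact h
  | succ k hk ih =>
    have h1 : c * (k + 1) ≤ 2 * (c * k) := by nlinarith
    have h2 : 2 * m ^ k ≤ m ^ k * m := by nlinarith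
    rw [pow_succ]
    omega

theorem sub_one_sq (q : ℕ) : q ^ 2 - 1 = (q + 1) * (q - 1) := by
  rcases q with _ | q
  · rfl
  · rw [Nat.add_sub_cancel, Nat.sub_eq_iff_eq_add (Nat.one_le_pow _ _ (by omega))]
    ring

theorem cube_le {q n l : ℕ} (hq : 2 ≤ q) (hn : 0 < n) (hl : 3 ≤ l)
    (h : q ^ l - 1 ∣ n * (q - 1)) : q * q + q + 1 ≤ n := by
  have h1 : q ^ 3 - 1 ≤ n * (q - 1) :=
    le_trans (Nat.sub_le_sub_right (Nat.pow_le_pow_right (by omega) hl) 1)
      (Nat.le_of_dvd (Nat.mul_pos hn (by omega)) h)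
  refine Nat.le_of_mul_le_mul_right (le_trans (le_of_eq ?_) h1) (by omega : 0 < q - 1)
  obtain ⟨k, rfl⟩ : ∃ k, q = k + 1 := ⟨q - 1, by omega⟩
  rw [Nat.add_sub_cancel]
  symm
  rw [Nat.sub_eq_iff_eq_add (Nat.one_le_pow _ _ (by omega))]
  ring

theorem arith_aux {q n l : ℕ} (hq : 2 ≤ q) (hl : 2 ≤ l) (hn : 0 < n)
    (h : q ^ l - 1 ∣ n * (q - 1)) : (l = 2 ∧ q + 1 ∣ n) ∨ (3 ≤ l ∧ q * q + q + 1 ≤ n) := by
  rcases Nat.lt_or_ge l 3 with h3 | h3
  · obtain rfl : l = 2 := by omega
    rw [sub_one_sq] at h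
    exact Or.inl ⟨rfl, Nat.dvd_of_mul_dvd_mul_right (by omega) h⟩
  · exact Or.inr ⟨h3, cube_le hq hn h3 h⟩

/-- The arithmetic of the case of a normal `SL(2, 5)`. -/
theorem arith_sl25 {p k l : ℕ} (hp : p.Prime) (h7 : 7 ≤ p) (hk : 0 < k) (hl : 2 ≤ l)
    (h : (p ^ k) ^ l - 1 ∣ 120 * k * (p ^ k - 1)) : k = 1 ∧ l = 2 ∧ p + 1 ∣ 120 := by
  have hq : 7 ^ k ≤ p ^ k := Nat.pow_le_pow_left h7 k
  have hq7 : 7 ≤ p ^ k := le_trans h7 (Nat.le_self_pow (by omega) p)
  have hk4 : 4 ≤ k → 120 * k < 7 ^ k := mul_lt_pow (by norm_num) (by norm_num) (by norm_num) k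
  rcases arith_aux (by omega) hl (by omega) h with ⟨rfl, hd⟩ | ⟨h3, hle⟩
  · have hle := Nat.le_of_dvd (by omega) hd
    obtain rfl | rfl | rfl | hk' : k = 1 ∨ k = 2 ∨ k = 3 ∨ 4 ≤ k := by omega
    · exact ⟨rfl, rfl, by simpa using hd⟩
    · have : p ≤ 15 := by nlinarith
      interval_cases p <;> revert hp hd <;> norm_num
    · have : p ≤ 7 := by
        by_contra h8
        have := Nat.pow_le_pow_left (show 8 ≤ p by omega) 3
        omega
      interval_cases p
      norm_num at hd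
    · have := hk4 hk'
      omega
  · obtain rfl | rfl | rfl | hk' : k = 1 ∨ k = 2 ∨ k = 3 ∨ 4 ≤ k := by omega
    · rw [pow_one] at hle h
      have : p ≤ 10 := by nlinarith
      obtain rfl : p = 7 := by interval_cases p <;> first | rfl | exact absurd hp (by norm_num)
      exfalso
      have hl4 : l < 4 := by
        by_contra hge
        have h1 := Nat.le_of_dvd (by norm_num) h
        have h2 := Nat.pow_le_pow_right (show 0 < 7 by norm_num) (show 4 ≤ l by omega)
        omega
      obtain rfl : l = 3 := by omega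
      norm_num at h
    · nlinarith
    · nlinarith
    · have := hk4 hk'
      nlinarith

/-- The arithmetic of the case of a normal quaternion group of order eight. -/
theorem arith_q8 {p k l : ℕ} (hp : p.Prime) (h3 : 3 ≤ p) (hk : 0 < k) (hl : 2 ≤ l)
    (h : (p ^ k) ^ l - 1 ∣ 24 * k * (p ^ k - 1)) : k = 1 ∧ l = 2 ∧ p + 1 ∣ 24 := by
  have hq : 3 ^ k ≤ p ^ k := Nat.pow_le_pow_left h3 k
  have hq3 : 3 ≤ p ^ k := le_trans h3 (Nat.le_self_pow (by omega) p)
  have hk5 : 5 ≤ k → 24 * k < 3 ^ k := mul_lt_pow (by norm_num) (by norm_num) (by norm_num) k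
  rcases arith_aux (by omega) hl (by omega) h with ⟨rfl, hd⟩ | ⟨h3', hle⟩
  · have hle := Nat.le_of_dvd (by omega) hd
    obtain rfl | rfl | rfl | rfl | hk' : k = 1 ∨ k = 2 ∨ k = 3 ∨ k = 4 ∨ 5 ≤ k := by omega
    · exact ⟨rfl, rfl, by simpa using hd⟩
    · have : p ≤ 6 := by nlinarith
      interval_cases p <;> revert hp hd <;> norm_num
    · have : p ≤ 4 := by
        by_contra h5
        have := Nat.pow_le_pow_left (show 5 ≤ p by omega) 3
        omega
      interval_cases p <;> revert hp hd <;> norm_num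
    · have : p ≤ 3 := by
        by_contra h4
        have := Nat.pow_le_pow_left (show 4 ≤ p by omega) 4
        omega
      interval_cases p
      norm_num at hd
    · have := hk5 hk'
      omega
  · obtain rfl | rfl | rfl | rfl | hk' : k = 1 ∨ k = 2 ∨ k = 3 ∨ k = 4 ∨ 5 ≤ k := by omega
    · rw [pow_one] at hle h
      have : p ≤ 4 := by nlinarith
      obtain rfl : p = 3 := by interval_cases p <;> first | rfl | exact absurd hp (by norm_num)
      exfalso
      have hl4 : l < 4 := by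
        by_contra hge
        have h1 := Nat.le_of_dvd (by norm_num) h
        have h2 := Nat.pow_le_pow_right (show 0 < 3 by norm_num) (show 4 ≤ l by omega)
        omega
      obtain rfl : l = 3 := by omega
      norm_num at h
    · nlinarith
    · nlinarith
    · nlinarith
    · have := hk5 hk'
      nlinarith

end CfsgLib.Perm.RegularLinear
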