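import Cfsg.Agent.Lib.Semilinear.NormalAbelian
import Cfsg.Agent.Lib.Zassenhaus.Transfer
import Cfsg.Agent.Lib.Zassenhaus.Structure

/-!
Groups of linear maps regular on the nonzero vectors.
-/

set_option autoImplicit false
set_option linter.style.haveILetI false

namespace CfsgLib.Perm.RegularLinear

open Subgroup

variable {p : ℕ} [Fact p.Prime] {V : Type*} [AddCommGroup V] [Module (ZMod p) V] [Finite V]
  {H : Subgroup (V ≃ₗ[ZMod p] V)}
  (hreg : ∀ v w : V, v ≠ 0 → w ≠ 0 → ∃! h : H, (h : V ≃ₗ[ZMod p] V) v = w)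

include hreg

theorem free (v : V) (hv : v ≠ 0) (h : H) (he : (h : V ≃ₗ[ZMod p] V) v = v) : h = 1 :=
  (hreg v v hv hv).unique he rfl

theorem finite : Finite H :=
  haveI : Finite (V ≃ₗ[ZMod p] V) := Finite.of_injective (fun e v => e v) DFunLike.coe_injective
  inferInstance

variable [Nontrivial V]

theorem natCard_add_one : Nat.card H + 1 = Nat.card V := by
  classical
  haveI := finite hreg
  obtain ⟨v0, hv0⟩ := exists_ne (0 : V)
  have hb : Function.Bijective (fun h : H => (⟨(h : V ≃ₗ[ZMod p] V) v0,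
      fun e => hv0 ((h : V ≃ₗ[ZMod p] V).map_eq_zero_iff.1 e)⟩ : {v : V // v ≠ 0})) := by
    refine ⟨fun g h e => ?_, fun w => ?_⟩
    · exact (hreg v0 _ hv0 (fun e => hv0 ((h : V ≃ₗ[ZMod p] V).map_eq_zero_iff.1 e))).unique
        (congrArg Subtype.val e) rfl
    · obtain ⟨h, hh, -⟩ := hreg v0 w hv0 w.2
      exact ⟨h, Subtype.ext hh⟩
  haveI : Fintype V := Fintype.ofFinite V
  rw [Nat.card_eq_of_bijective _ hb, Nat.card_eq_fintype_card, Nat.card_eq_fintype_card,
    Fintype.card_subtype_compl, Fintype.card_subtype_eq]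
  exact Nat.sub_add_cancel (Fintype.card_pos (α := V))

theorem exists_card_eq_pow : ∃ n, 0 < n ∧ Nat.card V = p ^ n := by
  refine ⟨Module.finrank (ZMod p) V, ?_, ?_⟩
  · haveI : Module.Finite (ZMod p) V := Module.Finite.of_finite
    exact Module.finrank_pos
  · rw [Module.natCard_eq_pow_finrank (K := ZMod p) (V := V), Nat.card_zmod]

theorem not_dvd_card : ¬ p ∣ Nat.card H := by
  intro hd
  obtain ⟨n, hn, hV⟩ := exists_card_eq_pow hreg
  have h1 : p ∣ Nat.card V := hV ▸ dvd_pow_self p hn.ne'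
  rw [← natCard_add_one hreg] at h1
  exact (Fact.out : p.Prime).not_dvd_one ((Nat.dvd_add_right hd).1 h1)

theorem hasFpf : CfsgLib.Zassenhaus.HasFpf H :=
  haveI := finite hreg
  CfsgLib.Zassenhaus.HasFpf.of_linearEquiv H fun h h1 v hv => by
    by_contra hv0
    exact h1 (free hreg v hv0 h hv)

/-- What an abelian normal subgroup gives: the field it generates and the consequences. -/
theorem field_data (A : Subgroup H) [A.Normal] (hA : IsMulCommutative A) :
    ∃ k l : ℕ, 0 < k ∧ 0 < l ∧ Nat.card V = (p ^ k) ^ l ∧ Nat.card A ∣ p ^ k - 1 ∧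
      (Subgroup.centralizer (A : Set H)).index ∣ k ∧
      (l = 1 → ∀ x ∈ Subgroup.centralizer (A : Set H), ∀ y ∈ Subgroup.centralizer (A : Set H),
        x * y = y * x) ∧
      (∃ W : Submodule (ZMod p) V, W ≠ ⊥ ∧ (∀ a ∈ A, ∀ v ∈ W, ((a : H) : V ≃ₗ[ZMod p] V) v ∈ W) ∧
        (∀ W' : Submodule (ZMod p) V, W' ≤ W →
          (∀ a ∈ A, ∀ v ∈ W', ((a : H) : V ≃ₗ[ZMod p] V) v ∈ W') → W' = ⊥ ∨ W' = W) ∧
        Module.finrank (ZMod p) W = k) ∧
      (l = 1 → ∀ W : Submodule (ZMod p) V,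
        (∀ a ∈ A, ∀ v ∈ W, ((a : H) : V ≃ₗ[ZMod p] V) v ∈ W) → W = ⊥ ∨ W = ⊤) := by
  classical
  haveI := finite hreg
  have hp : p.Prime := Fact.out
  obtain ⟨v0, hv0⟩ := exists_ne (0 : V)
  have hsm : ∀ (h : H) (v : V), h • v = (h : V ≃ₗ[ZMod p] V) v := fun _ _ => rfl
  have hfree : ∀ v : V, v ≠ 0 → ∀ h : H, h • v = v → h = 1 := fun v hv h he => free hreg v hv h he
  obtain ⟨F, iF, iFF, φ, σ, ι, hφ, hsemi, hι, hker⟩ :=
    CfsgLib.Semilinear.exists_field_of_abelian_normal (G := H) (V := V)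
      (fun v w hv hw => (hreg v w hv hw).exists)
      (fun h hh => hfree v0 hv0 h (hh v0)) A (fun a ha b hb => setLike_mul_comm ha hb)
  -- evaluation at a nonzero vector is injective
  have hev : ∀ v : V, v ≠ 0 → ∀ f f' : F, φ f v = φ f' v → f = f' := by
    intro v hv f f' h
    by_contra hne
    refine hv (hφ (f - f') (sub_ne_zero.2 hne) ?_)
    rw [map_zero, map_sub]
    show φ f v - φ f' v = 0
    rw [h, sub_self]
  have hιinj : Function.Injective ι := fun a b h => by
    have : ((b : H)⁻¹ * a) • v0 = v0 := by rw [mul_smul, ← hι, h, hι, inv_smul_smul]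
    exact Subtype.ext (inv_mul_eq_one.1 (hfree v0 hv0 _ this)).symm
  -- the subfield generated by the image of `A`
  set F₀ : Subring F := Subring.closure (Set.range ι) with hF₀
  haveI : IsDomain F₀ := inferInstance
  letI iField : Field F₀ := (Finite.isDomain_to_isField F₀).toField
  letI : Fintype F₀ := Fintype.ofFinite F₀
  have hmemι : ∀ a : A, ι a ∈ F₀ := fun a => Subring.subset_closure ⟨a, rfl⟩
  let φ₀ : F₀ →+* AddMonoid.End V := φ.comp F₀.subtype
  letI iMod : Module F₀ V := Module.compHom V φ₀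
  haveI : CharP F₀ p := by
    have hq0 : (p : F₀) = 0 := by
      apply Subtype.ext
      show ((p : F₀) : F) = 0
      rw [SubringClass.coe_natCast]
      refine hev v0 hv0 _ _ ?_
      rw [map_natCast, map_zero]
      show p • v0 = 0
      rw [← Nat.cast_smul_eq_nsmul (ZMod p), ZMod.natCast_self, zero_smul]
    exact (CharP.charP_iff_prime_eq_zero hp).2 hq0
  obtain ⟨k', -, hcardF⟩ := FiniteField.card F₀ p
  set k := (k' : ℕ)
  have hk : 0 < k := k'.pos
  have hcardV : Nat.card V = (p ^ k) ^ Module.finrank F₀ V := by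
    rw [Module.natCard_eq_pow_finrank (K := F₀) (V := V), Nat.card_eq_fintype_card, hcardF]
  have hl : 0 < Module.finrank F₀ V := by
    haveI : Module.Finite F₀ V := Module.Finite.of_finite
    exact Module.finrank_pos
  -- the automorphisms
  have hσι : ∀ (g : H) (a : A),
      σ g (ι a) = ι ⟨g * a * g⁻¹, Subgroup.Normal.conj_mem inferInstance _ a.2 g⟩ := fun g a => by
    refine hev (g • v0) (fun e => hv0 ((smul_eq_zero_iff_eq g).1 e)) _ _ ?_
    rw [← hsemi, hι, hι, smul_smul, smul_smul, inv_mul_cancel_right]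
  have hσmem : ∀ (g : H), ∀ x ∈ F₀, σ g x ∈ F₀ := by
    intro g x hx
    induction hx using Subring.closure_induction with
    | mem x hx => obtain ⟨a, rfl⟩ := hx; rw [hσι]; exact hmemι _
    | zero => simp
    | one => simp [one_mem]
    | add x y _ _ hx hy => rw [map_add]; exact add_mem hx hy
    | neg x _ hx => rw [map_neg]; exact neg_mem hx
    | mul x y _ _ hx hy => rw [map_mul]; exact mul_mem hx hy
  let σ₀ : H →* (F₀ ≃+* F₀) := MonoidHom.mk' (fun g =>
    { toFun := fun x => ⟨σ g x.1, hσmem g x.1 x.2⟩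
      invFun := fun x => ⟨σ g⁻¹ x.1, hσmem g⁻¹ x.1 x.2⟩
      left_inv := fun x => Subtype.ext (show σ g⁻¹ (σ g x.1) = x.1 by
        rw [← RingAut.mul_apply, ← map_mul, inv_mul_cancel, map_one, RingAut.one_apply])
      right_inv := fun x => Subtype.ext (show σ g (σ g⁻¹ x.1) = x.1 by
        rw [← RingAut.mul_apply, ← map_mul, mul_inv_cancel, map_one, RingAut.one_apply])
      map_mul' := fun x y => Subtype.ext (map_mul (σ g) x.1 y.1)
      map_add' := fun x y => Subtype.ext (map_add (σ g) x.1 y.1) })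
    (fun g h => RingEquiv.ext fun x => Subtype.ext (by
      show σ (g * h) x.1 = σ g (σ h x.1)
      rw [map_mul]; rfl))
  have hker₀ : σ₀.ker = Subgroup.centralizer (A : Set H) := by
    rw [← hker]
    ext g
    rw [MonoidHom.mem_ker, MonoidHom.mem_ker]
    constructor
    · intro hg
      rw [← MonoidHom.mem_ker, hker, Subgroup.mem_centralizer_iff]
      intro a ha
      have h : σ g (ι ⟨a, ha⟩) = ι ⟨a, ha⟩ :=
        congrArg (fun e : F₀ ≃+* F₀ => (e ⟨ι ⟨a, ha⟩, hmemι _⟩).1) hg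
      rw [hσι] at h
      exact (mul_inv_eq_iff_eq_mul.1 (congrArg Subtype.val (hιinj h))).symm
    · intro hg
      refine RingEquiv.ext fun x => Subtype.ext ?_
      show σ g x.1 = x.1
      rw [hg]; rfl
  have hidx : (Subgroup.centralizer (A : Set H)).index ∣ k := by
    rw [← hker₀, Subgroup.index_ker,
      ← (CfsgLib.Semilinear.isCyclic_ringEquiv_and_card (F := F₀) (q := p) (d := k) hcardF).2]
    exact Subgroup.card_subgroup_dvd_card _
  have hAdvd : Nat.card A ∣ p ^ k - 1 := by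
    let ι₀ : A →* F₀ :=
      { toFun := fun a => ⟨ι a, hmemι a⟩
        map_one' := Subtype.ext (map_one ι)
        map_mul' := fun a b => Subtype.ext (map_mul ι a b) }
    have h := Subgroup.card_dvd_of_injective ι₀.toHomUnits fun a b h =>
      hιinj (congrArg (fun u : F₀ˣ => (u : F₀).1) h)
    rwa [Nat.card_units, Nat.card_eq_fintype_card (α := F₀), hcardF] at h
  -- invariant subspaces absorb the field
  have habs : ∀ W' : Submodule (ZMod p) V,
      (∀ a ∈ A, ∀ v ∈ W', ((a : H) : V ≃ₗ[ZMod p] V) v ∈ W') →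
      ∀ x ∈ F₀, ∀ v ∈ W', φ x v ∈ W' := by
    intro W' hW' x hx
    induction hx using Subring.closure_induction with
    | mem x hx =>
      obtain ⟨a, rfl⟩ := hx
      intro v hv
      rw [hι]
      exact hW' a a.2 v hv
    | zero => intro v _; rw [map_zero]; exact zero_mem W'
    | one => intro v hv; rw [map_one]; exact hv
    | add x y _ _ hx hy => intro v hv; rw [map_add]; exact add_mem (hx v hv) (hy v hv)
    | neg x _ hx => intro v hv; rw [map_neg]; exact neg_mem (hx v hv)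
    | mul x y _ _ hx hy => intro v hv; rw [map_mul]; exact hx _ (hy v hv)
  -- the line through `v0`
  let lv : F₀ →+ V := AddMonoidHom.mk' (fun x => φ x.1 v0) fun x y => by
    show φ (x.1 + y.1) v0 = _
    rw [map_add]; rfl
  have hlv : Function.Injective lv := fun x y h => Subtype.ext (hev v0 hv0 _ _ h)
  let W : Submodule (ZMod p) V := AddSubgroup.toZModSubmodule p lv.range
  have hWmem : ∀ v, v ∈ W ↔ ∃ x : F₀, φ x.1 v0 = v := fun v => Iff.rfl
  have hWcard : Nat.card W = p ^ k := by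
    rw [← hcardF, ← Nat.card_eq_fintype_card]
    exact Nat.card_congr (AddMonoidHom.ofInjective hlv).symm.toEquiv
  refine ⟨k, Module.finrank F₀ V, hk, hl, hcardV, hAdvd, hidx, ?_, ⟨W, ?_, ?_, ?_, ?_⟩, ?_⟩
  · intro hl1 x hx y hy
    have hbij : Function.Bijective lv := (Nat.bijective_iff_injective_and_card _).2
      ⟨hlv, by rw [hcardV, hl1, pow_one, Nat.card_eq_fintype_card, hcardF]⟩
    obtain ⟨f, hf⟩ := hbij.2 (x • v0)
    obtain ⟨f', hf'⟩ := hbij.2 (y • v0)
    have hσ1 : ∀ z ∈ Subgroup.centralizer (A : Set H), ∀ w : F₀, σ z w.1 = w.1 := fun z hz w => by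
      rw [← hker₀] at hz
      exact congrArg (fun e : F₀ ≃+* F₀ => (e w).1) hz
    have key : (x * y) • v0 = (y * x) • v0 := by
      rw [mul_smul, mul_smul, ← hf', show lv f' = φ f'.1 v0 from rfl, hsemi, hσ1 x hx, ← hf,
        show lv f = φ f.1 v0 from rfl, hsemi, hσ1 y hy, ← hf', show lv f' = φ f'.1 v0 from rfl]
      show (φ f'.1 * φ f.1) v0 = (φ f.1 * φ f'.1) v0
      rw [← map_mul, ← map_mul, mul_comm]
    have h1 : ((y * x)⁻¹ * (x * y)) • v0 = v0 := by rw [mul_smul, key, inv_smul_smul]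
    exact (inv_mul_eq_one.1 (hfree v0 hv0 _ h1)).symm
  · exact (Submodule.ne_bot_iff W).2 ⟨v0, (hWmem v0).2 ⟨1, by rw [OneMemClass.coe_one, map_one]; rfl⟩, hv0⟩
  · intro a ha v hv
    obtain ⟨x, rfl⟩ := (hWmem v).1 hv
    refine (hWmem _).2 ⟨⟨ι ⟨a, ha⟩, hmemι _⟩ * x, ?_⟩
    rw [Subring.coe_mul, map_mul]
    exact hι ⟨a, ha⟩ (φ x.1 v0)
  · intro W' hW' hinv
    refine or_iff_not_imp_left.2 fun hne => le_antisymm hW' ?_
    obtain ⟨w, hw, hw0⟩ := Submodule.exists_mem_ne_zero_of_ne_bot hne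
    obtain ⟨x, hx⟩ := (hWmem w).1 (hW' hw)
    have hx0 : x ≠ 0 := fun e => hw0 (by rw [← hx, e, ZeroMemClass.coe_zero, map_zero]; rfl)
    intro v hv
    obtain ⟨y, rfl⟩ := (hWmem v).1 hv
    have := habs W' hinv (y * x⁻¹).1 (y * x⁻¹).2 w hw
    rw [← hx] at this
    change (φ (y * x⁻¹).1 * φ x.1) v0 ∈ W' at this
    rwa [← map_mul, ← Subring.coe_mul, inv_mul_cancel_right₀ hx0] at this
  · have h := Module.natCard_eq_pow_finrank (K := ZMod p) (V := W)
    rw [hWcard, Nat.card_zmod] at h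
    exact (Nat.pow_right_injective hp.two_le h).symm
  · intro hl1 W' hinv
    refine or_iff_not_imp_left.2 fun hne => eq_top_iff.2 fun v _ => ?_
    obtain ⟨w, hw, hw0⟩ := Submodule.exists_mem_ne_zero_of_ne_bot hne
    let lw : F₀ →+ V := AddMonoidHom.mk' (fun x => φ x.1 w) fun x y => by
      show φ (x.1 + y.1) w = _
      rw [map_add]; rfl
    have hbij : Function.Bijective lw := (Nat.bijective_iff_injective_and_card _).2
      ⟨fun x y h => Subtype.ext (hev w hw0 _ _ h),
        by rw [hcardV, hl1, pow_one, Nat.card_eq_fintype_card, hcardF]⟩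
    obtain ⟨x, rfl⟩ := hbij.2 v
    exact habs W' hinv x.1 x.2 w hw

end CfsgLib.Perm.RegularLinear
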