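import Cfsg.Agent.Lib.Perm.RegularLinear
import Cfsg.Agent.Lib.Zassenhaus.Main
import Cfsg.Agent.S0016
import Mathlib.GroupTheory.Nilpotent
import Mathlib.GroupTheory.GroupAction.ConjAct

/-!
Minimal nonabelian normal subgroups in the centraliser of a maximal abelian normal subgroup.
-/

set_option autoImplicit false
set_option linter.style.haveILetI false
set_option linter.unusedSectionVars false

open scoped commutatorElement
open Subgroup

namespace CfsgLib.Perm.RegularLinear

open CfsgLib.Zassenhaus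

variable {G : Type*} [Group G] [Finite G]

theorem isCyclic_of_isSmall_nilpotent (hG : HasFpf G) {K : Subgroup G} (hK : IsSmall K)
    [Group.IsNilpotent K] : IsCyclic K := by
  haveI := hG.isZGroup hK
  infer_instance

/-- A quaternion subgroup of exponent four. -/
theorem nonempty_quat8 (hG : HasFpf G) {P : Subgroup G} {t : G} (h : IsQuat P t 2) :
    Nonempty (P ≃* QuaternionGroup 2) := by
  haveI : Fact (Nat.Prime 2) := ⟨Nat.prime_two⟩
  have hinv : ∀ X : Subgroup P, Nat.card X = 2 → ∃ x : P, x ∈ X ∧ (x : G) ^ 2 = 1 ∧ (x : G) ≠ 1 ∧ X = zpowers x := by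
    intro X hX
    obtain ⟨x, hx⟩ := exists_prime_orderOf_dvd_card' (G := X) 2 (by rw [hX])
    rw [← Subgroup.orderOf_coe] at hx
    refine ⟨x, x.2, ?_, ?_, ?_⟩
    · rw [← Subgroup.coe_pow, ← hx, pow_orderOf_eq_one]; rfl
    · intro e
      rw [Subtype.ext e (a2 := (1 : P)), orderOf_one] at hx
      omega
    · exact (eq_of_le_of_card_ge (zpowers_le.2 x.2) (by rw [hX, Nat.card_zpowers, hx])).symm
  rcases Cfsg.Agent.S0016.result 2 h.isPGroup (fun X Y hX hY => by
      obtain ⟨x, -, hx2, hx1, rfl⟩ := hinv X hX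
      obtain ⟨y, -, hy2, hy1, rfl⟩ := hinv Y hY
      rw [show x = y from Subtype.ext (hG.involution_unique hx2 hx1 hy2 hy1)]) with hc | ⟨-, n, ⟨e⟩⟩
  · exact absurd hc h.not_isCyclic
  have hc := Nat.card_congr e.toEquiv
  haveI : NeZero (2 ^ n) := ⟨by positivity⟩
  rw [h.card, Nat.card_eq_fintype_card, QuaternionGroup.card] at hc
  have hn : n = 1 := Nat.pow_right_injective le_rfl (show 2 ^ n = 2 ^ 1 by omega)
  subst hn
  exact ⟨e⟩

theorem commutator_eq_top {N : Subgroup G} (h : ⁅N, N⁆ = N) : _root_.commutator N = ⊤ := by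
  apply Subgroup.map_injective N.subtype_injective
  rw [map_subtype_commutator, ← MonoidHom.range_eq_map, N.range_subtype, h]

theorem eq_of_le_centralizer {A B : Subgroup G} [A.Normal] [B.Normal] (hAc : IsMulCommutative A)
    (hAmax : ∀ C : Subgroup G, C.Normal → IsMulCommutative C → A ≤ C → C = A)
    (hBc : IsMulCommutative B) (hBA : B ≤ Subgroup.centralizer (A : Set G)) : B ≤ A := by
  haveI := hAc
  haveI := hBc
  have h : ∀ x ∈ A ⊔ B, ∀ y ∈ A ⊔ B, x * y = y * x := by
    intro x hx y hy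
    obtain ⟨a, ha, b, hb, rfl⟩ := mem_sup_of_normal_left.1 hx
    obtain ⟨a', ha', b', hb', rfl⟩ := mem_sup_of_normal_left.1 hy
    have h1 : Commute a a' := setLike_mul_comm ha ha'
    have h2 : Commute b b' := setLike_mul_comm hb hb'
    have h3 : Commute a b' := mem_centralizer_iff.1 (hBA hb') a ha
    have h4 : Commute b a' := (mem_centralizer_iff.1 (hBA hb) a' ha').symm
    exact ((h1.mul_right h3).mul_left (h4.mul_right h2)).eq
  rw [← hAmax (A ⊔ B) inferInstance ⟨⟨fun x y => Subtype.ext (h x x.2 y y.2)⟩⟩ le_sup_left]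
  exact le_sup_right

theorem minimal_normal (hG : HasFpf G) {A N : Subgroup G} [A.Normal] [N.Normal]
    (hAc : IsMulCommutative A)
    (hAmax : ∀ C : Subgroup G, C.Normal → IsMulCommutative C → A ≤ C → C = A)
    (hNA : N ≤ Subgroup.centralizer (A : Set G)) (hNna : ¬ IsMulCommutative N)
    (hNmin : ∀ M : Subgroup G, M.Normal → M ≤ N → ¬ IsMulCommutative M → M = N) :
    Nonempty (N ≃* QuaternionGroup 2) ∨
      (⁅N, N⁆ = N ∧ Nonempty (N ≃* Matrix.SpecialLinearGroup (Fin 2) (ZMod 5))) := by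
  haveI : Fact (Nat.Prime 2) := ⟨Nat.prime_two⟩
  by_cases hperf : ⁅N, N⁆ = N
  · haveI : Nontrivial N := by
      by_contra h
      rw [not_nontrivial_iff_subsingleton] at h
      exact hNna ⟨⟨fun a b => Subsingleton.elim _ _⟩⟩
    exact Or.inr ⟨hperf, (hG.subgroup N).nonempty_mulEquiv_SL25 (commutator_eq_top hperf)⟩
  left
  have hKN : ⁅N, N⁆ ≤ N := commutator_le_self N
  have hKc : IsMulCommutative (⁅N, N⁆ : Subgroup G) := by
    by_contra h
    exact hperf (hNmin _ inferInstance hKN h)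
  have hKA : ⁅N, N⁆ ≤ A := eq_of_le_centralizer hAc hAmax hKc (hKN.trans hNA)
  haveI : Group.IsNilpotent N := by
    refine Subgroup.isNilpotent_of_ker_le_center (Abelianization.of : N →* Abelianization N) ?_
    rw [Abelianization.ker_of]
    intro x hx
    refine mem_center_iff.2 fun y => Subtype.ext ?_
    have hxA : (x : G) ∈ A := hKA (by rw [← map_subtype_commutator]; exact ⟨x, hx, rfl⟩)
    exact (mem_centralizer_iff.1 (hNA y.2) x hxA).symm
  by_cases hsmall : IsSmall N
  · haveI := isCyclic_of_isSmall_nilpotent hG hsmall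
    exact (hNna inferInstance).elim
  simp only [IsSmall, not_forall] at hsmall
  obtain ⟨Q, hQN, hQ2, hQc⟩ := hsmall
  obtain ⟨P, hP⟩ := (show IsPGroup 2 (Q.subgroupOf N) from
    hQ2.of_equiv (subgroupOfEquivOfLe hQN).symm).exists_le_sylow
  set P' := (P : Subgroup N).map N.subtype
  have hQP : Q ≤ P' := fun x hx => ⟨⟨x, hQN hx⟩, hP (show (⟨x, hQN hx⟩ : N) ∈ Q.subgroupOf N from hx), rfl⟩
  obtain ⟨t, a, hquat⟩ : ∃ t a, IsQuat P' t a := by
    rcases hG.cyclic_or_quat (P := P') (p := 2) (P.2.map _) with h | ⟨-, h⟩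
    · exact absurd (isCyclic_of_injective (Subgroup.inclusion hQP) (inclusion_injective hQP)) hQc
    · exact h
  haveI : (P : Subgroup N).Normal := inferInstance
  haveI : (P : Subgroup N).Characteristic := Sylow.characteristic_of_normal P inferInstance
  haveI : P'.Normal := ConjAct.normal_of_characteristic_of_normal
  have hna : ¬ IsMulCommutative P' := fun h => hquat.not_isCyclic
    (hG.isCyclic_of_comm fun x hx y hy => setLike_mul_comm hx hy)
  have hPN : P' = N := hNmin P' inferInstance (map_subtype_le _) hna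
  rw [hPN] at hquat
  have ha2 : a = 2 := by
    obtain ⟨b, hb, hbt⟩ := hquat.exists_outer
    have hcomm : ⁅b, t⁆ ∈ A := hKA (commutator_mem_commutator hb hquat.mem)
    have h2 : ⁅b, t⁆ = t⁻¹ * t⁻¹ := by
      rw [commutatorElement_def, (hquat.outer b hb hbt).2]
    have h3 : b * ⁅b, t⁆ * b⁻¹ = ⁅b, t⁆ := by
      rw [← mem_centralizer_iff.1 (hNA hb) _ hcomm, mul_inv_cancel_right]
    rw [h2, ← conj_mul, ← conj_inv, (hquat.outer b hb hbt).2] at h3
    have h4 : t ^ 4 = 1 := by
      rw [inv_inv] at h3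
      calc t ^ 4 = (t⁻¹ * t⁻¹)⁻¹ * (t * t) := by group
        _ = 1 := by rw [h3]; group
    have := Nat.le_of_dvd (by norm_num) (orderOf_dvd_of_pow_eq_one h4)
    rw [hquat.orderOf_t] at this
    have := hquat.two_le
    omega
  subst ha2
  exact nonempty_quat8 hG hquat

theorem exists_four {N : Type*} [Group N] (h : Nonempty (N ≃* QuaternionGroup 2)) :
    ∃ y : N, orderOf y = 4 := by
  obtain ⟨e⟩ := h
  exact ⟨e.symm (QuaternionGroup.a 1), by
    rw [MulEquiv.orderOf_eq, QuaternionGroup.orderOf_a_one]⟩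

variable {p : ℕ} {V : Type*} [AddCommGroup V] [Module (ZMod p) V]
  {H : Subgroup (V ≃ₗ[ZMod p] V)}

theorem nontrivial_of_reducible
    (hI : ∀ A : Subgroup H, A.Normal → IsCyclic A →
      ∃ W : Submodule (ZMod p) V, W ≠ ⊥ ∧ W ≠ ⊤ ∧
        ∀ a ∈ A, ∀ v ∈ W, ((a : H) : V ≃ₗ[ZMod p] V) v ∈ W) : Nontrivial V := by
  obtain ⟨W, hb, -, -⟩ := hI ⊥ inferInstance inferInstance
  by_contra h
  rw [not_nontrivial_iff_subsingleton] at h
  exact hb (Subsingleton.elim _ _)

end CfsgLib.Perm.RegularLinear
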