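import Mathlib
import Cfsg.Agent.S0713

/-!
A quintuply transitive group whose degree is `3 + 2 r` or `4 + 3 r`, `r ≥ 5` prime, contains the
alternating group.

A Sylow `r`-subgroup `R` of the pointwise stabiliser of three (four) points has two (three) orbits
on the rest. Its normaliser induces the symmetric group on the fixed points, while the second
derived subgroup of the normaliser centralises `R` and preserves its orbits; the `r`-th power of
such an element moves fixed points only.
-/

set_option autoImplicit false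
set_option linter.style.haveILetI false

namespace CfsgLib.Perm.Twin

open MulAction

variable {α : Type*} [Fintype α] [DecidableEq α]

theorem perm_apply_inv {β : Type*} (g : Equiv.Perm β) (x : β) : g (g⁻¹ x) = x :=
  g.apply_symm_apply x

/-- The permutations preserving the image of `e`, normalising `R` and lying in `G`. -/
def frameNormalizer {t : ℕ} (G R : Subgroup (Equiv.Perm α)) (e : Fin t ↪ α) :
    Subgroup (Equiv.Perm α) where
  carrier := {g | g ∈ G ∧ g ∈ Subgroup.normalizer (R : Set (Equiv.Perm α)) ∧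
    ∀ x, g x ∈ Set.range e ↔ x ∈ Set.range e}
  one_mem' := ⟨G.one_mem, Subgroup.one_mem _, fun x => Iff.rfl⟩
  mul_mem' := fun {g k} hg hk => ⟨G.mul_mem hg.1 hk.1, Subgroup.mul_mem _ hg.2.1 hk.2.1,
    fun x => (hg.2.2 (k x)).trans (hk.2.2 x)⟩
  inv_mem' := fun {g} hg => ⟨G.inv_mem hg.1, Subgroup.inv_mem _ hg.2.1, fun x => by
    have := hg.2.2 (g⁻¹ x)
    rw [perm_apply_inv] at this
    exact this.symm⟩

/-- Elements inducing given permutations compose. -/
theorem induced_mul {t : ℕ} {e : Fin t ↪ α} {g k : Equiv.Perm α} {σ τ : Equiv.Perm (Fin t)}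
    (hg : ∀ i, g (e i) = e (σ i)) (hk : ∀ i, k (e i) = e (τ i)) :
    ∀ i, (g * k) (e i) = e ((σ * τ) i) := fun i => by
  rw [Equiv.Perm.mul_apply, hk, hg, Equiv.Perm.mul_apply]

theorem induced_inv {t : ℕ} {e : Fin t ↪ α} {g : Equiv.Perm α} {σ : Equiv.Perm (Fin t)}
    (hg : ∀ i, g (e i) = e (σ i)) : ∀ i, g⁻¹ (e i) = e (σ⁻¹ i) := fun i => by
  rw [Equiv.Perm.inv_eq_iff_eq, hg, perm_apply_inv]

theorem induced_pow {t : ℕ} {e : Fin t ↪ α} {g : Equiv.Perm α} {σ : Equiv.Perm (Fin t)}
    (hg : ∀ i, g (e i) = e (σ i)) (n : ℕ) : ∀ i, (g ^ n) (e i) = e ((σ ^ n) i) := by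
  induction n with
  | zero => simp
  | succ n ih => rw [pow_succ, pow_succ]; exact induced_mul ih hg

theorem induced_commutator {t : ℕ} {e : Fin t ↪ α} {g k : Equiv.Perm α}
    {σ τ : Equiv.Perm (Fin t)} (hg : ∀ i, g (e i) = e (σ i)) (hk : ∀ i, k (e i) = e (τ i)) :
    ∀ i, (g * k * g⁻¹ * k⁻¹) (e i) = e ((σ * τ * σ⁻¹ * τ⁻¹) i) :=
  induced_mul (induced_mul (induced_mul hg hk) (induced_inv hg)) (induced_inv hk)

/-- An element preserving the image of a frame and every other point is a permutation of the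
frame; a double transposition gives a three-cycle in a quadruply transitive group. -/
theorem threeCycle_of_double {G : Subgroup (Equiv.Perm α)} (h4 : IsMultiplyPretransitive G α 4)
    (e : Fin 4 ↪ α) (z : α) (hz : z ∉ Set.range e) {w : Equiv.Perm α} (hw : w ∈ G)
    (σ : Equiv.Perm (Fin 4)) (hσ : σ * σ = 1) (hσ' : ∀ i, σ i ≠ i)
    (hwe : ∀ i, w (e i) = e (σ i)) (hwo : ∀ x, x ∉ Set.range e → w x = x) :
    ∃ c ∈ G, c.IsThreeCycle := by
  classical
  obtain ⟨j, hj, hj3⟩ : ∃ j, σ j = 3 ∧ j ≠ 3 := by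
    refine ⟨σ 3, ?_, hσ' 3⟩
    have := Equiv.Perm.congr_fun hσ 3
    simpa using this
  have h3j : σ 3 = j := by
    have := Equiv.Perm.congr_fun hσ j
    rw [Equiv.Perm.mul_apply, hj] at this
    simpa using this
  let f : Fin 4 ↪ α := ⟨fun i => if i = 3 then z else e i, by
    intro i i' h
    by_cases hi : i = 3 <;> by_cases hi' : i' = 3 <;> simp [hi, hi'] at h
    · exact hi.trans hi'.symm
    · exact absurd ⟨i', h.symm⟩ hz
    · exact absurd ⟨i, h⟩ hz
    · exact h⟩
  obtain ⟨⟨g, hg⟩, hgf⟩ := exists_smul_eq G e f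
  have hge : ∀ i, g (e i) = if i = 3 then z else e i := fun i => DFunLike.congr_fun hgf i
  have hg3 : g (e 3) = z := by rw [hge, if_pos rfl]
  have hgi : ∀ i, i ≠ 3 → g (e i) = e i := fun i hi => by rw [hge, if_neg hi]
  have hgi' : ∀ i, i ≠ 3 → g⁻¹ (e i) = e i := fun i hi => by
    rw [Equiv.Perm.inv_eq_iff_eq, hgi i hi]
  have hgz : g⁻¹ z = e 3 := by rw [Equiv.Perm.inv_eq_iff_eq, hg3]
  have hg3' : g⁻¹ (e 3) ∉ Set.range e := by
    rintro ⟨i, hi⟩
    rw [Equiv.Perm.eq_inv_iff_eq, hge] at hi
    by_cases hi3 : i = 3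
    · rw [if_pos hi3] at hi; exact hz ⟨3, hi.symm⟩
    · rw [if_neg hi3] at hi; exact hi3 (e.injective hi)
  refine ⟨g * w * g⁻¹ * w, G.mul_mem (G.mul_mem (G.mul_mem hg hw) (G.inv_mem hg)) hw, ?_⟩
  set c := g * w * g⁻¹ * w with hc
  have hcj : c (e j) = e 3 := by
    simp only [hc, Equiv.Perm.mul_apply, hwe, hj]
    rw [hwo _ hg3', perm_apply_inv]
  have hc3 : c (e 3) = z := by
    simp only [hc, Equiv.Perm.mul_apply, hwe, h3j]
    rw [hgi' j hj3, hwe, hj, hg3]
  have hcz : c z = e j := by
    simp only [hc, Equiv.Perm.mul_apply]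
    rw [hwo z hz, hgz, hwe, h3j, hgi j hj3]
  have hfix : ∀ x, x ≠ e j → x ≠ e 3 → x ≠ z → c x = x := by
    intro x hxj hx3 hxz
    simp only [hc, Equiv.Perm.mul_apply]
    by_cases hx : x ∈ Set.range e
    · obtain ⟨i, rfl⟩ := hx
      have hij : i ≠ j := fun h => hxj (by rw [h])
      have hi3 : i ≠ 3 := fun h => hx3 (by rw [h])
      have hs3 : σ i ≠ 3 := fun h => hij (σ.injective (h.trans hj.symm))
      have hs : σ (σ i) = i := by
        have := Equiv.Perm.congr_fun hσ i
        simpa using this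
      rw [hwe, hgi' _ hs3, hwe, hs, hgi i hi3]
    · rw [hwo x hx]
      have : g⁻¹ x ∉ Set.range e := by
        rintro ⟨i, hi⟩
        rw [Equiv.Perm.eq_inv_iff_eq, hge] at hi
        by_cases hi3 : i = 3
        · rw [if_pos hi3] at hi; exact hxz hi.symm
        · rw [if_neg hi3] at hi; exact hx ⟨i, hi⟩
      rw [hwo _ this, perm_apply_inv]
  have hne1 : e j ≠ e 3 := fun h => hj3 (e.injective h)
  have hne2 : e j ≠ z := fun h => hz ⟨j, h⟩
  have hne3 : e 3 ≠ z := fun h => hz ⟨3, h⟩
  rw [← card_support_eq_three_iff,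
    show c.support = {e j, e 3, z} by
      ext x
      simp only [Equiv.Perm.mem_support, Finset.mem_insert, Finset.mem_singleton]
      constructor
      · intro h
        by_contra hcon
        push Not at hcon
        exact h (hfix x hcon.1 hcon.2.1 hcon.2.2)
      · rintro (rfl | rfl | rfl)
        · rw [hcj]; exact hne1.symm
        · rw [hc3]; exact hne3.symm
        · rw [hcz]; exact hne2]
  rw [Finset.card_eq_three]
  exact ⟨_, _, _, hne1, hne2, hne3, rfl⟩

/-- The main step. -/
theorem alternatingGroup_le_of_small_orbits {j t r : ℕ} (hr : r.Prime) (hr5 : 5 ≤ r)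
    (hjt : j = 2 ∧ t = 3 ∨ j = 3 ∧ t = 4) (hcard : Fintype.card α = t + j * r)
    (G : Subgroup (Equiv.Perm α)) (h5 : IsMultiplyPretransitive G α 5) :
    alternatingGroup α ≤ G := by
  classical
  haveI : Fact r.Prime := ⟨hr⟩
  have hj23 : j = 2 ∨ j = 3 := hjt.imp (fun h => h.1) (fun h => h.1)
  have hnat : Nat.card α = t + j * r := by rw [Nat.card_eq_fintype_card, hcard]
  have hjr : 10 ≤ j * r := by
    have : 2 * 5 ≤ j * r := Nat.mul_le_mul (by omega) hr5
    omega
  have hmt : ∀ k, k ≤ 5 → IsMultiplyPretransitive G α k := fun k hk =>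
    isMultiplyPretransitive_of_le (n := 5) hk (by rw [Nat.card_eq_fintype_card, hcard]; omega)
  have hprim : IsPreprimitive G α := isPreprimitive_of_is_two_pretransitive (hmt 2 (by omega))
  by_contra hA
  obtain ⟨e⟩ : Nonempty (Fin t ↪ α) :=
    Function.Embedding.nonempty_of_card_le (by rw [Fintype.card_fin, hcard]; omega)
  -- the pointwise stabiliser and its Sylow subgroup
  let H : Subgroup (Equiv.Perm α) :=
    { carrier := {g | g ∈ G ∧ ∀ i, g (e i) = e i}
      one_mem' := ⟨G.one_mem, fun i => rfl⟩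
      mul_mem' := fun {g k} hg hk => ⟨G.mul_mem hg.1 hk.1, fun i => by
        rw [Equiv.Perm.mul_apply, hk.2, hg.2]⟩
      inv_mem' := fun {g} hg => ⟨G.inv_mem hg.1, fun i => by
        rw [Equiv.Perm.inv_eq_iff_eq, hg.2]⟩ }
  obtain ⟨P⟩ : Nonempty (Sylow r H) := inferInstance
  set R := (P : Subgroup H).map H.subtype with hR
  have hRH : R ≤ H := Subgroup.map_subtype_le _
  have hRG : R ≤ G := fun g hg => (hRH hg).1
  -- orbits of `R` off the frame
  let β := {x : α // x ∉ Set.range e}
  have hβ : Nat.card β = j * r := by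
    have h := Fintype.card_subtype_compl (fun x : α => x ∈ Set.range e)
    rw [hcard, show Fintype.card {x : α // x ∈ Set.range e} = t by
      exact (Fintype.card_congr (Equiv.ofInjective e e.injective)).symm.trans (Fintype.card_fin t),
      Nat.add_sub_cancel_left] at h
    rw [Nat.card_eq_fintype_card]
    exact h
  have hstab : ∀ g : R, ∀ x, x ∉ Set.range e → (g : Equiv.Perm α) x ∉ Set.range e := by
    rintro g x hx ⟨i, hi⟩
    rw [← (hRH g.2).2 i] at hi
    exact hx ⟨i, (g : Equiv.Perm α).injective hi⟩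
  letI : MulAction R β :=
    { smul := fun g x => ⟨(g : Equiv.Perm α) x, hstab g x x.2⟩
      one_smul := fun x => Subtype.ext rfl
      mul_smul := fun g k x => Subtype.ext rfl }
  have hsmul : ∀ (g : R) (x : β), ((g • x : β) : α) = (g : Equiv.Perm α) x := fun g x => rfl
  have hRp : IsPGroup r R := P.isPGroup'.map _
  -- orbits have size `r`
  have horb : ∀ x : β, Nat.card (orbit R x) = r := by
    intro x
    obtain ⟨k, hk⟩ := hRp.card_orbit x
    have hk2 : k < 2 := by
      by_contra hk2
      have h1 : r ^ 2 ≤ r ^ k := Nat.pow_le_pow_right hr.pos (by omega)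
      have h2 : Nat.card (orbit R x) ≤ Nat.card β :=
        Nat.card_le_card_of_injective _ Subtype.val_injective
      rw [hk, hβ] at h2
      have h3 : j * r ≤ 3 * r := Nat.mul_le_mul_right r (by omega)
      have h4 : 5 * r ≤ r * r := Nat.mul_le_mul_right r hr5
      rw [sq] at h1
      omega
    interval_cases k
    · exfalso
      rw [pow_zero] at hk
      -- a fixed point off the frame
      have hfix : ∀ g ∈ R, g (x : α) = (x : α) := by
        intro g hg
        obtain ⟨hs, -⟩ := Nat.card_eq_one_iff_unique.mp hk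
        have := hs.elim (⟨(⟨g, hg⟩ : R) • x, mem_orbit x (⟨g, hg⟩ : R)⟩ : orbit R x)
          (⟨x, mem_orbit_self x⟩ : orbit R x)
        exact congrArg (fun y : orbit R x => ((y : β) : α)) this
      letI : MulAction H β :=
        { smul := fun g y => ⟨(g : Equiv.Perm α) y, by
            rintro ⟨i, hi⟩
            rw [← g.2.2 i] at hi
            exact y.2 ⟨i, (g : Equiv.Perm α).injective hi⟩⟩
          one_smul := fun y => Subtype.ext rfl
          mul_smul := fun g k y => Subtype.ext rfl }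
      haveI : IsPretransitive H β := ⟨fun y y' => by
        let u : Fin (t + 1) ↪ α := ⟨Fin.snoc e (y : α), Fin.snoc_injective_iff.mpr ⟨e.injective, y.2⟩⟩
        let u' : Fin (t + 1) ↪ α :=
          ⟨Fin.snoc e (y' : α), Fin.snoc_injective_iff.mpr ⟨e.injective, y'.2⟩⟩
        haveI := hmt (t + 1) (by omega)
        obtain ⟨⟨g, hg⟩, hgu⟩ := exists_smul_eq G u u'
        refine ⟨⟨g, hg, fun i => ?_⟩, Subtype.ext ?_⟩
        · have := DFunLike.congr_fun hgu (Fin.castSucc i)
          simpa [u, u'] using this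
        · have := DFunLike.congr_fun hgu (Fin.last t)
          show g (y : α) = y'
          simpa [u, u'] using this⟩
      have hPx : (P : Subgroup H) ≤ stabilizer H x := fun g hg =>
        Subtype.ext (hfix _ (Subgroup.mem_map_of_mem _ hg))
      apply P.not_dvd_index
      exact (show r ∣ (stabilizer H x).index by
        rw [index_stabilizer_of_transitive, hβ]; exact dvd_mul_left r j).trans
          (Subgroup.index_dvd_of_le hPx)
    · rw [hk, pow_one]
  -- there are `j` orbits
  let Q := orbitRel.Quotient R β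
  haveI : Fintype Q := Fintype.ofFinite Q
  have hQ : Fintype.card Q = j := by
    have h := Nat.card_congr (selfEquivSigmaOrbits R β)
    rw [Nat.card_sigma, hβ, Finset.sum_congr rfl (fun ω _ => horb ω.out), Finset.sum_const,
      Finset.card_univ, smul_eq_mul] at h
    exact (Nat.eq_of_mul_eq_mul_right hr.pos h).symm
  -- elements of `R` on an orbit
  have hpow : ∀ g ∈ R, ∀ x : β, (g ^ r) (x : α) = (x : α) := by
    intro g hg x
    have hidx : (stabilizer R x).index = r := by
      rw [index_stabilizer, ← Nat.card_coe_set_eq, horb]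
    haveI : (stabilizer R x).Normal :=
      Subgroup.normal_of_index_eq_minFac_card (by
        rw [hidx]
        obtain ⟨n, hn⟩ := IsPGroup.iff_card.mp hRp
        have hn0 : n ≠ 0 := by
          rintro rfl
          have := (stabilizer R x).index_dvd_card
          rw [hn, hidx, pow_zero, Nat.dvd_one] at this
          exact hr.one_lt.ne' this
        rw [hn, Nat.pow_minFac hn0, hr.minFac_eq])
    have h := Subgroup.pow_index_mem (stabilizer R x) ⟨g, hg⟩
    rw [hidx, mem_stabilizer_iff] at h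
    exact congrArg Subtype.val h
  have hord : ∀ g ∈ R, g ^ r = 1 := by
    intro g hg
    refine Equiv.ext fun x => ?_
    by_cases hx : x ∈ Set.range e
    · obtain ⟨i, rfl⟩ := hx
      exact ((hRH (R.pow_mem hg r)).2 i)
    · exact hpow g hg ⟨x, hx⟩
  -- an element moving one orbit only is trivial
  have hone : ∀ g ∈ R, ∀ ω : Q, (∀ x : β, (Quotient.mk'' x : Q) ≠ ω → g (x : α) = x) → g = 1 := by
    intro g hg ω hω
    by_contra hg1
    apply hA
    have hgo : orderOf g = r := orderOf_eq_prime (hord g hg) hg1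
    have hsupp : g.support.card ≤ r := by
      have hsub : g.support ⊆ ((orbit R ω.out).toFinset.map ⟨Subtype.val, Subtype.val_injective⟩) := by
        intro x hx
        rw [Equiv.Perm.mem_support] at hx
        have hxe : x ∉ Set.range e := by
          rintro ⟨i, rfl⟩
          exact hx ((hRH hg).2 i)
        have hxω : (Quotient.mk'' ⟨x, hxe⟩ : Q) = ω := by
          by_contra h
          exact hx (hω ⟨x, hxe⟩ h)
        simp only [Finset.mem_map, Set.mem_toFinset, Function.Embedding.coeFn_mk]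
        refine ⟨⟨x, hxe⟩, ?_, rfl⟩
        rw [← orbitRel_apply, ← Quotient.eq'', hxω, Quotient.out_eq']
      refine (Finset.card_le_card hsub).trans (le_of_eq ?_)
      rw [Finset.card_map, ← Set.ncard_eq_toFinset_card', ← Nat.card_coe_set_eq, horb]
    have hsupp2 : 2 ≤ g.support.card := Equiv.Perm.two_le_card_support_of_ne_one hg1
    have hcyc : g.IsCycle := Equiv.Perm.isCycle_of_prime_order (hgo.symm ▸ hr)
      (by rw [hgo]; omega)
    have h2r : 2 * r ≤ j * r := Nat.mul_le_mul_right r (by omega)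
    exact Cfsg.Agent.S0713.result G hprim hr (by omega) (by omega) hcyc
      (hcyc.orderOf ▸ hgo) (hRG hg)
  -- `R` is commutative
  have hcomm : ∀ g ∈ R, ∀ k ∈ R, g * k = k * g := by
    intro g hg k hk
    refine Equiv.ext fun x => ?_
    by_cases hx : x ∈ Set.range e
    · obtain ⟨i, rfl⟩ := hx
      rw [Equiv.Perm.mul_apply, Equiv.Perm.mul_apply, (hRH hg).2, (hRH hk).2, (hRH hg).2]
    let y : β := ⟨x, hx⟩
    have hidx : (stabilizer R y).index = r := by
      rw [index_stabilizer, ← Nat.card_coe_set_eq, horb]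
    haveI : (stabilizer R y).Normal :=
      Subgroup.normal_of_index_eq_minFac_card (by
        rw [hidx]
        obtain ⟨n, hn⟩ := IsPGroup.iff_card.mp hRp
        have hn0 : n ≠ 0 := by
          rintro rfl
          have := (stabilizer R y).index_dvd_card
          rw [hn, hidx, pow_zero, Nat.dvd_one] at this
          exact hr.one_lt.ne' this
        rw [hn, Nat.pow_minFac hn0, hr.minFac_eq])
    have hcq : IsCyclic (R ⧸ stabilizer R y) := isCyclic_of_prime_card
      (p := r) (by rw [← Subgroup.index_eq_card, hidx])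
    have h : ((⟨g, hg⟩ : R) : R ⧸ stabilizer R y) * ((⟨k, hk⟩ : R) : R ⧸ stabilizer R y)
        = ((⟨k, hk⟩ : R) : R ⧸ stabilizer R y) * ((⟨g, hg⟩ : R) : R ⧸ stabilizer R y) :=
      (IsCyclic.commutative (α := R ⧸ stabilizer R y)).is_comm.comm _ _
    rw [← QuotientGroup.mk_mul, ← QuotientGroup.mk_mul, QuotientGroup.eq, mem_stabilizer_iff,
      mul_smul, inv_smul_eq_iff] at h
    exact (congrArg Subtype.val h).symm
  -- scalar action on each orbit
  have hagree : ∀ g ∈ R, ∀ k ∈ R, ∀ x y : β, (Quotient.mk'' y : Q) = Quotient.mk'' x →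
      g (x : α) = k x → g (y : α) = k y := by
    intro g hg k hk x y hxy hgk
    obtain ⟨⟨l, hl⟩, rfl⟩ := (orbitRel_apply).mp (Quotient.eq''.mp hxy)
    show (g * l) (x : α) = (k * l) x
    rw [hcomm g hg l hl, hcomm k hk l hl, Equiv.Perm.mul_apply, Equiv.Perm.mul_apply, hgk]
  have hgen : ∀ x : β, ∃ g₀ ∈ R, ∀ g ∈ R, ∃ i : ℕ, g (x : α) = (g₀ ^ i) x := by
    intro x
    obtain ⟨g₀, hg₀, hne⟩ : ∃ g₀ ∈ R, g₀ (x : α) ≠ x := by
      by_contra h
      push Not at h
      have hsub : (orbit R x) ⊆ {x} := by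
        rintro _ ⟨⟨g, hg⟩, rfl⟩
        exact Subtype.ext (h g hg)
      have := horb x
      rw [Nat.card_coe_set_eq] at this
      have h1 := (Set.ncard_le_ncard hsub).trans_eq (Set.ncard_singleton x)
      have := hr.one_lt
      omega
    refine ⟨g₀, hg₀, ?_⟩
    have hinj : Function.Injective (fun i : Fin r => (⟨g₀ ^ (i : ℕ), R.pow_mem hg₀ _⟩ : R) • x) := by
      intro i i' h
      have h' : (g₀ ^ (i : ℕ)) (x : α) = (g₀ ^ (i' : ℕ)) x := congrArg Subtype.val h
      by_contra hii
      apply hne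
      wlog hlt : (i : ℕ) < i' generalizing i i'
      · exact this h.symm h'.symm (Ne.symm hii) (lt_of_le_of_ne (Nat.le_of_not_lt hlt)
          fun h => hii (Fin.ext h.symm))
      have h1 : (g₀ ^ ((i' : ℕ) - i)) (x : α) = x := by
        apply (g₀ ^ (i : ℕ)).injective
        rw [← Equiv.Perm.mul_apply, ← pow_add, Nat.add_sub_cancel' hlt.le, h']
      have hco : Nat.Coprime ((i' : ℕ) - i) r := ((hr.coprime_iff_not_dvd).mpr fun hd => by
        have := Nat.le_of_dvd (by omega) hd; have := i'.isLt; omega).symm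
      obtain ⟨m, hm⟩ := exists_pow_eq_self_of_coprime (x := g₀) (n := (i' : ℕ) - i) (by
        rwa [orderOf_eq_prime (hord g₀ hg₀) (fun h => by
          apply hne; rw [h]; rfl)])
      rw [← hm]
      have : ∀ n : ℕ, ((g₀ ^ ((i' : ℕ) - i)) ^ n) (x : α) = x := fun n => by
        induction n with
        | zero => rfl
        | succ n ih => rw [pow_succ, Equiv.Perm.mul_apply, h1, ih]
      exact this m
    intro g hg
    have hbij := (Function.Injective.bijective_of_nat_card_le
      (f := fun i : Fin r => (⟨(⟨g₀ ^ (i : ℕ), R.pow_mem hg₀ _⟩ : R) • x, mem_orbit x _⟩ : orbit R x))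
      (fun i i' h => hinj (congrArg Subtype.val h)) (by rw [horb, Nat.card_fin]))
    obtain ⟨i, hi⟩ := hbij.2 ⟨(⟨g, hg⟩ : R) • x, mem_orbit x _⟩
    exact ⟨i, (congrArg (fun z : orbit R x => ((z : β) : α)) hi).symm⟩
  -- the frame normaliser and its action on the orbits
  let N := frameNormalizer G R e
  have hNβ : ∀ n : N, ∀ x, x ∉ Set.range e → (n : Equiv.Perm α) x ∉ Set.range e := fun n x hx =>
    mt (n.2.2.2 x).mp hx
  have hNR : ∀ n : N, ∀ g ∈ R, (n : Equiv.Perm α) * g * (n : Equiv.Perm α)⁻¹ ∈ R := fun n g hg =>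
    (Subgroup.mem_normalizer_iff.mp n.2.2.1 g).mp hg
  let π₀ : N → Q → Q := fun n => Quotient.map' (fun x : β => ⟨(n : Equiv.Perm α) x, hNβ n x x.2⟩)
    (fun x y hxy => by
      obtain ⟨⟨g, hg⟩, rfl⟩ := hxy
      refine ⟨⟨_, hNR n g hg⟩, Subtype.ext ?_⟩
      show ((n : Equiv.Perm α) * g * (n : Equiv.Perm α)⁻¹) ((n : Equiv.Perm α) y) = _
      simp [hsmul])
  have hπ1 : ∀ ω, π₀ 1 ω = ω := fun ω => Quotient.inductionOn' ω fun x => rfl
  have hπm : ∀ n m ω, π₀ (n * m) ω = π₀ n (π₀ m ω) := fun n m ω =>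
    Quotient.inductionOn' ω fun x => rfl
  letI : MulAction N Q := { smul := π₀, one_smul := hπ1, mul_smul := hπm }
  let π := MulAction.toPermHom N Q
  let Φ : N →* MulAut R := (R.normalizerMonoidHom).comp
    { toFun := fun n : N => (⟨n, n.2.2.1⟩ : Subgroup.normalizer (R : Set (Equiv.Perm α)))
      map_one' := rfl
      map_mul' := fun _ _ => rfl }
  have hΦ : ∀ (n : N) (g : R), ((Φ n g : R) : Equiv.Perm α) = (n : Equiv.Perm α) * g * (n : Equiv.Perm α)⁻¹ :=
    fun n g => rfl
  -- orbit preserving elements act on `R` as scalars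
  have hscal : ∀ n : N, π n = 1 → ∃ c : ℤ, ∀ g : R, Φ n g = g ^ c := by
    intro n hn
    have hnω : ∀ ω : Q, ∃ c : ℤ, ∀ g : R, ∀ x : β, (Quotient.mk'' x : Q) = ω →
        ((Φ n g : R) : Equiv.Perm α) x = ((g : Equiv.Perm α) ^ c) x := by
      intro ω
      induction ω using Quotient.inductionOn' with
      | h x₀ =>
        obtain ⟨g₀, hg₀, hgen₀⟩ := hgen x₀
        obtain ⟨c, hc⟩ := hgen₀ _ (Φ n ⟨g₀, hg₀⟩).2
        refine ⟨c, fun g x hx => ?_⟩
        obtain ⟨i, hi⟩ := hgen₀ _ g.2
        have hgi : ∀ y : β, (Quotient.mk'' y : Q) = Quotient.mk'' x₀ →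
            (g : Equiv.Perm α) y = (g₀ ^ i) y := fun y hy =>
          hagree _ g.2 _ (R.pow_mem hg₀ i) x₀ y hy hi
        have hy : (Quotient.mk'' ⟨(n : Equiv.Perm α)⁻¹ x, hNβ n⁻¹ x x.2⟩ : Q) = Quotient.mk'' x₀ := by
          have h2 := Equiv.Perm.congr_fun hn (Quotient.mk'' ⟨(n : Equiv.Perm α)⁻¹ x, hNβ n⁻¹ x x.2⟩)
          rw [Equiv.Perm.one_apply] at h2
          refine h2.symm.trans ?_
          show (Quotient.mk'' _ : Q) = _
          rw [← hx]
          refine congrArg Quotient.mk'' (Subtype.ext ?_)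
          exact perm_apply_inv _ _
        have h1 : ((Φ n g : R) : Equiv.Perm α) x
            = (((Φ n ⟨g₀, hg₀⟩ : R) ^ i : R) : Equiv.Perm α) x := by
          rw [← map_pow, hΦ, hΦ, Equiv.Perm.mul_apply, Equiv.Perm.mul_apply, Equiv.Perm.mul_apply,
            Equiv.Perm.mul_apply]
          exact congrArg _ (hgi ⟨_, hNβ n⁻¹ x x.2⟩ hy)
        have h2 : ((Φ n ⟨g₀, hg₀⟩ : R) : Equiv.Perm α) x = (g₀ ^ c) (x : α) :=
          hagree _ (Φ n _).2 _ (R.pow_mem hg₀ c) x₀ x hx hc
        have h3 : ∀ m : ℕ, (((Φ n ⟨g₀, hg₀⟩ : R) : Equiv.Perm α) ^ m) x = (g₀ ^ (c * m)) (x : α) := by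
          intro m
          induction m with
          | zero => simp
          | succ m ih =>
            have hca := hcomm _ (R.pow_mem hg₀ (c * m)) _ (Φ n ⟨g₀, hg₀⟩).2
            rw [pow_succ', Equiv.Perm.mul_apply, ih, ← Equiv.Perm.mul_apply, ← hca,
              Equiv.Perm.mul_apply, h2, ← Equiv.Perm.mul_apply, ← pow_add, Nat.mul_succ]
        have h4 : ∀ m : ℕ, ((g : Equiv.Perm α) ^ m) x = (g₀ ^ (i * m)) (x : α) := by
          intro m
          induction m with
          | zero => simp
          | succ m ih =>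
            have hca := hcomm _ (R.pow_mem hg₀ (i * m)) _ g.2
            rw [pow_succ', Equiv.Perm.mul_apply, ih, ← Equiv.Perm.mul_apply, ← hca,
              Equiv.Perm.mul_apply, hgi x hx, ← Equiv.Perm.mul_apply, ← pow_add, Nat.mul_succ]
        rw [h1, Subgroup.coe_pow, h3, zpow_natCast, h4, mul_comm]
    choose c hc using hnω
    -- the orbits on which two scalars agree
    have hkill : ∀ (g : R) (a b : Q), (r : ℤ) ∣ c a - c b → ∀ x : β, (Quotient.mk'' x : Q) = b →
        ((Φ n g : R) : Equiv.Perm α) x = ((g : Equiv.Perm α) ^ c a) x := by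
      intro g a b hab x hx
      rw [hc b g x hx]
      obtain ⟨m, hm⟩ := hab
      rw [show c a = c b + (r : ℤ) * m by omega, zpow_add, zpow_mul, zpow_natCast, hord _ g.2,
        one_zpow, mul_one]
    have hfin : ∀ (a b : Q), a ≠ b → (r : ℤ) ∣ c a - c b → (j = 3 → True) →
        ∃ d : ℤ, ∀ g : R, Φ n g = g ^ d := by
      intro a b hab hdvd _
      refine ⟨c a, fun g => ?_⟩
      obtain ⟨ω, hω⟩ : ∃ ω : Q, ∀ ω', ω' ≠ ω → ω' = a ∨ ω' = b := by
        rcases hj23 with hj | hj
        · refine ⟨a, fun ω' hω' => ?_⟩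
          by_contra h
          push Not at h
          have h3 : ({ω', a, b} : Finset Q).card = 3 :=
            Finset.card_eq_three.mpr ⟨_, _, _, h.1, h.2, hab, rfl⟩
          have := Finset.card_le_univ ({ω', a, b} : Finset Q)
          omega
        · obtain ⟨ω, -, hω⟩ := Finset.exists_mem_notMem_of_card_lt_card (s := ({a, b} : Finset Q))
            (t := Finset.univ) (by rw [Finset.card_pair hab, Finset.card_univ, hQ, hj]; omega)
          simp only [Finset.mem_insert, Finset.mem_singleton, not_or] at hω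
          refine ⟨ω, fun ω' hω' => ?_⟩
          by_contra h
          push Not at h
          have h4 : ({ω', ω, a, b} : Finset Q).card = 4 := by
            rw [Finset.card_insert_of_notMem, Finset.card_insert_of_notMem, Finset.card_pair hab]
            · simp [hω.1, hω.2]
            · simp [hω', h.1, h.2]
          have := Finset.card_le_univ ({ω', ω, a, b} : Finset Q)
          omega
      have h := hone (((Φ n g) * (g ^ c a)⁻¹ : R) : Equiv.Perm α) (SetLike.coe_mem _) ω fun x hx => by
        have he : ((Φ n g : R) : Equiv.Perm α) x = ((g : Equiv.Perm α) ^ c a) x := by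
          rcases hω _ hx with h | h
          · exact hc a g x h
          · exact hkill g a b hdvd x h
        have hca := hcomm _ (Φ n g).2 _ (R.inv_mem (R.zpow_mem g.2 (c a)))
        rw [Subgroup.coe_mul, Subgroup.coe_inv, Subgroup.coe_zpow, hca, Equiv.Perm.mul_apply, he]
        simp
      exact mul_inv_eq_one.mp (Subtype.ext h)
    rcases hj23 with hj | hj
    · -- two orbits
      obtain ⟨a⟩ : Nonempty Q := Fintype.card_pos_iff.mp (by omega)
      refine ⟨c a, fun g => ?_⟩
      obtain ⟨b, -, hb⟩ := Finset.exists_mem_notMem_of_card_lt_card (s := ({a} : Finset Q))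
        (t := Finset.univ) (by rw [Finset.card_singleton, Finset.card_univ, hQ, hj]; omega)
      simp only [Finset.mem_singleton] at hb
      have h := hone (((Φ n g) * (g ^ c a)⁻¹ : R) : Equiv.Perm α) (SetLike.coe_mem _) b fun x hx => by
        have hxa : (Quotient.mk'' x : Q) = a := by
          by_contra hxa
          have h3 : ({(Quotient.mk'' x : Q), a, b} : Finset Q).card = 3 :=
            Finset.card_eq_three.mpr ⟨_, _, _, hxa, hx, Ne.symm hb, rfl⟩
          have := Finset.card_le_univ ({(Quotient.mk'' x : Q), a, b} : Finset Q)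
          omega
        have hca := hcomm _ (Φ n g).2 _ (R.inv_mem (R.zpow_mem g.2 (c a)))
        rw [Subgroup.coe_mul, Subgroup.coe_inv, Subgroup.coe_zpow, hca, Equiv.Perm.mul_apply,
          hc a g x hxa]
        simp
      exact mul_inv_eq_one.mp (Subtype.ext h)
    · -- three orbits: two of the scalars agree
      obtain ⟨a, b, d, hab, had, hbd, huniv⟩ := Finset.card_eq_three.mp
        (show (Finset.univ : Finset Q).card = 3 by rw [Finset.card_univ, hQ, hj])
      by_cases h1 : (r : ℤ) ∣ c a - c b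
      · exact hfin a b hab h1 fun _ => trivial
      by_cases h2 : (r : ℤ) ∣ c d - c a
      · exact hfin d a (Ne.symm had) h2 fun _ => trivial
      by_cases h3 : (r : ℤ) ∣ c d - c b
      · exact hfin d b (Ne.symm hbd) h3 fun _ => trivial
      exfalso
      -- an element moving the orbit `d`
      obtain ⟨g₀, hg₀, hgen₀⟩ := hgen d.out
      let g : R := ⟨g₀, hg₀⟩
      let h₁ : R → R := fun g => Φ n g * (g ^ c a)⁻¹
      let h₂ : R → R := fun g => Φ n g * (g ^ c b)⁻¹
      have hh : ∀ (u : Q) (g : R) (x : β) (ω : Q), (Quotient.mk'' x : Q) = ω →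
          ((Φ n g * (g ^ c u)⁻¹ : R) : Equiv.Perm α) x = ((g : Equiv.Perm α) ^ (c ω - c u)) x := by
        intro u g x ω hx
        have hca := hcomm _ (Φ n g).2 _ (R.inv_mem (R.zpow_mem g.2 (c u)))
        rw [Subgroup.coe_mul, Subgroup.coe_inv, Subgroup.coe_zpow, hca, Equiv.Perm.mul_apply,
          hc ω g x hx, ← Equiv.Perm.mul_apply]
        congr 1
        group
      have hzpow : ∀ (g g' : R) (x : β), (g : Equiv.Perm α) x = (g' : Equiv.Perm α) x → ∀ m : ℤ,
          ((g : Equiv.Perm α) ^ m) x = ((g' : Equiv.Perm α) ^ m) x := by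
        intro g g' x hgg m
        have hs : g'⁻¹ * g ∈ stabilizer R x := by
          rw [mem_stabilizer_iff, mul_smul, inv_smul_eq_iff]
          exact Subtype.ext hgg
        have hs' := (stabilizer R x).zpow_mem hs m
        rw [Commute.mul_zpow (show Commute g'⁻¹ g from Subtype.ext
          (hcomm _ (R.inv_mem g'.2) _ g.2)), inv_zpow, mem_stabilizer_iff, mul_smul,
          inv_smul_eq_iff] at hs'
        exact congrArg Subtype.val hs'
      have h12 := hone ((h₂ (h₁ g) : R) : Equiv.Perm α) (SetLike.coe_mem _) d fun x hx => by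
        have hx' : (Quotient.mk'' x : Q) = a ∨ (Quotient.mk'' x : Q) = b := by
          have := Finset.mem_univ (Quotient.mk'' x : Q)
          rw [huniv] at this
          simp only [Finset.mem_insert, Finset.mem_singleton] at this
          rcases this with h | h | h
          · exact Or.inl h
          · exact Or.inr h
          · exact absurd h hx
        rcases hx' with hxa | hxb
        · rw [hh b (h₁ g) x a hxa, hzpow (h₁ g) (g ^ (c a - c a)) x (by
            rw [hh a g x a hxa, Subgroup.coe_zpow]) (c a - c b)]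
          simp
        · rw [hh b (h₁ g) x b hxb, sub_self, zpow_zero, Equiv.Perm.one_apply]
      have hval : ((h₂ (h₁ g) : R) : Equiv.Perm α) d.out
          = ((g₀ : Equiv.Perm α) ^ ((c d - c a) * (c d - c b))) (d.out : α) := by
        rw [hh b (h₁ g) d.out d (Quotient.out_eq' d), hzpow (h₁ g) (g ^ (c d - c a)) d.out (by
          rw [hh a g d.out d (Quotient.out_eq' d), Subgroup.coe_zpow]) (c d - c b),
          Subgroup.coe_zpow, ← zpow_mul]
      rw [h12, Equiv.Perm.one_apply] at hval
      have hri : ((r : ℤ) ∣ (c d - c a) * (c d - c b)) := by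
        by_contra hnd
        have hfix : g₀ (d.out : α) = d.out := by
          obtain ⟨u, v, huv⟩ : IsCoprime ((c d - c a) * (c d - c b)) (r : ℤ) :=
            ((Nat.prime_iff_prime_int.mp hr).coprime_iff_not_dvd.mpr hnd).symm
          have hs : ((g : R) ^ ((c d - c a) * (c d - c b))) ∈ stabilizer R d.out := by
            rw [mem_stabilizer_iff]
            exact Subtype.ext (by rw [hsmul, Subgroup.coe_zpow]; exact hval.symm)
          have hs2 := (stabilizer R d.out).zpow_mem hs u
          rw [← zpow_mul, show (c d - c a) * (c d - c b) * u = 1 - v * (r : ℤ) by linarith,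
            zpow_sub, zpow_one, mul_comm v, zpow_mul, zpow_natCast,
            show g ^ r = 1 from Subtype.ext (hord g₀ hg₀), one_zpow, inv_one, mul_one] at hs2
          exact congrArg Subtype.val hs2
        -- then the orbit is a point
        have hsub : orbit R d.out ⊆ {d.out} := by
          rintro _ ⟨⟨k, hk⟩, rfl⟩
          obtain ⟨i, hi⟩ := hgen₀ k hk
          refine Subtype.ext (hi.trans ?_)
          clear hi
          induction i with
          | zero => rfl
          | succ i ih => rw [pow_succ, Equiv.Perm.mul_apply, hfix, ih]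
        have := horb d.out
        rw [Nat.card_coe_set_eq] at this
        have h1 := (Set.ncard_le_ncard hsub).trans_eq (Set.ncard_singleton d.out)
        have := hr.one_lt
        omega
      rcases Int.Prime.dvd_mul' hr hri with h | h
      · exact h2 h
      · exact h3 h
  -- scalars are central in the image
  have hcentral : ∀ n m : N, π n = 1 → Commute (Φ n) (Φ m) := by
    intro n m hn
    obtain ⟨c, hc⟩ := hscal n hn
    refine MulEquiv.ext fun g => ?_
    rw [MulAut.mul_apply, MulAut.mul_apply, hc, hc, map_zpow]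
  have hcyclic : ∀ n m : N, π n ∈ Subgroup.zpowers (π m) → Commute (Φ n) (Φ m) := by
    intro n m hnm
    obtain ⟨k, hk⟩ := Subgroup.mem_zpowers_iff.mp hnm
    have h0 : π (n * (m ^ k)⁻¹) = 1 := by rw [map_mul, map_inv, map_zpow, hk, mul_inv_cancel]
    have h1 := (hcentral _ m h0).mul_left ((Commute.refl (Φ m)).zpow_left k)
    rwa [← map_zpow, ← map_mul, inv_mul_cancel_right] at h1
  -- Frattini: the normaliser induces every permutation of the frame
  have hlift : ∀ σ : Equiv.Perm (Fin t), ∃ n : N, ∀ i, (n : Equiv.Perm α) (e i) = e (σ i) := by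
    intro σ
    haveI := hmt t (by omega)
    obtain ⟨⟨k, hk⟩, hke⟩ := exists_smul_eq G e (σ.toEmbedding.trans e)
    have hke' : ∀ i, k (e i) = e (σ i) := fun i => DFunLike.congr_fun hke i
    have hke'' : ∀ i, k⁻¹ (e i) = e (σ⁻¹ i) := induced_inv hke'
    have hR' : (R.map (MulAut.conj k).toMonoidHom) ≤ H := by
      rintro _ ⟨g, hg, rfl⟩
      refine ⟨G.mul_mem (G.mul_mem hk (hRG hg)) (G.inv_mem hk), fun i => ?_⟩
      show k (g (k⁻¹ (e i))) = e i
      rw [hke'', (hRH hg).2, hke', perm_apply_inv]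
    have hcardR : Nat.card ((R.map (MulAut.conj k).toMonoidHom).subgroupOf H) = r ^ (Nat.card H).factorization r := by
      rw [Nat.card_congr (Subgroup.subgroupOfEquivOfLe hR').toEquiv,
        Subgroup.card_map_of_injective (K := R) (MulAut.conj k).injective, hR,
        Subgroup.card_map_of_injective H.subtype_injective, P.card_eq_multiplicity]
    obtain ⟨h, hh⟩ := exists_smul_eq H (Sylow.ofCard _ hcardR) P
    have hh' : ((R.map (MulAut.conj k).toMonoidHom).subgroupOf H).map (MulAut.conj h).toMonoidHom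
        = (P : Subgroup H) := congrArg Sylow.toSubgroup hh
    have hmem : ((h : Equiv.Perm α) * k) ∈ N := by
      refine ⟨G.mul_mem h.2.1 hk, ?_, fun x => ⟨?_, ?_⟩⟩
      · have hle : R.map (MulAut.conj ((h : Equiv.Perm α) * k)).toMonoidHom ≤ R := by
          rintro _ ⟨g, hg, rfl⟩
          have : (MulAut.conj k g) ∈ H := hR' ⟨g, hg, rfl⟩
          have h1 : MulAut.conj h (⟨_, this⟩ : H) ∈ (P : Subgroup H) := by
            rw [← hh']
            exact ⟨_, ⟨g, hg, rfl⟩, rfl⟩
          rw [hR]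
          refine ⟨_, h1, ?_⟩
          simp [mul_assoc]
        have heq := Subgroup.eq_of_le_of_card_ge hle
          (by rw [Subgroup.card_map_of_injective (K := R) (MulAut.conj _).injective])
        rw [Subgroup.mem_normalizer_iff]
        intro g
        conv_rhs => rw [← heq]
        constructor
        · exact fun hg => ⟨g, hg, rfl⟩
        · rintro ⟨g', hg', hgg⟩
          obtain rfl : g' = g := (MulAut.conj _).injective hgg
          exact hg'
      · rintro ⟨i, hi⟩
        refine ⟨σ⁻¹ i, ?_⟩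
        apply ((h : Equiv.Perm α) * k).injective
        rw [← hi, Equiv.Perm.mul_apply, hke', perm_apply_inv, h.2.2]
      · rintro ⟨i, rfl⟩
        exact ⟨σ i, by rw [Equiv.Perm.mul_apply, hke', h.2.2]⟩
    refine ⟨⟨_, hmem⟩, fun i => ?_⟩
    show ((h : Equiv.Perm α) * k) (e i) = _
    rw [Equiv.Perm.mul_apply, hke', h.2.2]
  -- an element centralising `R` and preserving its orbits
  have hdone : ∀ v : N, π v = 1 → Φ v = 1 → ∀ x, x ∉ Set.range e →
      ((v : Equiv.Perm α) ^ r) x = x := by
    intro v hv1 hv2 x hx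
    have hcv : ∀ g ∈ R, (v : Equiv.Perm α) * g = g * (v : Equiv.Perm α) := by
      intro g hg
      have h := congrArg (fun φ : MulAut R => ((φ ⟨g, hg⟩ : R) : Equiv.Perm α)) hv2
      simp only [hΦ, MulAut.one_apply] at h
      exact mul_inv_eq_iff_eq_mul.mp h
    let y : β := ⟨x, hx⟩
    have hvy : (Quotient.mk'' ⟨(v : Equiv.Perm α) x, hNβ v x hx⟩ : Q) = Quotient.mk'' y :=
      Equiv.Perm.congr_fun hv1 (Quotient.mk'' y)
    obtain ⟨⟨g, hg⟩, hgy⟩ := (orbitRel_apply).mp (Quotient.eq''.mp hvy)
    have hgx : (v : Equiv.Perm α) x = g x := (congrArg Subtype.val hgy).symm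
    have hn : ∀ m : ℕ, ((v : Equiv.Perm α) ^ m) x = (g ^ m) x := by
      intro m
      induction m with
      | zero => rfl
      | succ m ih =>
        rw [pow_succ', Equiv.Perm.mul_apply, ih, ← Equiv.Perm.mul_apply,
          hcv _ (R.pow_mem hg m), Equiv.Perm.mul_apply, hgx, pow_succ, Equiv.Perm.mul_apply]
    rw [hn]
    exact congrFun (congrArg DFunLike.coe (hord g hg)) x
  rcases hjt with ⟨hj, rfl⟩ | ⟨hj, rfl⟩
  · obtain ⟨n₁, h₁⟩ := hlift (Equiv.swap 0 1)
    obtain ⟨n₂, h₂⟩ := hlift (Equiv.swap 0 2)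
    have hc : Commute (π n₁) (π n₂) ∧ Commute (Φ n₁) (Φ n₂) := by
      haveI : IsCyclic (Equiv.Perm Q) := isCyclic_of_prime_card (p := 2)
        (by rw [Nat.card_perm, Nat.card_eq_fintype_card, hQ, hj]; rfl)
      refine ⟨(IsCyclic.commutative (α := Equiv.Perm Q)).is_comm.comm _ _, ?_⟩
      by_cases h : π n₂ = 1
      · exact (hcentral _ _ h).symm
      · refine hcyclic _ _ ?_
        rw [zpowers_eq_top_of_prime_card (p := 2)
          (by rw [Nat.card_perm, Nat.card_eq_fintype_card, hQ, hj]; rfl) h]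
        exact Subgroup.mem_top _
    have hv := hdone (n₁ * n₂ * n₁⁻¹ * n₂⁻¹)
      (by simp only [map_mul, map_inv]; rw [hc.1.eq]; simp)
      (by simp only [map_mul, map_inv]; rw [hc.2.eq]; simp)
    set v := ((n₁ * n₂ * n₁⁻¹ * n₂⁻¹ : N) : Equiv.Perm α) with hvdef
    have hve : ∀ i, (v ^ r) (e i) = e ((((Equiv.swap (0 : Fin 3) 1 * Equiv.swap 0 2 *
        (Equiv.swap 0 1)⁻¹ * (Equiv.swap 0 2)⁻¹) ^ r) : Equiv.Perm (Fin 3)) i) :=
      induced_pow (induced_commutator h₁ h₂) r
    set τ := (Equiv.swap (0 : Fin 3) 1 * Equiv.swap 0 2 *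
        (Equiv.swap 0 1)⁻¹ * (Equiv.swap 0 2)⁻¹) with hτ
    have hτ3 : τ ^ 3 = 1 := by rw [hτ]; decide
    have hr3 : r % 3 = 1 ∨ r % 3 = 2 := by
      rcases Nat.lt_or_ge (r % 3) 1 with h | h
      · have h3 : 3 ∣ r := Nat.dvd_of_mod_eq_zero (by omega)
        have := (Nat.prime_dvd_prime_iff_eq Nat.prime_three hr).mp h3
        omega
      · omega
    have hmove : ∀ i, (τ ^ r) i ≠ i := by
      rw [← Nat.div_add_mod r 3, pow_add, pow_mul, hτ3, one_pow, one_mul]
      rcases hr3 with h | h <;> rw [h, hτ] <;> decide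
    apply hA
    refine Equiv.Perm.alternatingGroup_le_of_isPreprimitive_of_isThreeCycle_mem hprim ?_
      (G.pow_mem (n₁ * n₂ * n₁⁻¹ * n₂⁻¹ : N).2.1 r)
    rw [← card_support_eq_three_iff, show (v ^ r).support = Finset.univ.map e by
      ext x
      simp only [Equiv.Perm.mem_support, Finset.mem_map, Finset.mem_univ, true_and]
      constructor
      · intro h
        by_contra hcon
        exact h (hv x fun ⟨i, hi⟩ => hcon ⟨i, hi⟩)
      · rintro ⟨i, rfl⟩ h
        rw [hve] at h
        exact hmove i (e.injective h)]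
    simp
  · obtain ⟨n₁, h₁⟩ := hlift (Equiv.swap 0 1)
    obtain ⟨n₂, h₂⟩ := hlift (Equiv.swap 0 2)
    obtain ⟨n₃, h₃⟩ := hlift (Equiv.swap 0 1)
    obtain ⟨n₄, h₄⟩ := hlift (Equiv.swap 0 3)
    set A := n₁ * n₂ * n₁⁻¹ * n₂⁻¹ with hAdef
    set B := n₃ * n₄ * n₃⁻¹ * n₄⁻¹ with hBdef
    have hAalt : π A ∈ alternatingGroup Q := by
      rw [Equiv.Perm.mem_alternatingGroup, hAdef]
      simp only [map_mul, map_inv]
      rw [mul_right_comm (Equiv.Perm.sign _) (Equiv.Perm.sign _) (Equiv.Perm.sign _)⁻¹, mul_inv_cancel,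
        one_mul, mul_inv_cancel]
    have hBalt : π B ∈ alternatingGroup Q := by
      rw [Equiv.Perm.mem_alternatingGroup, hBdef]
      simp only [map_mul, map_inv]
      rw [mul_right_comm (Equiv.Perm.sign _) (Equiv.Perm.sign _) (Equiv.Perm.sign _)⁻¹, mul_inv_cancel,
        one_mul, mul_inv_cancel]
    have hc : Commute (π A) (π B) ∧ Commute (Φ A) (Φ B) := by
      haveI : Nontrivial Q := Fintype.one_lt_card_iff_nontrivial.mp (by omega)
      have hc3 : Nat.card (alternatingGroup Q) = 3 := by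
        rw [nat_card_alternatingGroup, Nat.card_eq_fintype_card, hQ, hj]
        rfl
      haveI : IsCyclic (alternatingGroup Q) := isCyclic_of_prime_card (p := 3) hc3
      refine ⟨congrArg Subtype.val
        ((IsCyclic.commutative (α := alternatingGroup Q)).is_comm.comm ⟨_, hAalt⟩ ⟨_, hBalt⟩), ?_⟩
      by_cases h : π B = 1
      · exact (hcentral _ _ h).symm
      · refine hcyclic _ _ ?_
        haveI : Fact (Nat.Prime 3) := ⟨Nat.prime_three⟩
        have htop := zpowers_eq_top_of_prime_card (p := 3) hc3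
          (g := ⟨π B, hBalt⟩) (fun h' => h (congrArg Subtype.val h'))
        have hmem : (⟨π A, hAalt⟩ : alternatingGroup Q) ∈ Subgroup.zpowers ⟨π B, hBalt⟩ := by
          rw [htop]; exact Subgroup.mem_top _
        obtain ⟨k, hk⟩ := Subgroup.mem_zpowers_iff.mp hmem
        exact Subgroup.mem_zpowers_iff.mpr ⟨k, by
          have := congrArg Subtype.val hk
          simpa using this⟩
    have hv := hdone (A * B * A⁻¹ * B⁻¹)
      (by simp only [map_mul, map_inv]; rw [hc.1.eq]; simp)
      (by simp only [map_mul, map_inv]; rw [hc.2.eq]; simp)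
    set v := ((A * B * A⁻¹ * B⁻¹ : N) : Equiv.Perm α) with hvdef
    set s₁ := (Equiv.swap (0 : Fin 4) 1 * Equiv.swap 0 2 *
      (Equiv.swap 0 1)⁻¹ * (Equiv.swap 0 2)⁻¹) with hs₁
    set s₂ := (Equiv.swap (0 : Fin 4) 1 * Equiv.swap 0 3 *
      (Equiv.swap 0 1)⁻¹ * (Equiv.swap 0 3)⁻¹) with hs₂
    set τ := s₁ * s₂ * s₁⁻¹ * s₂⁻¹ with hτ
    have hve : ∀ i, (v ^ r) (e i) = e ((τ ^ r) i) :=
      induced_pow (induced_commutator (induced_commutator h₁ h₂) (induced_commutator h₃ h₄)) r
    have hτ2 : τ ^ 2 = 1 := by rw [hτ, hs₁, hs₂]; decide +kernel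
    have hτr : τ ^ r = τ := by
      obtain ⟨m, hm⟩ := hr.odd_of_ne_two (by omega)
      rw [hm, pow_succ, pow_mul, hτ2, one_pow, one_mul]
    rw [hτr] at hve
    have hτm : ∀ i, τ i ≠ i := by rw [hτ, hs₁, hs₂]; decide +kernel
    obtain ⟨z, hz⟩ : ∃ z : α, z ∉ Set.range e := by
      obtain ⟨⟨z, hz⟩⟩ : Nonempty β := (Nat.card_pos_iff.mp (by rw [hβ]; omega)).1
      exact ⟨z, hz⟩
    obtain ⟨c, hcG, hc3⟩ := threeCycle_of_double (hmt 4 (by omega)) e z hz
      (G.pow_mem (A * B * A⁻¹ * B⁻¹ : N).2.1 r) τ (by rw [← pow_two, hτ2]) hτm hve hv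
    exact hA (Equiv.Perm.alternatingGroup_le_of_isPreprimitive_of_isThreeCycle_mem hprim hc3 hcG)

end CfsgLib.Perm.Twin
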