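import Cfsg.Agent.Lib.Perm.PrimeHalf
import Cfsg.Agent.Lib.Perm.PrimeHalfPrimitive
import Cfsg.Agent.Lib.Perm.Basic
import Cfsg.Agent.S0676
import Mathlib.GroupTheory.GroupAction.Jordan
import Mathlib.Combinatorics.Enumerative.DoubleCounting

/-!
Groups of prime degree `p = q + 2`, `q` prime, with a Sylow normaliser of order at least
`p (p - 1) / 2`: they are quintuply transitive.

A two point stabiliser is transitive on the other `q` points, since a primitive group cannot have
two suborbits of coprime sizes; the stabiliser of the pair then has a Sylow `q`-normaliser of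
even order.
-/

set_option autoImplicit false
set_option linter.style.haveILetI false

namespace CfsgLib.Perm.Twin

open MulAction
open scoped Pointwise

/-- A solvable transitive group of prime degree `q` has order dividing `q (q - 1)`. -/
theorem card_dvd_of_isSolvable {α : Type*} [Fintype α] [DecidableEq α] {q : ℕ} [Fact q.Prime]
    (hα : Fintype.card α = q) (K : Subgroup (Equiv.Perm α)) [IsPretransitive K α]
    (hK : Group.IsSolvable K) : Nat.card K ∣ q * (q - 1) := by
  classical
  have hq : q.Prime := Fact.out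
  have hα' : Nat.card α = q := by rw [Nat.card_eq_fintype_card, hα]
  haveI : IsPreprimitive K α := IsPreprimitive.of_prime_card (by rw [hα']; exact hq)
  haveI : Nontrivial α := Fintype.one_lt_card_iff_nontrivial.mp (hα ▸ hq.one_lt)
  obtain ⟨a, b, hab⟩ := exists_pair_ne α
  have hne : derivedSeries K 0 ≠ ⊥ := by
    rw [derivedSeries_zero]
    intro h
    obtain ⟨g, hg⟩ := exists_smul_eq K a b
    have : g ∈ (⊤ : Subgroup K) := Subgroup.mem_top g
    rw [h, Subgroup.mem_bot] at this
    rw [this, one_smul] at hg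
    exact hab hg
  obtain ⟨n, hn⟩ := hK.solvable
  obtain ⟨m, hm, hm1⟩ : ∃ m, derivedSeries K m ≠ ⊥ ∧ derivedSeries K (m + 1) = ⊥ := by
    induction n with
    | zero => exact absurd hn hne
    | succ n ih =>
      by_cases h : derivedSeries K n = ⊥
      · exact ih h
      · exact ⟨n, h, hn⟩
  set M := derivedSeries K m with hM
  haveI : M.Normal := derivedSeries_normal K m
  haveI : IsPretransitive M α := isPretransitive_of_normal M hm
  have hcomm : IsMulCommutative M := by
    rw [derivedSeries_succ, ← hM, Subgroup.commutator_eq_bot_iff_le_centralizer] at hm1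
    exact ⟨⟨fun x y => Subtype.ext (Subgroup.mem_centralizer_iff.mp (hm1 y.2) x x.2)⟩⟩
  have hcard : Nat.card M = q := by
    rw [card_eq_of_regular M a inferInstance (stabilizer_eq_bot_of_commutative M hcomm a), hα']
  obtain ⟨P, hP⟩ := (IsPGroup.of_card (p := q) (n := 1) (by rw [hcard, pow_one])).exists_le_sylow
  have hMP : (P : Subgroup K) = M :=
    (Subgroup.eq_of_le_of_card_ge hP (by rw [card_sylow_eq hα K P, hcard])).symm
  have h := card_normalizer_dvd hα K P
  rw [hMP, Subgroup.normalizer_eq_top (H := M)] at h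
  rwa [Subgroup.card_top] at h

/-- A primitive group has no two suborbits covering the other points whose sizes are coprime and
different. -/
theorem false_of_coprime_suborbits {H Δ : Type*} [Group H] [MulAction H Δ] [Finite Δ]
    [IsPreprimitive H Δ] (b : Δ) (A B : Set Δ) (hbA : b ∉ A) (hbB : b ∉ B) (hAB : Disjoint A B)
    (hu : ∀ x, x = b ∨ x ∈ A ∨ x ∈ B)
    (hAi : ∀ g : H, g • b = b → ∀ x ∈ A, g • x ∈ A)
    (hBi : ∀ g : H, g • b = b → ∀ x ∈ B, g • x ∈ B)
    (hAt : ∀ x ∈ A, ∀ y ∈ A, ∃ g : H, g • b = b ∧ g • x = y)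
    (hBt : ∀ x ∈ B, ∀ y ∈ B, ∃ g : H, g • b = b ∧ g • x = y)
    (hne : A.Nonempty) (hlt : A.ncard < B.ncard) (hco : Nat.Coprime A.ncard B.ncard) : False := by
  classical
  haveI := Fintype.ofFinite Δ
  let Rel : Δ → Δ → Prop := fun x y => ∃ g : H, g • b = x ∧ g⁻¹ • y ∈ A
  have hReq : ∀ (g : H) x y, Rel x y → Rel (g • x) (g • y) := by
    rintro g x y ⟨k, hk, hky⟩
    exact ⟨g * k, by rw [mul_smul, hk], by rwa [mul_inv_rev, mul_smul, inv_smul_smul]⟩
  have hRset : ∀ (g : H) x, g • b = x → {y | Rel x y} = (fun y => g • y) '' A := by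
    intro g x hg
    ext y
    constructor
    · rintro ⟨k, hk, hky⟩
      refine ⟨g⁻¹ • y, ?_, smul_inv_smul g y⟩
      have := hAi (g⁻¹ * k) (by rw [mul_smul, hk, ← hg, inv_smul_smul]) _ hky
      rwa [mul_smul, smul_inv_smul] at this
    · rintro ⟨z, hz, rfl⟩
      exact ⟨g, hg, by rwa [inv_smul_smul]⟩
  have hRcard : ∀ x, {y | Rel x y}.ncard = A.ncard := fun x => by
    obtain ⟨g, hg⟩ := exists_smul_eq H b x
    rw [hRset g x hg, Set.ncard_image_of_injective _ (MulAction.injective g)]
  have hRirr : ∀ x, ¬ Rel x x := by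
    rintro x ⟨k, hk, hkx⟩
    rw [← hk, inv_smul_smul] at hkx
    exact hbA hkx
  -- no neighbour of a point of `A` lies in `B`
  obtain ⟨x₀, hx₀⟩ := hne
  have hBne : B.Nonempty := Set.nonempty_of_ncard_ne_zero (by omega)
  obtain ⟨y₀, hy₀⟩ := hBne
  have hno : ∀ x ∈ A, ∀ y ∈ B, ¬ Rel x y := by
    let A' := A.toFinset
    let B' := B.toFinset
    have hdc := Finset.sum_card_bipartiteAbove_eq_sum_card_bipartiteBelow (s := A') (t := B') Rel
    have he : ∀ x ∈ A', (B'.bipartiteAbove Rel x).card = (B'.bipartiteAbove Rel x₀).card := by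
      intro x hx
      obtain ⟨g, hgb, hgx⟩ := hAt x₀ hx₀ x (Set.mem_toFinset.mp hx)
      have hgi : g⁻¹ • b = b := by rw [inv_smul_eq_iff, hgb]
      symm
      refine Finset.card_bij (fun y _ => g • y) ?_ (fun y _ z _ h => MulAction.injective g h) ?_
      · intro y hy
        simp only [Finset.mem_bipartiteAbove, B', Set.mem_toFinset] at hy ⊢
        exact ⟨hBi g hgb y hy.1, hgx ▸ hReq g _ _ hy.2⟩
      · intro y hy
        simp only [Finset.mem_bipartiteAbove, B', Set.mem_toFinset] at hy ⊢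
        refine ⟨g⁻¹ • y, ⟨hBi _ hgi y hy.1, ?_⟩, smul_inv_smul g y⟩
        have := hReq g⁻¹ _ _ hy.2
        rwa [← hgx, inv_smul_smul] at this
    have hf : ∀ y ∈ B', (A'.bipartiteBelow Rel y).card = (A'.bipartiteBelow Rel y₀).card := by
      intro y hy
      obtain ⟨g, hgb, hgy⟩ := hBt y₀ hy₀ y (Set.mem_toFinset.mp hy)
      have hgi : g⁻¹ • b = b := by rw [inv_smul_eq_iff, hgb]
      symm
      refine Finset.card_bij (fun x _ => g • x) ?_ (fun y _ z _ h => MulAction.injective g h) ?_
      · intro x hx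
        simp only [Finset.mem_bipartiteBelow, A', Set.mem_toFinset] at hx ⊢
        exact ⟨hAi g hgb x hx.1, hgy ▸ hReq g _ _ hx.2⟩
      · intro x hx
        simp only [Finset.mem_bipartiteBelow, A', Set.mem_toFinset] at hx ⊢
        refine ⟨g⁻¹ • x, ⟨hAi _ hgi x hx.1, ?_⟩, smul_inv_smul g x⟩
        have := hReq g⁻¹ _ _ hx.2
        rwa [← hgy, inv_smul_smul] at this
    rw [Finset.sum_congr rfl he, Finset.sum_congr rfl hf, Finset.sum_const, Finset.sum_const,
      smul_eq_mul, smul_eq_mul] at hdc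
    have hA' : A'.card = A.ncard := (Set.ncard_eq_toFinset_card' A).symm
    have hB' : B'.card = B.ncard := (Set.ncard_eq_toFinset_card' B).symm
    rw [hA', hB'] at hdc
    have hdvd : B.ncard ∣ (B'.bipartiteAbove Rel x₀).card :=
      hco.symm.dvd_of_dvd_mul_left ⟨_, hdc⟩
    have hle : (B'.bipartiteAbove Rel x₀).card ≤ A.ncard := by
      rw [← hRcard x₀, Set.ncard_eq_toFinset_card']
      exact Finset.card_le_card fun y hy => by
        simp only [Finset.mem_bipartiteAbove] at hy
        simpa using hy.2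
    have h0 : (B'.bipartiteAbove Rel x₀).card = 0 :=
      Nat.eq_zero_of_dvd_of_lt hdvd (by omega)
    intro x hx y hy hr
    have h1 := he x (Set.mem_toFinset.mpr hx)
    rw [h0, Finset.card_eq_zero] at h1
    have : y ∈ B'.bipartiteAbove Rel x := by
      simp only [Finset.mem_bipartiteAbove, B', Set.mem_toFinset]
      exact ⟨hy, hr⟩
    rw [h1] at this
    exact Finset.notMem_empty _ this
  let S : Δ → Set Δ := fun x => insert x {y | Rel x y}
  have hScard : ∀ x, (S x).ncard = A.ncard + 1 := fun x => by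
    show (insert x {y | Rel x y}).ncard = _
    rw [Set.ncard_insert_of_notMem (show x ∉ {y | Rel x y} from hRirr x), hRcard]
  have hSb : S b = insert b A := by
    show insert b _ = _
    rw [hRset 1 b (one_smul H b)]
    simp
  have hSA : ∀ x ∈ S b, S x = S b := by
    intro x hx
    rcases hx with rfl | hx
    · rfl
    have hxA : x ∈ A := by
      have h : {y | Rel b y} = A := by
        rw [hRset 1 b (one_smul H b)]
        simp
      rwa [h] at hx
    refine Set.eq_of_subset_of_ncard_le ?_ (by rw [hScard, hScard])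
    rw [hSb]
    rintro y (rfl | hy)
    · exact Or.inr hxA
    · rcases hu y with rfl | h | h
      · exact Or.inl rfl
      · exact Or.inr h
      · exact absurd hy (hno x hxA y h)
  have hSeq : ∀ (g : H) x, g • S x = S (g • x) := by
    intro g x
    refine Set.eq_of_subset_of_ncard_le ?_ (by rw [Set.ncard_smul_set, hScard, hScard])
    rintro _ ⟨y, hy, rfl⟩
    rcases hy with rfl | hy
    · exact Or.inl rfl
    · exact Or.inr (hReq g _ _ hy)
  have hblock : IsBlock H (S b) := by
    rw [isBlock_iff_smul_eq_or_disjoint]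
    intro g
    rw [or_iff_not_imp_right, Set.not_disjoint_iff]
    rintro ⟨z, hz1, hz2⟩
    obtain ⟨w, hw, rfl⟩ := hz1
    calc g • S b = g • S w := by rw [hSA w hw]
      _ = S (g • w) := hSeq g w
      _ = S b := hSA _ hz2
  rcases hblock.subsingleton_or_eq_univ with h | h
  · have hx' : x₀ ∈ S b := by rw [hSb]; exact Or.inr hx₀
    have := h (x := b) (Or.inl rfl) (y := x₀) hx'
    exact hbA (this ▸ hx₀)
  · have : y₀ ∈ S b := by rw [h]; exact Set.mem_univ _
    rw [hSb] at this
    rcases this with rfl | h'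
    · exact hbB hy₀
    · exact Set.disjoint_left.mp hAB h' hy₀

/-- With a large Sylow normaliser in degree `p = q + 2` a two point stabiliser is transitive on
the remaining points. -/
theorem three_key {G Ω : Type*} [Group G] [Finite G] [MulAction G Ω] [FaithfulSMul G Ω]
    [Fintype Ω] {p : ℕ} [Fact p.Prime] [IsPretransitive G Ω] (hΩ : Fintype.card Ω = p)
    (hins : ¬ Group.IsSolvable G) (P : Sylow p G)
    (hN : p * (p - 1) ≤ 2 * Nat.card ↥(Subgroup.normalizer ((P : Subgroup G) : Set G)))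
    (hp7 : 7 < p) (hq : (p - 2).Prime) (a b c c' : Ω) (hab : a ≠ b) (hca : c ≠ a) (hcb : c ≠ b)
    (hc'a : c' ≠ a) (hc'b : c' ≠ b) :
    ∃ g : G, g • a = a ∧ g • b = b ∧ g • c = c' := by
  classical
  by_contra hcc
  push Not at hcc
  obtain ⟨h2, -⟩ := two_transitive_of_not_isSolvable' (G := G) hΩ hins
  haveI := h2
  haveI := isPreprimitive_stabilizer_of_half hΩ hins P hN hp7 a
  let Or' : Ω → Ω → Prop := fun x y => ∃ g : G, g • a = a ∧ g • b = b ∧ g • x = y
  have hrefl : ∀ x, Or' x x := fun x => ⟨1, one_smul _ _, one_smul _ _, one_smul _ _⟩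
  have hsymm : ∀ x y, Or' x y → Or' y x := fun x y ⟨g, h1, h2, h3⟩ =>
    ⟨g⁻¹, by rw [inv_smul_eq_iff, h1], by rw [inv_smul_eq_iff, h2],
      by rw [inv_smul_eq_iff, h3]⟩
  have htrans : ∀ x y z, Or' x y → Or' y z → Or' x z := fun x y z ⟨g, h1, h2, h3⟩ ⟨k, k1, k2, k3⟩ =>
    ⟨k * g, by rw [mul_smul, h1, k1], by rw [mul_smul, h2, k2], by rw [mul_smul, h3, k3]⟩
  have hn : ¬ Or' c c' := fun ⟨g, h1, h2, h3⟩ => hcc g h1 h2 h3
  have hcover : ∀ x, x ≠ a → x ≠ b → Or' c x ∨ Or' c' x := by
    intro x hxa hxb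
    by_contra h
    push Not at h
    refine two_point_stabilizer_not_three_orbits hΩ hins P hN a b hab ![c, c', x] ?_ ?_ ?_
    · intro i; fin_cases i <;> [exact hca; exact hc'a; exact hxa]
    · intro i; fin_cases i <;> [exact hcb; exact hc'b; exact hxb]
    · intro i j g hga hgb hg
      have hg' : Or' (![c, c', x] i) (![c, c', x] j) := ⟨g, hga, hgb, hg⟩
      fin_cases i <;> fin_cases j <;>
        first
          | rfl
          | exact absurd hg' hn
          | exact absurd (hsymm _ _ hg') hn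
          | exact absurd hg' h.1
          | exact absurd (hsymm _ _ hg') h.1
          | exact absurd hg' h.2
          | exact absurd (hsymm _ _ hg') h.2
  let S := stabilizer G a
  let b' : SubMulAction.ofStabilizer G a := ⟨b, hab.symm⟩
  let O : Ω → Set (SubMulAction.ofStabilizer G a) := fun d => {x | Or' d x}
  have hOi : ∀ d, ∀ g : S, g • b' = b' → ∀ x ∈ O d, g • x ∈ O d := by
    rintro d ⟨g, hg⟩ hgb x hx
    exact htrans _ _ _ hx ⟨g, hg, congrArg Subtype.val hgb, rfl⟩
  have hOt : ∀ d, ∀ x ∈ O d, ∀ y ∈ O d, ∃ g : S, g • b' = b' ∧ g • x = y := by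
    intro d x hx y hy
    obtain ⟨g, h1, h2, h3⟩ := htrans _ _ _ (hsymm _ _ hx) hy
    exact ⟨⟨g, h1⟩, Subtype.ext h2, Subtype.ext h3⟩
  have hOb : ∀ d, d ≠ b → b' ∉ O d := fun d hd ⟨g, _, h2, h3⟩ =>
    hd (MulAction.injective g (h3.trans h2.symm))
  have hdisj : Disjoint (O c) (O c') := Set.disjoint_left.mpr fun x hx hx' =>
    hn (htrans _ _ _ hx (hsymm _ _ hx'))
  have hu : ∀ x, x = b' ∨ x ∈ O c ∨ x ∈ O c' := fun x => by
    by_cases hxb : x = b'
    · exact Or.inl hxb
    · exact Or.inr (hcover x x.2 fun h => hxb (Subtype.ext h))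
  have hsum : (O c).ncard + (O c').ncard + 1 = p - 1 := by
    have huniv : (Set.univ : Set (SubMulAction.ofStabilizer G a)) = insert b' (O c ∪ O c') := by
      ext x
      simpa using hu x
    have h : (Set.univ : Set (SubMulAction.ofStabilizer G a)).ncard = p - 1 := by
      rw [Set.ncard_univ, SubMulAction.nat_card_ofStabilizer_eq, Nat.card_eq_fintype_card, hΩ]
    rw [← h, huniv, Set.ncard_insert_of_notMem (fun h => h.elim (hOb c hcb) (hOb c' hc'b)),
      Set.ncard_union_eq hdisj]
  have hc1 : (⟨c, hca⟩ : SubMulAction.ofStabilizer G a) ∈ O c := hrefl c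
  have hc2 : (⟨c', hc'a⟩ : SubMulAction.ofStabilizer G a) ∈ O c' := hrefl c'
  have hp1 : 0 < (O c).ncard := (Set.ncard_pos).mpr ⟨_, hc1⟩
  have hp2 : 0 < (O c').ncard := (Set.ncard_pos).mpr ⟨_, hc2⟩
  have hqsum : (O c).ncard + (O c').ncard = p - 2 := by omega
  have hco : Nat.Coprime (O c).ncard (O c').ncard := by
    rw [← Nat.coprime_add_self_right, add_comm, hqsum]
    exact ((hq.coprime_iff_not_dvd).mpr fun h => by
      have := Nat.le_of_dvd hp1 h; omega).symm
  rcases lt_trichotomy (O c).ncard (O c').ncard with h | h | h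
  · exact false_of_coprime_suborbits b' (O c) (O c') (hOb c hcb) (hOb c' hc'b) hdisj hu (hOi c)
      (hOi c') (hOt c) (hOt c') ⟨_, hc1⟩ h hco
  · rw [h, Nat.coprime_self] at hco
    omega
  · exact false_of_coprime_suborbits b' (O c') (O c) (hOb c' hc'b) (hOb c hcb) hdisj.symm
      (fun x => (hu x).imp_right Or.symm) (hOi c') (hOi c) (hOt c') (hOt c) ⟨_, hc2⟩ h hco.symm

/-- An index two normal subgroup of a group permuting an odd number of points transitively is
still transitive, in the form: any point is moved to any other. -/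
theorem exists_smul_of_index_two {K : Type*} [Group K] {β : Type*} [MulAction K β]
    (S : Set β) (hS : Odd S.ncard) (L M : Subgroup K) (hLM : ∀ g ∈ M, ∀ k ∈ M, g ∈ L ∨ k ∈ L ∨ g⁻¹ * k ∈ L)
    (hSi : ∀ g ∈ M, ∀ x ∈ S, g • x ∈ S) (hL : L ≤ M) (hnorm : ∀ g ∈ M, ∀ l ∈ L, g⁻¹ * l * g ∈ L)
    (hMt : ∀ x ∈ S, ∀ y ∈ S, ∃ g ∈ M, g • x = y) :
    ∀ x ∈ S, ∀ y ∈ S, ∃ g ∈ L, g • x = y := by
  classical
  intro x hx y hy
  by_contra hxy
  push Not at hxy
  obtain ⟨m, hm, hmxy⟩ := hMt x hx y hy
  have hmL : m ∉ L := fun h => hxy m h hmxy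
  have hfin : S.Finite := Set.finite_of_ncard_pos hS.pos
  let O1 : Set β := (fun l : L => (l : K) • x) '' Set.univ
  have hO1 : ∀ z, z ∈ O1 ↔ ∃ l ∈ L, l • x = z := fun z => by simp [O1]
  have hsub : O1 ⊆ S := fun z hz => by
    obtain ⟨l, hl, rfl⟩ := (hO1 z).mp hz
    exact hSi l (hL hl) x hx
  have hcover : S = O1 ∪ (fun z => m • z) '' O1 := by
    ext z
    constructor
    · intro hz
      obtain ⟨g, hg, rfl⟩ := hMt x hx z hz
      rcases hLM m hm g hg with h | h | h
      · exact absurd h hmL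
      · exact Or.inl ((hO1 _).mpr ⟨g, h, rfl⟩)
      · exact Or.inr ⟨(m⁻¹ * g) • x, (hO1 _).mpr ⟨_, h, rfl⟩, by
          show m • _ = _
          rw [← mul_smul, mul_inv_cancel_left]⟩
    · rintro (hz | ⟨w, hw, rfl⟩)
      · exact hsub hz
      · exact hSi m hm w (hsub hw)
  have hdis : Disjoint O1 ((fun z => m • z) '' O1) := by
    rw [Set.disjoint_left]
    rintro z hz ⟨w, hw, rfl⟩
    obtain ⟨l, hl, rfl⟩ := (hO1 _).mp hw
    obtain ⟨k, hk, hkz⟩ := (hO1 _).mp hz
    have hl' : m * l⁻¹ * m⁻¹ * k ∈ L := L.mul_mem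
      (by simpa using hnorm m⁻¹ (M.inv_mem hm) _ (L.inv_mem hl)) hk
    refine hxy _ hl' ?_
    rw [mul_smul, hkz, mul_smul, mul_smul, inv_smul_smul, inv_smul_smul, hmxy]
  have h := hS
  rw [hcover, Set.ncard_union_eq hdis (hfin.subset hsub) ((hfin.subset hsub).image _),
    Set.ncard_image_of_injective _ (MulAction.injective m)] at h
  exact Nat.not_even_iff_odd.mpr h ⟨_, rfl⟩

end CfsgLib.Perm.Twin
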