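import Cfsg.Agent.Lib.Perm.TwinPrime
import Cfsg.Agent.S0676

/-!
Groups of prime degree `p = q + 2`, `q` prime, with Sylow normaliser of order `p (p - 1) / 2` are
quintuply transitive.
-/

set_option autoImplicit false
set_option linter.style.haveILetI false

namespace CfsgLib.Perm.Twin

open MulAction
open scoped Pointwise

/-- The arithmetic excluding a solvable two point stabiliser. -/
theorem no_affine_stabiliser {p q d : ℕ} (hq : q.Prime) (hq5 : 5 < q) (hpq : p = q + 2)
    (hd : d ∣ q - 1) (hd0 : 0 < d) (h : (2 * q * d) % p = 1) (hp : p.Prime) : False := by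
  subst hpq
  have hdle : d ≤ q - 1 := Nat.le_of_dvd (by omega) hd
  have hdvd : q + 2 ∣ 4 * d + 1 := by
    have h1 := Nat.div_add_mod (2 * q * d) (q + 2)
    rw [h] at h1
    have h2 : 2 * q * d + 4 * d = (q + 2) * (2 * d) := by ring
    refine ⟨2 * d - 2 * q * d / (q + 2), ?_⟩
    rw [Nat.mul_sub]
    omega
  obtain ⟨k, hk⟩ := hdvd
  have hq_odd : q % 2 = 1 := (hq.eq_two_or_odd).resolve_left (by omega)
  have hk4 : k < 4 := by
    by_contra hk'
    have : (q + 2) * 4 ≤ (q + 2) * k := Nat.mul_le_mul_left _ (Nat.le_of_not_lt hk')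
    omega
  obtain ⟨e, he⟩ := hd
  interval_cases k
  · exact absurd (hk.trans (mul_zero _)) (Nat.succ_ne_zero _)
  · -- `q + 1 = 4 d`
    have he5 : e < 5 := by
      by_contra he'
      have : d * 5 ≤ d * e := Nat.mul_le_mul_left _ (Nat.le_of_not_lt he')
      omega
    interval_cases e
    · omega
    · omega
    · omega
    · obtain rfl : q = 7 := by omega
      exact absurd hp (by decide)
    · omega
  · omega
  · -- `3 q + 5 = 4 d`
    have he2 : e < 2 := by
      by_contra he'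
      have : d * 2 ≤ d * e := Nat.mul_le_mul_left _ (Nat.le_of_not_lt he')
      omega
    interval_cases e
    · omega
    · have : q = 9 := by omega
      rw [this] at hq
      exact absurd hq (by decide)

variable {α : Type*} [Fintype α] [DecidableEq α]

/-- A group of degree `p = q + 2` as above is quintuply transitive. -/
theorem five_key {p q : ℕ} [Fact p.Prime] (hq : q.Prime) (hq5 : 5 < q) (hpq : p = q + 2)
    (hα : Fintype.card α = p) (G : Subgroup (Equiv.Perm α)) [IsPretransitive G α]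
    (hins : ¬ Group.IsSolvable G) (P : Sylow p G)
    (hN : 2 * Nat.card ↥(Subgroup.normalizer ((P : Subgroup G) : Set G)) = p * (p - 1)) :
    IsMultiplyPretransitive G α 5 := by
  classical
  have hp : p.Prime := Fact.out
  haveI : Fact q.Prime := ⟨hq⟩
  by_cases htop : G = ⊤
  · haveI : IsMultiplyPretransitive (Equiv.Perm α) α 5 := Equiv.Perm.isMultiplyPretransitive α 5
    refine ⟨fun u v => ?_⟩
    obtain ⟨σ, hσ⟩ := exists_smul_eq (Equiv.Perm α) u v
    exact ⟨⟨σ, htop ▸ Subgroup.mem_top σ⟩, hσ⟩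
  obtain ⟨h2, -⟩ := two_transitive_of_not_isSolvable' (G := G) hα hins
  haveI := h2
  haveI : IsPreprimitive G α := IsPreprimitive.of_prime_card (by
    rw [Nat.card_eq_fintype_card, hα]; exact hp)
  have h2t : ∀ {a b c d : α}, a ≠ b → c ≠ d → ∃ g : G, g • a = c ∧ g • b = d :=
    fun {a b c d} h h' => is_two_pretransitive_iff.mp inferInstance h h'
  have hkey3 := three_key (G := G) hα hins P hN.ge (by omega) (by rwa [hpq, Nat.add_sub_cancel])
  haveI : Nontrivial α := Fintype.one_lt_card_iff_nontrivial.mp (hα ▸ hp.one_lt)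
  obtain ⟨a, b, hab⟩ := exists_pair_ne α
  -- the stabilisers of the pair, pointwise and setwise, on the other points
  let β := {x : α // x ≠ a ∧ x ≠ b}
  have hβ : Fintype.card β = q := by
    rw [Fintype.card_subtype]
    have : (Finset.univ.filter fun x : α => x ≠ a ∧ x ≠ b) = Finset.univ \ {a, b} := by
      ext x; simp
    rw [this, Finset.card_sdiff_of_subset (Finset.subset_univ _), Finset.card_univ, hα,
      Finset.card_pair hab, hpq, Nat.add_sub_cancel]
  let K : Subgroup G :=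
    { carrier := {g | (g • a = a ∧ g • b = b) ∨ (g • a = b ∧ g • b = a)}
      one_mem' := Or.inl ⟨one_smul _ _, one_smul _ _⟩
      mul_mem' := by
        rintro g k (⟨g1, g2⟩ | ⟨g1, g2⟩) (⟨k1, k2⟩ | ⟨k1, k2⟩)
        · exact Or.inl ⟨by rw [mul_smul, k1, g1], by rw [mul_smul, k2, g2]⟩
        · exact Or.inr ⟨by rw [mul_smul, k1, g2], by rw [mul_smul, k2, g1]⟩
        · exact Or.inr ⟨by rw [mul_smul, k1, g1], by rw [mul_smul, k2, g2]⟩
        · exact Or.inl ⟨by rw [mul_smul, k1, g2], by rw [mul_smul, k2, g1]⟩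
      inv_mem' := by
        rintro g (⟨g1, g2⟩ | ⟨g1, g2⟩)
        · exact Or.inl ⟨by rw [inv_smul_eq_iff, g1], by rw [inv_smul_eq_iff, g2]⟩
        · exact Or.inr ⟨by rw [inv_smul_eq_iff, g2], by rw [inv_smul_eq_iff, g1]⟩ }
  have hKβ : ∀ g : K, ∀ x : α, ((g : G) : Equiv.Perm α) x ≠ a ∧ ((g : G) : Equiv.Perm α) x ≠ b ↔
      x ≠ a ∧ x ≠ b := by
    rintro ⟨g, hg⟩ x
    have hi : ∀ y, ((g : Equiv.Perm α) x = (g : Equiv.Perm α) y ↔ x = y) := fun y =>
      (g : Equiv.Perm α).injective.eq_iff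
    rcases hg with ⟨g1, g2⟩ | ⟨g1, g2⟩ <;>
      [skip; skip] <;>
      · replace g1 : (g : Equiv.Perm α) a = _ := g1
        replace g2 : (g : Equiv.Perm α) b = _ := g2
        have ha := hi a
        have hb := hi b
        rw [g1] at ha
        rw [g2] at hb
        simp only [ne_eq, ha, hb]
        try tauto
  let ψ : K →* Equiv.Perm β :=
    { toFun := fun g => ((g : G) : Equiv.Perm α).subtypePerm (hKβ g)
      map_one' := by ext; rfl
      map_mul' := fun g k => by ext; rfl }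
  let L : Subgroup K := (stabilizer G a).subgroupOf K
  have hLmem : ∀ g : K, g ∈ L ↔ (g : G) • a = a ∧ (g : G) • b = b := by
    intro g
    rw [Subgroup.mem_subgroupOf, mem_stabilizer_iff]
    refine ⟨fun h => ⟨h, ?_⟩, fun h => h.1⟩
    rcases g.2 with h' | h'
    · exact h'.2
    · exact absurd (h.symm.trans h'.1) hab
  have hψ : Function.Injective ψ := by
    rw [injective_iff_map_eq_one]
    intro g hg
    have hfix : ∀ x, x ≠ a → x ≠ b → ((g : G) : Equiv.Perm α) x = x := fun x hxa hxb =>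
      congrArg Subtype.val (Equiv.Perm.congr_fun hg ⟨x, hxa, hxb⟩)
    rcases g.2 with ⟨g1, g2⟩ | ⟨g1, g2⟩
    · refine Subtype.ext (Subtype.ext (Equiv.ext fun x => ?_))
      by_cases hxa : x = a
      · subst hxa; exact g1
      by_cases hxb : x = b
      · subst hxb; exact g2
      exact hfix x hxa hxb
    · exfalso
      refine htop (Equiv.Perm.subgroup_eq_top_of_isPreprimitive_of_isSwap_mem inferInstance
        _ ⟨a, b, hab, ?_⟩ (g : G).2)
      refine Equiv.ext fun x => ?_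
      by_cases hxa : x = a
      · subst hxa; rw [Equiv.swap_apply_left]; exact g1
      by_cases hxb : x = b
      · subst hxb; rw [Equiv.swap_apply_right]; exact g2
      rw [Equiv.swap_apply_of_ne_of_ne hxa hxb]
      exact hfix x hxa hxb
  set Kb := ψ.range with hKb
  set Lb := L.map ψ with hLb
  have hLK : Lb ≤ Kb := Subgroup.map_le_range _ _
  haveI hLbt : IsPretransitive Lb β := ⟨fun x y => by
    obtain ⟨g, g1, g2, g3⟩ := hkey3 a b x y hab x.2.1 x.2.2 y.2.1 y.2.2
    exact ⟨⟨ψ ⟨g, Or.inl ⟨g1, g2⟩⟩, Subgroup.mem_map_of_mem _ ((hLmem _).mpr ⟨g1, g2⟩)⟩,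
      Subtype.ext g3⟩⟩
  haveI : IsPretransitive Kb β := ⟨fun x y => by
    obtain ⟨g, hg⟩ := exists_smul_eq Lb x y
    exact ⟨⟨g, hLK g.2⟩, hg⟩⟩
  haveI : L.Normal := ⟨fun l hl g => by
    rw [hLmem] at hl ⊢
    show ((g : G) * (l : G) * (g : G)⁻¹) • a = a ∧ ((g : G) * (l : G) * (g : G)⁻¹) • b = b
    rcases g.2 with ⟨g1, g2⟩ | ⟨g1, g2⟩
    · constructor <;> rw [mul_smul, mul_smul]
      · rw [show ((g : G))⁻¹ • a = a by rw [inv_smul_eq_iff, g1], hl.1, g1]
      · rw [show ((g : G))⁻¹ • b = b by rw [inv_smul_eq_iff, g2], hl.2, g2]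
    · constructor <;> rw [mul_smul, mul_smul]
      · rw [show ((g : G))⁻¹ • a = b by rw [inv_smul_eq_iff, g2], hl.2, g2]
      · rw [show ((g : G))⁻¹ • b = a by rw [inv_smul_eq_iff, g1], hl.1, g1]⟩
  obtain ⟨s₀, hs₀a, hs₀b⟩ := h2t hab hab.symm
  let s : K := ⟨s₀, Or.inr ⟨hs₀a, hs₀b⟩⟩
  have hsL : s ∉ L := fun h => hab ((hLmem _).mp h |>.1.symm.trans hs₀a)
  have hidx : ∀ g k : K, g ∉ L → k ∉ L → g⁻¹ * k ∈ L := by
    intro g k hg hk
    rw [hLmem] at hg hk ⊢
    have hg' := g.2.resolve_left hg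
    have hk' := k.2.resolve_left hk
    exact ⟨by
      show ((g : G)⁻¹ * (k : G)) • a = a
      rw [mul_smul, hk'.1, inv_smul_eq_iff, hg'.1], by
      show ((g : G)⁻¹ * (k : G)) • b = b
      rw [mul_smul, hk'.2, inv_smul_eq_iff, hg'.2]⟩
  have hLi : L.index = 2 := by
    refine Subgroup.index_eq_two_iff.mpr ⟨s, fun g => ?_⟩
    by_cases hg : g ∈ L
    · exact Or.inr ⟨hg, fun h => hsL ((L.mul_mem_cancel_left hg).mp h)⟩
    · refine Or.inl ⟨?_, hg⟩
      have hs' : s⁻¹ ∉ L := fun h => hsL (by simpa using L.inv_mem h)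
      have hgi : g⁻¹ ∉ L := fun h => hg (by simpa using L.inv_mem h)
      simpa using hidx g⁻¹ s hgi hsL
  -- the pair stabiliser is not solvable
  have hKsol : ¬ Group.IsSolvable Kb := by
    intro hsol
    have hLsol : Group.IsSolvable Lb :=
      Group.isSolvable_of_isSolvable_injective (Subgroup.inclusion_injective hLK)
    have hLcard : Nat.card Lb ∣ q * (q - 1) := card_dvd_of_isSolvable hβ Lb hLsol
    have hqL : q ∣ Nat.card Lb := by
      obtain ⟨x⟩ : Nonempty β := Fintype.card_pos_iff.mp (hβ ▸ hq.pos)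
      rw [← hβ, ← Nat.card_eq_fintype_card (α := β), ← index_stabilizer_of_transitive Lb x]
      exact Subgroup.index_dvd_card _
    obtain ⟨d, hd⟩ := hqL
    have hdq : d ∣ q - 1 := Nat.dvd_of_mul_dvd_mul_left hq.pos (hd ▸ hLcard)
    -- the order of the group
    have hst : Nat.card (stabilizer G (a, b)) = Nat.card Lb := by
      rw [hLb, Subgroup.card_map_of_injective hψ]
      refine Nat.card_congr ⟨fun g => ⟨⟨g, Or.inl ?_⟩, ?_⟩, fun g => ⟨(g : K), ?_⟩,
        fun g => rfl, fun g => rfl⟩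
      · exact Prod.mk.injEq .. ▸ (mem_stabilizer_iff.mp g.2 : ((g : G) • a, (g : G) • b) = (a, b))
      · rw [hLmem]
        exact Prod.mk.injEq .. ▸ (mem_stabilizer_iff.mp g.2 : ((g : G) • a, (g : G) • b) = (a, b))
      · rw [mem_stabilizer_iff, Prod.smul_mk, ((hLmem _).mp g.2).1, ((hLmem _).mp g.2).2]
    have horb : orbit G (a, b) = ((Finset.univ : Finset α).offDiag : Set (α × α)) := by
      ext ⟨x, y⟩
      simp only [Finset.coe_offDiag, Finset.coe_univ, Set.mem_offDiag, Set.mem_univ, true_and]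
      constructor
      · rintro ⟨g, hg⟩ hxy
        simp only [Prod.smul_mk, Prod.mk.injEq] at hg
        exact hab (MulAction.injective g (hg.1.trans (hxy.trans hg.2.symm)))
      · intro hxy
        obtain ⟨g, g1, g2⟩ := h2t hab hxy
        exact ⟨g, by simp [g1, g2]⟩
    have hG : Nat.card G = Nat.card Lb * (p * (p - 1)) := by
      rw [← hst, ← (stabilizer G (a, b)).card_mul_index, index_stabilizer, horb,
        Set.ncard_coe_finset, Finset.offDiag_card, Finset.card_univ, hα, ← Nat.mul_sub_one]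
    have hn := P.card_eq_index_normalizer
    have hmod := card_sylow_modEq_one p G
    set N := Subgroup.normalizer ((P : Subgroup G) : Set G) with hNdef
    replace hn : Nat.card (Sylow p G) = N.index := hn
    have hcn : Nat.card N * N.index = Nat.card G := N.card_mul_index
    have hidx2 : N.index = 2 * q * d := by
      have h1 : p * (p - 1) * N.index = p * (p - 1) * (2 * q * d) := by
        rw [← hN, mul_assoc, hcn, hG, hd, ← hN]
        ring
      exact Nat.eq_of_mul_eq_mul_left (Nat.mul_pos hp.pos (by omega)) h1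
    have hd0 : 0 < d := Nat.pos_of_ne_zero fun h => by
      rw [h, mul_zero] at hd
      exact Nat.card_pos.ne' hd
    rw [hn, hidx2, Nat.ModEq] at hmod
    refine no_affine_stabiliser hq hq5 hpq hdq hd0 ?_ hp
    rw [hmod, Nat.one_mod_eq_one.mpr hp.one_lt.ne']
  -- its Sylow normaliser has even order
  obtain ⟨Q⟩ : Nonempty (Sylow q Kb) := inferInstance
  have hLbi : (Lb.subgroupOf Kb).index = 2 := by
    rw [← hLi]
    have : Lb.subgroupOf Kb = L.map ψ.rangeRestrict := by
      ext ⟨g, hg⟩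
      simp [Subgroup.mem_subgroupOf, hLb, Subgroup.mem_map, Subtype.ext_iff]
      rfl
    rw [this, Subgroup.index_map_of_bijective ⟨fun x y h => hψ (congrArg Subtype.val h),
      MonoidHom.rangeRestrict_surjective ψ⟩]
  haveI hLbn : (Lb.subgroupOf Kb).Normal := Subgroup.normal_of_index_eq_two hLbi
  have hQL : (Q : Subgroup Kb) ≤ Lb.subgroupOf Kb := by
    intro x hx
    by_contra hxL
    obtain ⟨k, hk⟩ := IsPGroup.iff_orderOf.mp Q.isPGroup' ⟨x, hx⟩
    rw [Subgroup.orderOf_mk] at hk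
    have hodd : Odd (orderOf x) := by
      rw [hk]; exact (Nat.Prime.odd_of_ne_two hq (by omega)).pow
    obtain ⟨m, hm⟩ := hodd
    apply hxL
    have h1 : x ^ (2 * m) ∈ Lb.subgroupOf Kb := by
      rw [pow_mul]
      exact Subgroup.pow_mem _ (Subgroup.sq_mem_of_index_two hLbi x) m
    have h2 : x ^ (2 * m) * x = 1 := by rw [← pow_succ, ← hm, pow_orderOf_eq_one]
    rw [← inv_mem_iff]
    rwa [← eq_inv_of_mul_eq_one_left h2]
  have heven : Even (Nat.card (Subgroup.normalizer ((Q : Subgroup Kb) : Set Kb))) := by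
    set N := Subgroup.normalizer ((Q : Subgroup Kb) : Set Kb) with hNdef
    have hF : N ⊔ Lb.subgroupOf Kb = ⊤ := by
      have h := Sylow.normalizer_sup_eq_top (Q.subtype hQL)
      rwa [Sylow.coe_subtype, Subgroup.map_subgroupOf_eq_of_le hQL] at h
    by_contra hev
    rw [Nat.not_even_iff_odd] at hev
    have hNL : N ≤ Lb.subgroupOf Kb := by
      intro x hx
      have hox : Odd (orderOf x) := Odd.of_dvd_nat hev (Subgroup.orderOf_dvd_natCard N hx)
      obtain ⟨m, hm⟩ := hox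
      have h1 : x ^ (2 * m) ∈ Lb.subgroupOf Kb := by
        rw [pow_mul]
        exact Subgroup.pow_mem _ (Subgroup.sq_mem_of_index_two hLbi x) m
      have h2 : x ^ (2 * m) * x = 1 := by rw [← pow_succ, ← hm, pow_orderOf_eq_one]
      rw [← inv_mem_iff]
      rwa [← eq_inv_of_mul_eq_one_left h2]
    rw [sup_eq_right.mpr hNL] at hF
    rw [hF, Subgroup.index_top] at hLbi
    exact absurd hLbi (by norm_num)
  have hK3 : IsMultiplyPretransitive Kb β 3 := Cfsg.Agent.S0676.result hβ Kb hKsol Q heven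
  have hK3' : ∀ {x y z x' y' z' : β}, x ≠ y → x ≠ z → y ≠ z → x' ≠ y' → x' ≠ z' → y' ≠ z' →
      ∃ g : K, ψ g x = x' ∧ ψ g y = y' ∧ ψ g z = z' := by
    intro x y z x' y' z' h1 h2 h3 h1' h2' h3'
    let u : Fin 3 ↪ β := ⟨![x, y, z], by
      intro i j h; fin_cases i <;> fin_cases j <;> simp at h <;>
        first | rfl | exact absurd h h1 | exact absurd h.symm h1 | exact absurd h h2 |
          exact absurd h.symm h2 | exact absurd h h3 | exact absurd h.symm h3⟩
    let u' : Fin 3 ↪ β := ⟨![x', y', z'], by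
      intro i j h; fin_cases i <;> fin_cases j <;> simp at h <;>
        first | rfl | exact absurd h h1' | exact absurd h.symm h1' | exact absurd h h2' |
          exact absurd h.symm h2' | exact absurd h h3' | exact absurd h.symm h3'⟩
    obtain ⟨⟨_, g, rfl⟩, hg⟩ := exists_smul_eq Kb u u'
    exact ⟨g, DFunLike.congr_fun hg 0, DFunLike.congr_fun hg 1, DFunLike.congr_fun hg 2⟩
  -- the pointwise stabiliser is triply transitive on the rest
  letI : MulAction K β := MulAction.compHom β ψ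
  have hLM : ∀ g k : K, g ∈ L ∨ k ∈ L ∨ g⁻¹ * k ∈ L := fun g k => by
    by_cases hg : g ∈ L
    · exact Or.inl hg
    by_cases hk : k ∈ L
    · exact Or.inr (Or.inl hk)
    exact Or.inr (Or.inr (hidx g k hg hk))
  have hexists : ∀ x y : β, ∃ z : β, z ≠ x ∧ z ≠ y := fun x y => by
    obtain ⟨z, -, hz⟩ := Finset.exists_mem_notMem_of_card_lt_card (s := ({x, y} : Finset β))
      (t := Finset.univ) (lt_of_le_of_lt Finset.card_le_two (by rw [Finset.card_univ, hβ]; omega))
    simp only [Finset.mem_insert, Finset.mem_singleton, not_or] at hz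
    exact ⟨z, hz⟩
  have hL2 : ∀ x y : β, x ≠ y → ∀ z z' : β, z ≠ x → z ≠ y → z' ≠ x → z' ≠ y →
      ∃ g : K, g ∈ L ∧ ψ g x = x ∧ ψ g y = y ∧ ψ g z = z' := by
    intro x y hxy z z' hzx hzy hz'x hz'y
    let M : Subgroup K := stabilizer K x ⊓ stabilizer K y
    have hS : Odd ({w : β | w ≠ x ∧ w ≠ y}).ncard := by
      rw [show {w : β | w ≠ x ∧ w ≠ y} = Set.univ \ {x, y} by ext w; simp,
        Set.ncard_sdiff (Set.subset_univ _), Set.ncard_univ, Set.ncard_pair hxy,
        Nat.card_eq_fintype_card, hβ]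
      obtain ⟨m, hm⟩ := hq.odd_of_ne_two (by omega)
      exact ⟨m - 1, by omega⟩
    obtain ⟨g, hg, hgz⟩ := exists_smul_of_index_two {w : β | w ≠ x ∧ w ≠ y} hS (L ⊓ M) M
      (fun g hg k hk => (hLM g k).imp (fun h => ⟨h, hg⟩)
        (Or.imp (fun h => ⟨h, hk⟩) (fun h => ⟨h, M.mul_mem (M.inv_mem hg) hk⟩)))
      (fun g hg w hw => ⟨fun h => hw.1 (MulAction.injective g (h.trans hg.1.symm)),
        fun h => hw.2 (MulAction.injective g (h.trans hg.2.symm))⟩)
      inf_le_right
      (fun g hg l hl => ⟨by simpa using ‹L.Normal›.conj_mem l hl.1 g⁻¹,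
        M.mul_mem (M.mul_mem (M.inv_mem hg) hl.2) hg⟩)
      (fun w hw w' hw' => by
        obtain ⟨g, g1, g2, g3⟩ := hK3' hxy hw.1.symm hw.2.symm hxy hw'.1.symm hw'.2.symm
        exact ⟨g, ⟨g1, g2⟩, g3⟩)
      z ⟨hzx, hzy⟩ z' ⟨hz'x, hz'y⟩
    exact ⟨g, hg.1, hg.2.1, hg.2.2, hgz⟩
  have hL1 : ∀ x z z' : β, z ≠ x → z' ≠ x → ∃ g : K, g ∈ L ∧ ψ g x = x ∧ ψ g z = z' := by
    intro x z z' hz hz'
    obtain ⟨w, hw⟩ : ∃ w : β, w ∉ ({x, z, z'} : Finset β) :=
      (Finset.exists_mem_notMem_of_card_lt_card (t := Finset.univ)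
        (lt_of_le_of_lt Finset.card_le_three (by rw [Finset.card_univ, hβ]; omega))).imp
          fun c h => h.2
    simp only [Finset.mem_insert, Finset.mem_singleton, not_or] at hw
    obtain ⟨g, hg, g1, -, g3⟩ := hL2 x w (Ne.symm hw.1) z z' hz (Ne.symm hw.2.1) hz' (Ne.symm hw.2.2)
    exact ⟨g, hg, g1, g3⟩
  -- conclusion
  refine ⟨fun u v => ?_⟩
  suffices key : ∀ u : Fin 5 ↪ α, ∀ c d e : β, c ≠ d → c ≠ e → d ≠ e →
      ∃ g : G, g • u 0 = a ∧ g • u 1 = b ∧ g • u 2 = c ∧ g • u 3 = d ∧ g • u 4 = e by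
    obtain ⟨⟨c, hc⟩⟩ : Nonempty β := Fintype.card_pos_iff.mp (hβ ▸ hq.pos)
    obtain ⟨d, hd, -⟩ := hexists ⟨c, hc⟩ ⟨c, hc⟩
    obtain ⟨e, he, he'⟩ := hexists ⟨c, hc⟩ d
    obtain ⟨g, a0, a1, a2, a3, a4⟩ := key u ⟨c, hc⟩ d e hd.symm he.symm he'.symm
    obtain ⟨k, b0, b1, b2, b3, b4⟩ := key v ⟨c, hc⟩ d e hd.symm he.symm he'.symm
    refine ⟨k⁻¹ * g, ?_⟩
    ext i
    show (k⁻¹ * g) • u i = v i
    rw [mul_smul, inv_smul_eq_iff]
    fin_cases i
    · exact a0.trans b0.symm
    · exact a1.trans b1.symm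
    · exact a2.trans b2.symm
    · exact a3.trans b3.symm
    · exact a4.trans b4.symm
  intro u c d e hcd hce hde
  have hu : ∀ i j : Fin 5, i ≠ j → u i ≠ u j := fun i j h => u.injective.ne h
  obtain ⟨g, g0, g1⟩ := h2t (hu 0 1 (by decide)) hab
  have hmem : ∀ i : Fin 5, i ≠ 0 → i ≠ 1 → g • u i ≠ a ∧ g • u i ≠ b := fun i h0 h1 =>
    ⟨fun h => hu i 0 h0 (MulAction.injective g (h.trans g0.symm)),
      fun h => hu i 1 h1 (MulAction.injective g (h.trans g1.symm))⟩
  let x : β := ⟨g • u 2, hmem 2 (by decide) (by decide)⟩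
  let y : β := ⟨g • u 3, hmem 3 (by decide) (by decide)⟩
  let z : β := ⟨g • u 4, hmem 4 (by decide) (by decide)⟩
  have hxy : x ≠ y := fun h => hu 2 3 (by decide) (MulAction.injective g (congrArg Subtype.val h))
  have hxz : x ≠ z := fun h => hu 2 4 (by decide) (MulAction.injective g (congrArg Subtype.val h))
  have hyz : y ≠ z := fun h => hu 3 4 (by decide) (MulAction.injective g (congrArg Subtype.val h))
  -- move the third point
  obtain ⟨l₁, h11, h12⟩ : ∃ l : K, l ∈ L ∧ ψ l x = c := by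
    obtain ⟨⟨_, l, hl, rfl⟩, h⟩ := exists_smul_eq Lb x c
    exact ⟨l, hl, h⟩
  obtain ⟨l₂, h21, h22, h23⟩ := hL1 c (ψ l₁ y) d
    (fun h => hxy ((ψ l₁).injective (h12.trans h.symm))) hcd.symm
  obtain ⟨l₃, h31, h32, h33, h34⟩ := hL2 c d hcd (ψ l₂ (ψ l₁ z)) e
    (fun h => hxz ((ψ l₁).injective ((ψ l₂).injective (((congrArg (ψ l₂) h12).trans h22).trans h.symm))))
    (fun h => hyz ((ψ l₁).injective ((ψ l₂).injective (h23.trans h.symm)))) hce.symm hde.symm
  have hfix : ∀ l : K, l ∈ L → (l : G) • a = a ∧ (l : G) • b = b := fun l hl => (hLmem l).mp hl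
  refine ⟨(l₃ : G) * l₂ * l₁ * g, ?_, ?_, ?_, ?_, ?_⟩ <;> simp only [mul_smul]
  · rw [g0, (hfix _ h11).1, (hfix _ h21).1, (hfix _ h31).1]
  · rw [g1, (hfix _ h11).2, (hfix _ h21).2, (hfix _ h31).2]
  · show ((ψ l₃ (ψ l₂ (ψ l₁ x)) : β) : α) = c
    rw [h12, h22, h32]
  · show ((ψ l₃ (ψ l₂ (ψ l₁ y)) : β) : α) = d
    rw [h23, h33]
  · show ((ψ l₃ (ψ l₂ (ψ l₁ z)) : β) : α) = e
    rw [h34]

end CfsgLib.Perm.Twin
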